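import Cfsg.Agent.Lib.J4Six76.Local

/-!
# The images of `x`, `y`, `t`, `u` on the core modulo its centre
-/

set_option autoImplicit false
set_option linter.style.haveILetI false

namespace Cfsg.Agent.Lib.J4Six76

open Cfsg Cfsg.Agent.Lib.J4Local Cfsg.Agent.Lib.J4Recog76

theorem rho_mk_fixed {C : Type*} [Group C] {z : C} {Q : Subgroup C} (B : Base z Q) (g : C) (q : ↥Q) :
    B.conjBar g (QuotientGroup.mk q) = QuotientGroup.mk q ↔
      g * q * g⁻¹ * (q : C)⁻¹ = 1 ∨ g * q * g⁻¹ * (q : C)⁻¹ = z := by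
  rw [B.conjBar_mk g q (B.normal.conj_mem _ q.2 _), QuotientGroup.eq_iff_div_mem, B.mem_center_iff,
    div_eq_mul_inv]
  rfl

namespace Six

variable {C : Type*} [Group C] [Finite C] {x y t z u s : C} {π : ↥(Cn x) →* AutM22}

/-- A fixed vector of an element of order three lifts to a fixed element. -/
theorem fixed_lift (h : Six x y t z u s π) {a : C} (ha : a ^ 3 = 1)
    (v : h.base.Bar) :
    letI := h.base.barGroup
    letI := h.base.barModule
    h.base.rho a v = v → ∃ q : ↥(pCore 2 C), (q : C) ∈ Cn a ∧ Additive.ofMul (QuotientGroup.mk q) = v := by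
  letI := h.base.barGroup
  letI := h.base.barModule
  haveI := h.zNormal
  intro hv
  obtain ⟨q0, rfl⟩ := Additive.ofMul.surjective v
  induction q0 using QuotientGroup.induction_on with | H q => ?_
  have hpow : ∀ k : ℕ, h.base.rho (a ^ k) (Additive.ofMul (QuotientGroup.mk q)) =
      Additive.ofMul (QuotientGroup.mk q) := by
    intro k
    induction k with
    | zero => rw [pow_zero, map_one]; rfl
    | succ k ih => rw [pow_succ, map_mul, Module.End.mul_apply, hv, ih]
  have hz3 : (Nat.card ↥(Subgroup.zpowers a)).Coprime (Nat.card ↥(Subgroup.zpowers z)) := by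
    rw [h.zpow_z_card, Nat.card_zpowers]
    exact Nat.Coprime.coprime_dvd_left (orderOf_dvd_of_pow_eq_one ha) (by norm_num)
  obtain ⟨n, hn, hfix⟩ := Coprime.exists_fixed_mul (A := Subgroup.zpowers a)
    (N := Subgroup.zpowers z) (fun c _ => mem_normalizer_of_normal _ c) hz3
    (Or.inl (Coprime.isSolvable_zpowers a)) (k := (q : C)) (by
      intro g hg
      obtain ⟨k, rfl⟩ := mem_powers_iff_mem_zpowers.mpr hg
      rcases (rho_mk_fixed h.base (a ^ k) q).mp (congrArg Additive.toMul (hpow k)) with e | e <;> rw [e]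
      exacts [one_mem _, Subgroup.mem_zpowers z])
  refine ⟨⟨n * q, mul_mem (Subgroup.zpowers_le.mpr h.z_mem hn) q.2⟩,
    mem_cn.mpr (Subgroup.mem_centralizer_iff.mp hfix a (Subgroup.mem_zpowers a)).symm, ?_⟩
  refine congrArg Additive.ofMul ?_
  rw [QuotientGroup.eq, h.base.mem_center_iff]
  change (n * (q : C))⁻¹ * q = 1 ∨ (n * (q : C))⁻¹ * q = z
  rw [mul_inv_rev, show (q : C)⁻¹ * n⁻¹ * q = n⁻¹ by
    rw [mul_assoc, ((h.z_comm (inv_mem hn) q)).eq, inv_mul_cancel_left]]
  exact h.z_cases (inv_mem hn)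

theorem mk_fixed (h : Six x y t z u s π) {a : C} (q : ↥(pCore 2 C)) (hq : (q : C) ∈ Cn a) :
    letI := h.base.barGroup
    letI := h.base.barModule
    h.base.rho a (Additive.ofMul (QuotientGroup.mk q)) = Additive.ofMul (QuotientGroup.mk q) := by
  letI := h.base.barGroup
  letI := h.base.barModule
  refine congrArg Additive.ofMul ((rho_mk_fixed h.base a q).mpr (Or.inl ?_))
  rw [(mem_cn.mp hq).symm.eq, mul_inv_cancel_right, mul_inv_cancel]

/-- A line of order 32 gives a plane over the four element field. -/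
theorem finrank_line (h : Six x y t z u s π) {a : C} (ha : a ^ 3 = 1)
    (hc : Nat.card ↥(pCore 2 C ⊓ Cn a) = 32) :
    letI := h.base.barGroup
    letI := h.base.barModule
    Module.finrank (ZMod 2) ↥(fixedSp (h.base.rho a)) = 4 := by
  letI := h.base.barGroup
  letI := h.base.barModule
  haveI : Fact (Nat.Prime 2) := ⟨Nat.prime_two⟩
  haveI : Module.Finite (ZMod 2) h.base.Bar := Module.Finite.of_finite
  let f : ↥(pCore 2 C ⊓ Cn a) →* ↥(pCore 2 C) ⧸ Subgroup.center ↥(pCore 2 C) :=
    (QuotientGroup.mk' _).comp (Subgroup.inclusion inf_le_left)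
  have hker : Nat.card f.ker = 2 := by
    have hk : f.ker = (Subgroup.zpowers z).subgroupOf (pCore 2 C ⊓ Cn a) := by
      ext q
      rw [MonoidHom.mem_ker, Subgroup.mem_subgroupOf]
      change (QuotientGroup.mk (Subgroup.inclusion inf_le_left q) : ↥(pCore 2 C) ⧸ _) = 1 ↔ _
      rw [QuotientGroup.eq_one_iff, h.base.mem_center_iff]
      constructor
      · rintro (e | e)
        · rw [show (q : C) = 1 from e]; exact one_mem _
        · rw [show (q : C) = z from e]; exact Subgroup.mem_zpowers z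
      · exact fun hq => h.z_cases hq
    rw [hk, Nat.card_congr (Subgroup.subgroupOfEquivOfLe
      (le_inf (Subgroup.zpowers_le.mpr h.z_mem) (h.zCn a))).toEquiv, h.zpow_z_card]
  have h1 := Subgroup.card_mul_index f.ker
  rw [hker, hc, Subgroup.index_ker] at h1
  have e : ↥f.range ≃ ↥(fixedSp (h.base.rho a)) :=
    { toFun := fun r => ⟨Additive.ofMul r.1, by
        obtain ⟨_, q, rfl⟩ := r
        exact mem_fixedSp.mpr (h.mk_fixed ⟨q, q.2.1⟩ q.2.2)⟩
      invFun := fun v => ⟨Additive.toMul v.1, by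
        obtain ⟨q, hq, e⟩ := h.fixed_lift ha v.1 (mem_fixedSp.mp v.2)
        exact ⟨⟨q, q.2, hq⟩, congrArg Additive.toMul e⟩⟩
      left_inv := fun r => rfl
      right_inv := fun v => rfl }
  rw [Nat.card_congr e, Module.natCard_eq_pow_finrank (K := ZMod 2), Nat.card_zmod] at h1
  have : (2 : ℕ) ^ Module.finrank (ZMod 2) ↥(fixedSp (h.base.rho a)) = 2 ^ 4 := by omega
  exact Nat.pow_right_injective le_rfl this

theorem planes (h : Six x y t z u s π) :
    letI := h.base.barGroup
    letI := h.base.barModule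
    Planes (h.base.rho x) (h.base.rho y) (h.base.rho t) (h.base.rho u) := by
  letI := h.base.barGroup
  letI := h.base.barModule
  haveI := h.eNormal
  haveI : Module.Finite (ZMod 2) h.base.Bar := Module.Finite.of_finite
  have hx2 : x⁻¹ = x ^ 2 := (eq_inv_of_mul_eq_one_left (by rw [← pow_succ, h.x3])).symm
  have hmap : ∀ {a b : C}, Commute a b → Commute (h.base.rho a) (h.base.rho b) := fun hc => hc.map _
  have hline : ∀ i : ℕ, (y * x ^ i) ^ 3 = 1 := fun i => by
    rw [(h.yx.pow_right i).mul_pow, h.y3, ← pow_mul, mul_comm, pow_mul, h.x3, one_pow, one_mul]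
  refine ⟨by rw [← map_pow, h.x3, map_one], fun v hv => ?_, hmap h.yx.symm, hmap h.tx,
    hmap (h.ty y (Commute.refl y)).symm, ?_, ?_, hmap h.uy, hmap (h.ty u h.uy), h.base.inj_rho u,
    h.finrank_line h.y3 h.U_card, ?_, ?_, ?_, fun v hv => ?_, ?_, finrank_bar h.base⟩
  · obtain ⟨q, hq, rfl⟩ := h.fixed_lift h.x3 v hv
    have hz : (q : C) ∈ Subgroup.zpowers z := h.CE_x ▸ ⟨q.2, hq⟩
    exact congrArg Additive.ofMul ((QuotientGroup.eq_one_iff q).mpr
      ((h.base.mem_center_iff q).mpr (h.z_cases hz)))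
  · rw [← map_mul, show t * t = 1 by rw [← pow_two, ← h.ht, pow_orderOf_eq_one], map_one]
  · rw [← map_pow, ← map_mul, ← map_mul, ← hx2, show u * x = x⁻¹ * u by
      rw [← mul_inv_eq_iff_eq_mul]; exact h.ux]
  · rw [← map_mul]
    have h1 := h.finrank_line (hline 1) (by rw [pow_one, h.card_line1, h.U_card])
    rwa [pow_one] at h1
  · rw [← map_pow, ← map_mul]
    exact h.finrank_line (hline 2) (by rw [h.card_line2, h.U_card])
  · rw [← map_pow, ← map_mul, ← map_mul, eq_top_iff]
    rintro v -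
    set S := fixedSp (h.base.rho y) ⊔
      (fixedSp (h.base.rho (y * x)) ⊔ fixedSp (h.base.rho (y * x ^ 2))) with hS
    let T : Subgroup C :=
      ((AddSubgroup.toSubgroup S.toAddSubgroup).comap (QuotientGroup.mk' _)).map (pCore 2 C).subtype
    have hin : ∀ a, fixedSp (h.base.rho a) ≤ S → pCore 2 C ⊓ Cn a ≤ T := fun a hle q hq =>
      ⟨⟨q, hq.1⟩, hle (mem_fixedSp.mpr (h.mk_fixed ⟨q, hq.1⟩ hq.2)), rfl⟩
    have hzT : Subgroup.zpowers z ≤ T := by
      rw [Subgroup.zpowers_le]
      refine ⟨⟨z, h.z_mem⟩, ?_, rfl⟩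
      change Additive.ofMul (QuotientGroup.mk ⟨z, h.z_mem⟩ : ↥(pCore 2 C) ⧸ _) ∈ S
      rw [(QuotientGroup.eq_one_iff _).mpr ((h.base.mem_center_iff _).mpr (Or.inr rfl))]
      exact zero_mem S
    have hle := h.lines (pCore 2 C) le_rfl hzT (hin y le_sup_left)
      (hin _ (le_sup_left.trans le_sup_right)) (hin _ (le_sup_right.trans le_sup_right))
    obtain ⟨q0, rfl⟩ := Additive.ofMul.surjective v
    induction q0 using QuotientGroup.induction_on with | H q => ?_
    obtain ⟨q', hq', e⟩ := hle q.2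
    rw [show q' = q from Subtype.ext e] at hq'
    exact hq'
  · obtain ⟨q, hq, rfl⟩ := h.fixed_lift h.y3 v (mem_fixedSp.mp hv)
    exact h.mk_fixed q (mem_cn.mpr (h.ty q (mem_cn.mp hq)))
  · intro e
    exact h.t_not_mem (mem_of_rho_eq_one h.base h.core_max e)

/-- The elements centralising `t` modulo the core. -/
noncomputable def Dt (h : Six x y t z u s π) : Subgroup C :=
  letI := h.base.barGroup
  letI := h.base.barModule
  (Subgroup.centralizer ({toIsom h.base t} : Set _)).comap (toIsom h.base)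

theorem mem_Dt (h : Six x y t z u s π) {d : C} :
    d ∈ h.Dt ↔ h.base.rho (d * t) = h.base.rho (t * d) := by
  letI := h.base.barGroup
  letI := h.base.barModule
  unfold Dt
  rw [Subgroup.mem_comap, Subgroup.mem_centralizer_singleton_iff, ← map_mul, ← map_mul]
  constructor
  · intro e
    refine LinearMap.ext fun v => ?_
    exact congrArg (fun g : Symplectic.Isom (form h.base) => (g : h.base.Bar ≃ₗ[ZMod 2] h.base.Bar) v) e
  · intro e
    exact Subtype.ext (LinearEquiv.ext fun v => LinearMap.congr_fun e v)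

theorem Dt_of_comm (h : Six x y t z u s π) {d : C} (hd : Commute d t) : d ∈ h.Dt :=
  h.mem_Dt.mpr (by rw [hd.eq])

theorem Dt_comm (h : Six x y t z u s π) {d : C} (hd : d ∈ h.Dt) :
    d * t * d⁻¹ * t⁻¹ ∈ pCore 2 C := by
  letI := h.base.barGroup
  letI := h.base.barModule
  refine mem_of_rho_eq_one h.base h.core_max ?_
  rw [map_mul, map_mul, h.mem_Dt.mp hd, ← map_mul, ← map_mul,
    mul_inv_cancel_right, mul_inv_cancel, map_one]

end Six

end Cfsg.Agent.Lib.J4Six76
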