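import Cfsg.Agent.Lib.Coprime.Generation
import Cfsg.Agent.Lib.Coprime.Glauberman
import Cfsg.Agent.Lib.PLocal.Replacement

/-!
# Counting tools for the recognition of the Janko-four type from a sixfold cover
-/

set_option autoImplicit false
set_option linter.style.haveILetI false

namespace Cfsg.Agent.Lib.J4Six76

variable {C : Type*} [Group C]

/-- The centraliser of an element. -/
abbrev Cn (a : C) : Subgroup C := Subgroup.centralizer ({a} : Set C)

theorem mem_cn {a c : C} : c ∈ Cn a ↔ Commute c a := Subgroup.mem_centralizer_singleton_iff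

theorem mem_cn' {a c : C} : c ∈ Cn a ↔ c * a * c⁻¹ = a := by
  rw [mem_cn, mul_inv_eq_iff_eq_mul]; rfl

theorem cn_inv (a : C) : Cn a⁻¹ = Cn a := by
  ext c; rw [mem_cn, mem_cn, Commute.inv_right_iff]

theorem conj_mem_cn {a c d : C} (h : c ∈ Cn a) : d * c * d⁻¹ ∈ Cn (d * a * d⁻¹) := by
  rw [mem_cn] at h ⊢
  change d * c * d⁻¹ * (d * a * d⁻¹) = d * a * d⁻¹ * (d * c * d⁻¹)
  rw [show d * c * d⁻¹ * (d * a * d⁻¹) = d * (c * a) * d⁻¹ by group, h.eq]; group

theorem mem_normalizer_of_normal (X : Subgroup C) [X.Normal] (c : C) :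
    c ∈ Subgroup.normalizer (X : Set C) := by rw [Subgroup.normalizer_eq_top X]; trivial

theorem conj_mem_inf_cn {X : Subgroup C} [hX : X.Normal] {a d e : C} (hd : d ∈ Cn a)
    (he : e ∈ X ⊓ Cn a) : d * e * d⁻¹ ∈ X ⊓ Cn a :=
  Subgroup.mem_inf.mpr ⟨hX.conj_mem e (Subgroup.mem_inf.mp he).1 d,
    (Cn a).mul_mem ((Cn a).mul_mem hd (Subgroup.mem_inf.mp he).2) ((Cn a).inv_mem hd)⟩

theorem mem_normalizer_inf_cn (X : Subgroup C) [X.Normal] {a d : C} (hd : d ∈ Cn a) :
    d ∈ Subgroup.normalizer ((X ⊓ Cn a : Subgroup C) : Set C) :=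
  Subgroup.mem_normalizer_iff.mpr fun e => ⟨conj_mem_inf_cn hd, fun he => by
    have := conj_mem_inf_cn ((Cn a).inv_mem hd) he
    rwa [show d⁻¹ * (d * e * d⁻¹) * d⁻¹⁻¹ = e by group] at this⟩

theorem card_sup [Finite C] (H K : Subgroup C) [K.Normal] :
    Nat.card ↥(H ⊔ K) * Nat.card ↥(H ⊓ K) = Nat.card H * Nat.card K :=
  PLocal.card_sup_mul_card_inf fun c _ => mem_normalizer_of_normal K c

theorem exists_mem_sup {H K : Subgroup C} [K.Normal] {c : C} (h : c ∈ H ⊔ K) :
    ∃ a ∈ H, ∃ b ∈ K, c = a * b := by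
  rw [← SetLike.mem_coe, Subgroup.mul_normal, Set.mem_mul] at h
  obtain ⟨a, ha, b, hb, rfl⟩ := h
  exact ⟨a, ha, b, hb, rfl⟩

/-- An element of prime order permutes what it does not centralise in orbits of that size. -/
theorem modEq_fixed [Finite C] {r : ℕ} [Fact r.Prime] {a : C} (ha : orderOf a = r) (L : Subgroup C)
    (hL : a ∈ Subgroup.normalizer (L : Set C)) :
    Nat.card L ≡ Nat.card ↥(L ⊓ Cn a) [MOD r] := by
  letI : MulAction (Subgroup.zpowers a) L := MulAction.compHom L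
    ((L.normalizerMonoidHom).comp (Subgroup.inclusion (Subgroup.zpowers_le.2 hL)))
  have hsmul : ∀ (g : Subgroup.zpowers a) (p : L), ((g • p : L) : C) = (g : C) * p * (g : C)⁻¹ :=
    fun _ _ => rfl
  have hp : IsPGroup r (Subgroup.zpowers a) :=
    IsPGroup.of_card (n := 1) (by rw [Nat.card_zpowers, ha, pow_one])
  have h := hp.card_modEq_card_fixedPoints L
  rwa [Nat.card_congr (α := MulAction.fixedPoints (Subgroup.zpowers a) L) (β := ↥(L ⊓ Cn a))
    { toFun := fun p => ⟨(p.1 : C), p.1.2, mem_cn'.2 ?_⟩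
      invFun := fun p => ⟨⟨(p : C), p.2.1⟩, ?_⟩
      left_inv := fun p => rfl
      right_inv := fun p => rfl }] at h
  · have h1 := congrArg Subtype.val (p.2 ⟨a, Subgroup.mem_zpowers a⟩)
    rw [hsmul, mul_inv_eq_iff_eq_mul] at h1
    rw [mul_inv_eq_iff_eq_mul]
    exact h1.symm
  · rintro ⟨g, hg⟩
    refine Subtype.ext ?_
    rw [hsmul]
    obtain ⟨k, rfl⟩ := Subgroup.mem_zpowers_iff.1 hg
    rw [mul_inv_eq_iff_eq_mul]
    exact ((mem_cn.1 p.2.2).symm.zpow_left k).eq

/-- `P` acts semiregularly modulo `Z` on the cosets of `R` other than `R` itself. -/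
theorem dvd_index_sub_one [Finite C] (R P Z : Subgroup C) (hPR : P ≤ R) (hZR : Z ≤ R)
    (hZ : ∀ a ∈ Z, ∀ c : C, Commute a c)
    (hfix : ∀ a ∈ P, a ∉ Z → ∀ c : C, c⁻¹ * a * c ∈ R → c ∈ R) :
    (Z.subgroupOf P).index ∣ R.index - 1 := by
  classical
  set o : C ⧸ R := ((1 : C) : C ⧸ R) with ho
  have hbase : ∀ a : ↥P, (a : C) • o = o := by
    intro a
    rw [ho]
    change ((↑a * 1 : C) : C ⧸ R) = _
    rw [mul_one, QuotientGroup.eq, mul_one]
    exact inv_mem (hPR a.2)
  have hne : ∀ (a : ↥P) (q : C ⧸ R), q ≠ o → (a : C) • q ≠ o := by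
    intro a q hq h
    apply hq
    have := congrArg (fun r => ((a : C))⁻¹ • r) h
    simp only [inv_smul_smul] at this
    rw [this, inv_smul_eq_iff, hbase]
  letI : MulAction ↥P {q : C ⧸ R // q ≠ o} :=
    { smul := fun a q => ⟨(a : C) • q.1, hne a q.1 q.2⟩
      one_smul := fun q => Subtype.ext (one_smul C q.1)
      mul_smul := fun a b q => Subtype.ext (mul_smul (a : C) (b : C) q.1) }
  have hstab : ∀ q : {q : C ⧸ R // q ≠ o}, MulAction.stabilizer ↥P q = Z.subgroupOf P := by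
    rintro ⟨q, hq⟩
    induction q using QuotientGroup.induction_on with | H c => ?_
    ext a
    rw [MulAction.mem_stabilizer_iff, Subgroup.mem_subgroupOf]
    have hiff : (a • (⟨(c : C ⧸ R), hq⟩ : {q : C ⧸ R // q ≠ o}) = ⟨c, hq⟩) ↔
        c⁻¹ * (a : C)⁻¹ * c ∈ R := by
      rw [Subtype.ext_iff]
      change ((↑a * c : C) : C ⧸ R) = _ ↔ _
      rw [QuotientGroup.eq, mul_inv_rev]
    rw [hiff]
    constructor
    · intro h
      by_contra hz
      apply hq
      rw [ho, QuotientGroup.eq, mul_one]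
      refine inv_mem (hfix (a : C) a.2 hz c ?_)
      simpa [mul_assoc] using inv_mem h
    · intro hz
      rw [mul_assoc, (((hZ _ hz c).inv_left)).eq, ← mul_assoc, inv_mul_cancel, one_mul]
      exact inv_mem (hZR hz)
  have hcard := Nat.card_congr (MulAction.selfEquivSigmaOrbitsQuotientStabilizer ↥P
    {q : C ⧸ R // q ≠ o})
  haveI := Fintype.ofFinite (Quotient (MulAction.orbitRel ↥P {q : C ⧸ R // q ≠ o}))
  rw [Nat.card_sigma] at hcard
  simp only [hstab] at hcard
  rw [Finset.sum_const, smul_eq_mul] at hcard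
  haveI := Fintype.ofFinite (C ⧸ R)
  have hsub : Nat.card {q : C ⧸ R // q ≠ o} = R.index - 1 := by
    rw [Nat.card_eq_fintype_card, Fintype.card_subtype_compl, Fintype.card_subtype_eq,
      ← Nat.card_eq_fintype_card]
    rfl
  exact Dvd.intro_left _ (hcard.symm.trans hsub)

/-- Generation by the centralisers of the lines of `⟨f, e⟩`, `f` and `e` of order three. -/
theorem le_lines [Finite C] {e f : C} (hef : Commute e f) (he3 : e ^ 3 = 1) (hf3 : f ^ 3 = 1)
    {X : Subgroup C} (he : e ∈ Subgroup.normalizer (X : Set C))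
    (hf : f ∈ Subgroup.normalizer (X : Set C)) (h3 : ¬ 3 ∣ Nat.card X) {T : Subgroup C}
    (h0 : X ⊓ Cn f ≤ T) (h1 : X ⊓ Cn e ≤ T) (h2 : X ⊓ Cn (e * f) ≤ T)
    (h4 : X ⊓ Cn (e * f ^ 2) ≤ T) : X ≤ T := by
  haveI : Fact (Nat.Prime 3) := ⟨Nat.prime_three⟩
  have hcop : Nat.Coprime 3 (Nat.card X) := Nat.prime_three.coprime_iff_not_dvd.mpr h3
  have hcl : (Nat.card (Subgroup.closure ({e, f} : Set C))).Coprime (Nat.card X) := by
    have hc : IsPGroup 3 (Subgroup.closure ({e, f} : Set C)) := by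
      have hle : Subgroup.closure ({e, f} : Set C) ≤ Subgroup.zpowers e ⊔ Subgroup.zpowers f := by
        rw [Subgroup.closure_le]
        rintro a (rfl | rfl)
        · exact Subgroup.mem_sup_left (Subgroup.mem_zpowers _)
        · exact Subgroup.mem_sup_right (Subgroup.mem_zpowers _)
      intro a
      obtain ⟨b, hb, c, hc, hbc⟩ := Coprime.exists_mul_of_mem_sup (A := Subgroup.zpowers e)
        (K := Subgroup.zpowers f) (Subgroup.zpowers_le.mpr (Subgroup.centralizer_le_normalizer _ (by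
          rw [Subgroup.mem_centralizer_iff]
          rintro _ ⟨i, rfl⟩
          exact (hef.zpow_right i).eq.symm))) (hle a.2)
      refine ⟨1, Subtype.ext ?_⟩
      rw [Subgroup.coe_pow, hbc, pow_one]
      obtain ⟨i, rfl⟩ := hb
      obtain ⟨j, rfl⟩ := hc
      change (e ^ i * f ^ j) ^ 3 = 1
      rw [(hef.zpow_zpow i j).mul_pow, ← zpow_natCast, ← zpow_natCast, ← zpow_mul, ← zpow_mul,
        mul_comm i, mul_comm j, zpow_mul, zpow_mul]
      simp [zpow_natCast, he3, hf3]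
    obtain ⟨k, hk⟩ := IsPGroup.iff_card.mp hc
    rw [hk]
    exact Nat.Coprime.pow_left k hcop
  refine le_trans (Coprime.le_lineCentralizers hef he hf (by rw [he3]; exact one_mem _)
    (by rw [hf3]; exact one_mem _) hcl hcop) (sup_le h0 (iSup_le fun t => ?_))
  fin_cases t
  · change X ⊓ Cn (e * f ^ 0) ≤ T
    rwa [pow_zero, mul_one]
  · change X ⊓ Cn (e * f ^ 1) ≤ T
    rwa [pow_one]
  · exact h4

end Cfsg.Agent.Lib.J4Six76
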