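import Cfsg.Agent.Lib.J4Six76.Planes
import Cfsg.Agent.Lib.Symplectic.Order

/-!
# The induced symplectic form on the image of an involutory isometry
-/

set_option autoImplicit false
set_option linter.style.haveILetI false
set_option linter.unusedSectionVars false

namespace Cfsg.Agent.Lib.J4Six76

open Cfsg.Agent.Lib.J4Recog76 Cfsg.Agent.Lib.Symplectic Module

variable {V : Type*} [AddCommGroup V] [Module (ZMod 2) V] [Module.Finite (ZMod 2) V]

/-- A group of isometries centralising the involution `T` acts by isometries of a symplectic form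
on the image of `T + 1`. -/
theorem exists_restrict {Γ : Type*} [Group Γ] (ρ : Γ →* Module.End (ZMod 2) V)
    (Bf : V →ₗ[ZMod 2] V →ₗ[ZMod 2] ZMod 2) (hB : IsSympForm Bf)
    (hiso : ∀ g v w, Bf (ρ g v) (ρ g w) = Bf v w) (T : Module.End (ZMod 2) V)
    (hTiso : ∀ v w, Bf (T v) (T w) = Bf v w) (hTT : T * T = 1) (hcomm : ∀ g, Commute (ρ g) T)
    (a₀ : Γ) (ha₀ : ∀ v, v + ρ a₀ v + ρ a₀ (ρ a₀ v) = 0) :
    ∃ (f : ↥(LinearMap.range (T + 1)) →ₗ[ZMod 2] ↥(LinearMap.range (T + 1)) →ₗ[ZMod 2] ZMod 2)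
      (_ : IsSympForm f) (φ : Γ →* Isom f), ∀ (g : Γ) (v : ↥(LinearMap.range (T + 1))),
        (((φ g : ↥(LinearMap.range (T + 1)) ≃ₗ[ZMod 2] ↥(LinearMap.range (T + 1))) v :
          ↥(LinearMap.range (T + 1))) : V) = ρ g (v : V) := by
  set R := LinearMap.range (T + 1) with hR
  have hTT' : ∀ v, T (T v) = v := fun v => by
    rw [← Module.End.mul_apply, hTT, Module.End.one_apply]
  have hsymm : ∀ v w, Bf v w = Bf w v := fun v w => by
    rw [hB.swap v w]
    exact ZMod.neg_eq_self_mod_two _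
  have hadj : ∀ v w, Bf v (T w) = Bf (T v) w := fun v w => by
    rw [← hTiso v (T w), hTT']
  have hperp : ∀ v ∈ fixedSp T, ∀ w ∈ R, Bf v w = 0 := by
    rintro v hv _ ⟨a, rfl⟩
    rw [LinearMap.add_apply, Module.End.one_apply, map_add, hadj, mem_fixedSp.mp hv]
    exact CharTwo.add_self_eq_zero _
  obtain ⟨s, hs⟩ := LinearMap.exists_rightInverse_of_surjective (T + 1).rangeRestrict
    (LinearMap.range_rangeRestrict _)
  have hs' : ∀ w : ↥R, (T + 1) (s w) = (w : V) := fun w =>
    congrArg Subtype.val (LinearMap.congr_fun hs w)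
  let f : ↥R →ₗ[ZMod 2] ↥R →ₗ[ZMod 2] ZMod 2 := Bf.compl₁₂ s R.subtype
  have hf : ∀ v w : ↥R, f v w = Bf (s v) (w : V) := fun _ _ => rfl
  have hrep : ∀ (a : V) (w : ↥R) (r : ↥R), (T + 1) a = (w : V) → f w r = Bf a r := by
    intro a w r ha
    have hk : s w + a ∈ fixedSp T := by
      rw [LinearMap.mem_ker, map_add, hs', ha, add_self]
    have h0 := hperp _ hk r r.2
    rw [map_add, LinearMap.add_apply] at h0
    exact CharTwo.add_eq_zero.mp h0
  -- the form is alternating
  have q_add : ∀ a b, Bf (a + b) (T (a + b)) = Bf a (T a) + Bf b (T b) := by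
    intro a b
    simp only [map_add, LinearMap.add_apply]
    rw [show Bf b (T a) = Bf a (T b) by rw [hsymm b, ← hadj]]
    rw [show Bf a (T a) + Bf a (T b) + (Bf a (T b) + Bf b (T b)) =
      Bf a (T a) + Bf b (T b) + (Bf a (T b) + Bf a (T b)) by ring, CharTwo.add_self_eq_zero, add_zero]
  have q_inv : ∀ a, Bf (ρ a₀ a) (T (ρ a₀ a)) = Bf a (T a) := by
    intro a
    rw [← Module.End.mul_apply T, ← (hcomm a₀).eq, Module.End.mul_apply, hiso]
  have q_zero : ∀ a, Bf a (T a) = 0 := by
    intro a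
    have h := congrArg (fun v => Bf v (T v)) (ha₀ a)
    simp only [map_zero] at h
    rw [q_add, q_add, q_inv (ρ a₀ a), q_inv a, CharTwo.add_self_eq_zero, zero_add] at h
    exact h
  have hfs : IsSympForm f := by
    refine ⟨fun w => ?_, fun w hw => ?_⟩
    · rw [hf, ← hs' w, LinearMap.add_apply, Module.End.one_apply, map_add, q_zero, hB.self, add_zero]
    · apply Subtype.ext
      refine hB.nondeg _ fun b => ?_
      have := hw ⟨(T + 1) b, ⟨b, rfl⟩⟩
      rw [hf] at this
      change Bf (s w) ((T + 1) b) = 0 at this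
      rw [LinearMap.add_apply, Module.End.one_apply, map_add, hadj] at this
      rw [← hs' w, LinearMap.add_apply, Module.End.one_apply, map_add, LinearMap.add_apply]
      exact this
  have hmem : ∀ g, ∀ v ∈ R, ρ g v ∈ R := by
    rintro g _ ⟨a, rfl⟩
    exact ⟨ρ g a, by rw [← Module.End.mul_apply, ← Module.End.mul_apply,
      ((hcomm g).add_right (Commute.one_right _)).eq]⟩
  let res : Γ → (↥R →ₗ[ZMod 2] ↥R) := fun g => (ρ g).restrict (hmem g)
  have res_mul : ∀ g h v, res g (res h v) = res (g * h) v := fun g h v => Subtype.ext (by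
    simp [res, LinearMap.restrict_apply, map_mul])
  have res_one : ∀ v, res 1 v = v := fun v => Subtype.ext (by
    simp [res, LinearMap.restrict_apply])
  let e : Γ → (↥R ≃ₗ[ZMod 2] ↥R) := fun g => LinearEquiv.ofLinear (res g) (res g⁻¹)
    (LinearMap.ext fun v => by simp [res_mul, res_one])
    (LinearMap.ext fun v => by simp [res_mul, res_one])
  have e_iso : ∀ g, e g ∈ Isom f := by
    intro g v w
    change f (res g v) (res g w) = f v w
    rw [hrep (ρ g (s v)) (res g v) _ (by
      rw [← Module.End.mul_apply, ← ((hcomm g).add_right (Commute.one_right _)).eq,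
        Module.End.mul_apply, hs']
      rfl), hf]
    exact hiso g _ _
  refine ⟨f, hfs, { toFun := fun g => ⟨e g, e_iso g⟩, map_one' := ?_, map_mul' := ?_ }, fun g v => rfl⟩
  · exact Subtype.ext (LinearEquiv.ext res_one)
  · intro g h
    exact Subtype.ext (LinearEquiv.ext fun v => (res_mul g h v).symm)

end Cfsg.Agent.Lib.J4Six76
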