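import Cfsg.Agent.Lib.J4Six76.Action
import Cfsg.Agent.Lib.J4Six76.Restrict

/-!
# The centraliser of `t` modulo the core lies in `N(⟨x⟩)` times the core
-/

set_option autoImplicit false
set_option linter.style.haveILetI false

namespace Cfsg.Agent.Lib.J4Six76

open Cfsg Cfsg.Agent.Lib.J4Local Cfsg.Agent.Lib.J4Recog76
open scoped Pointwise

/-- Semiregularity off the trivial element gives divisibility of the index. -/
theorem dvd_index_of_free {Γ : Type*} [Group Γ] [Finite Γ] (N P : Subgroup Γ)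
    (hfree : ∀ a ∈ P, ∀ c : Γ, c⁻¹ * a * c ∈ N → a = 1) : Nat.card P ∣ N.index := by
  classical
  letI : MulAction ↥P (Γ ⧸ N) := MulAction.compHom _ P.subtype
  have hstab : ∀ q : Γ ⧸ N, MulAction.stabilizer ↥P q = ⊥ := by
    intro q
    induction q using QuotientGroup.induction_on with | H c => ?_
    rw [eq_bot_iff]
    intro a ha
    rw [MulAction.mem_stabilizer_iff] at ha
    change (((a : Γ) * c : Γ) : Γ ⧸ N) = c at ha
    rw [QuotientGroup.eq, mul_inv_rev] at ha
    rw [Subgroup.mem_bot]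
    apply Subtype.ext
    exact inv_eq_one.mp (hfree (a : Γ)⁻¹ (inv_mem a.2) c (by simpa [mul_assoc] using ha))
  have hcard := Nat.card_congr (MulAction.selfEquivSigmaOrbitsQuotientStabilizer ↥P (Γ ⧸ N))
  haveI := Fintype.ofFinite (Quotient (MulAction.orbitRel ↥P (Γ ⧸ N)))
  rw [Nat.card_sigma] at hcard
  simp only [hstab] at hcard
  rw [Finset.sum_const, smul_eq_mul] at hcard
  rw [show (Nat.card (↥P ⧸ (⊥ : Subgroup ↥P))) = Nat.card P from Subgroup.index_bot] at hcard
  exact Dvd.intro_left _ hcard.symm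

theorem zpowers_conj_mem {Γ : Type*} [Group Γ] {g a : Γ} {N : Subgroup Γ} [N.Normal] (hg : g ∈ N)
    (h : a ∈ N → False) : g * a * g⁻¹ ∉ N := fun hh => h (by
  have := Subgroup.Normal.conj_mem inferInstance _ hh g⁻¹
  rwa [show g⁻¹ * (g * a * g⁻¹) * g⁻¹⁻¹ = a by group] at this)

namespace Six

variable {C : Type*} [Group C] [Finite C] {x y t z u s : C} {π : ↥(Cn x) →* AutM22}

/-- The elementary abelian group `⟨x, y⟩` of order nine. -/
abbrev AA (x y : C) : Subgroup C := Subgroup.zpowers y ⊔ Subgroup.zpowers x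

theorem y_not_mem (h : Six x y t z u s π) : y ∉ Subgroup.zpowers x := fun hy =>
  h.y_out h.ycx ((h.ker _).mpr ⟨y, hy, 1, one_mem _, (mul_one y).symm⟩)

theorem AA_le_Cn (h : Six x y t z u s π) :
    AA x y ≤ Cn x ∧ AA x y ≤ Cn y ∧ AA x y ≤ Cn t :=
  ⟨sup_le (Subgroup.zpowers_le.mpr h.ycx) (Subgroup.zpowers_le.mpr (mem_cn.mpr (Commute.refl x))),
    sup_le (Subgroup.zpowers_le.mpr (mem_cn.mpr (Commute.refl y)))
      (Subgroup.zpowers_le.mpr (mem_cn.mpr h.yx.symm)),
    sup_le (Subgroup.zpowers_le.mpr (mem_cn.mpr (h.ty y (Commute.refl y))))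
      (Subgroup.zpowers_le.mpr (mem_cn.mpr h.tx.symm))⟩

theorem AA_norm (h : Six x y t z u s π) :
    Subgroup.zpowers y ≤ Subgroup.normalizer ((Subgroup.zpowers x : Subgroup C) : Set C) :=
  Subgroup.zpowers_le.mpr (h.K_le_Mx h.ycx)

theorem AA_card (h : Six x y t z u s π) : Nat.card ↥(AA x y) = 9 := by
  have h1 := PLocal.card_sup_mul_card_inf h.AA_norm
  have hinf : Subgroup.zpowers y ⊓ Subgroup.zpowers x = ⊥ := by
    haveI : Fact (Nat.Prime 3) := ⟨Nat.prime_three⟩
    have hd := Subgroup.card_dvd_of_le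
      (inf_le_left : Subgroup.zpowers y ⊓ Subgroup.zpowers x ≤ Subgroup.zpowers y)
    rw [Nat.card_zpowers, h.hy] at hd
    rcases (Nat.dvd_prime Nat.prime_three).mp hd with e | e
    · exact Subgroup.card_eq_one.mp e
    · exfalso
      have := Subgroup.eq_of_le_of_card_ge
        (inf_le_left : Subgroup.zpowers y ⊓ Subgroup.zpowers x ≤ Subgroup.zpowers y)
        (by rw [Nat.card_zpowers, h.hy, e])
      exact h.y_not_mem (inf_eq_left.mp this (Subgroup.mem_zpowers y))
  rw [hinf, Subgroup.card_bot, Nat.card_zpowers, Nat.card_zpowers, h.hx, h.hy, mul_one] at h1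
  exact h1

/-- Every nontrivial element of `⟨x, y⟩` generates one of the four lines. -/
theorem AA_line (h : Six x y t z u s π) {a : C} (ha : a ∈ AA x y) (ha1 : a ≠ 1) :
    a ^ 3 = 1 ∧ ∃ k : ℕ, a ^ k = x ∨ a ^ k = y ∨ a ^ k = y * x ∨ a ^ k = y * x ^ 2 := by
  obtain ⟨b, hb, c, hc, rfl⟩ := Coprime.exists_mul_of_mem_sup h.AA_norm ha
  obtain ⟨i, rfl⟩ := mem_powers_iff_mem_zpowers.mpr hb
  obtain ⟨j, rfl⟩ := mem_powers_iff_mem_zpowers.mpr hc
  simp only at ha1 ⊢
  rw [← pow_mod_orderOf y, ← pow_mod_orderOf x, h.hx, h.hy] at ha1 ⊢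
  have hcm : ∀ i j : ℕ, Commute (y ^ i) (x ^ j) := fun i j => h.yx.pow_pow i j
  refine ⟨?_, ?_⟩
  · rw [(hcm _ _).mul_pow, ← pow_mul, ← pow_mul, mul_comm (i % 3), mul_comm (j % 3), pow_mul,
      pow_mul, h.x3, h.y3, one_pow, one_pow, mul_one]
  have hi : i % 3 < 3 := Nat.mod_lt _ (by norm_num)
  have hj : j % 3 < 3 := Nat.mod_lt _ (by norm_num)
  have x4 : x ^ 4 = x := by rw [pow_succ, h.x3, one_mul]
  have y4 : y ^ 4 = y := by rw [pow_succ, h.y3, one_mul]
  have sq : ∀ i j : ℕ, (y ^ i * x ^ j) ^ 2 = y ^ (i * 2) * x ^ (j * 2) := fun i j => by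
    rw [(hcm i j).mul_pow, ← pow_mul, ← pow_mul]
  interval_cases hi' : i % 3 <;> interval_cases hj' : j % 3
  · exact absurd (by simp) ha1
  · exact ⟨1, Or.inl (by simp)⟩
  · exact ⟨2, Or.inl (by rw [sq]; simpa using x4)⟩
  · exact ⟨1, Or.inr (Or.inl (by simp))⟩
  · exact ⟨1, Or.inr (Or.inr (Or.inl (by simp)))⟩
  · exact ⟨1, Or.inr (Or.inr (Or.inr (by simp)))⟩
  · exact ⟨2, Or.inr (Or.inl (by rw [sq]; simpa using y4))⟩
  · exact ⟨2, Or.inr (Or.inr (Or.inr (by rw [sq]; simp [y4])))⟩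
  · exact ⟨2, Or.inr (Or.inr (Or.inl (by rw [sq]; simp [y4, x4])))⟩

theorem AA_le_Dt (h : Six x y t z u s π) : AA x y ≤ h.Dt := fun _ ha =>
  h.Dt_of_comm (mem_cn.mp (h.AA_le_Cn.2.2 ha))

/-- No element of order five of `Dt` centralises a line. -/
theorem no_five (h : Six x y t z u s π) {a d : C} (ha : a ∈ AA x y) (ha1 : a ≠ 1) (hd : d ∈ h.Dt)
    (hd5 : orderOf d = 5) (hc : Commute d a) : False := by
  obtain ⟨-, k, hk⟩ := h.AA_line ha ha1
  have hck := hc.pow_right k
  rcases hk with e | e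
  · rw [e] at hck
    haveI := h.eNormal
    have hdK : d ∈ Cn x := mem_cn.mpr hck
    have hmem : d * t * d⁻¹ * t⁻¹ ∈ Subgroup.zpowers z := h.CE_x ▸
      ⟨h.Dt_comm hd, (Cn x).mul_mem ((Cn x).mul_mem ((Cn x).mul_mem hdK (mem_cn.mpr h.tx))
        ((Cn x).inv_mem hdK)) ((Cn x).inv_mem (mem_cn.mpr h.tx))⟩
    have hcomm : Commute d t := by
      set w := d * t * d⁻¹ * t⁻¹ with hw
      have hdt : d * t * d⁻¹ = w * t := by rw [hw, inv_mul_cancel_right]
      have hit : ∀ n : ℕ, d ^ n * t * (d ^ n)⁻¹ = w ^ n * t := by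
        intro n
        induction n with
        | zero => simp
        | succ n ih =>
          rw [show d ^ (n + 1) * t * (d ^ (n + 1))⁻¹ = d * (d ^ n * t * (d ^ n)⁻¹) * d⁻¹ by
            rw [pow_succ']; group, ih,
            show d * (w ^ n * t) * d⁻¹ = d * w ^ n * d⁻¹ * (d * t * d⁻¹) by group, hdt,
            ← (h.z_comm (pow_mem hmem n) d).eq, mul_inv_cancel_right, ← mul_assoc, ← pow_succ]
      have h5 := hit 5
      rw [← hd5, pow_orderOf_eq_one, hd5, one_mul, inv_one, mul_one] at h5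
      have hw5 : w ^ 5 = 1 := mul_eq_right.mp h5.symm
      have hw1 : w = 1 := by
        rcases h.z_cases hmem with e1 | e1
        · exact e1
        · rw [e1] at hw5 ⊢
          rwa [pow_succ, pow_succ, pow_succ, pow_two, h.zz, one_mul, h.zz, one_mul] at hw5
      rw [hw1, one_mul] at hdt
      exact mul_inv_eq_iff_eq_mul.mp hdt
    set d' : ↥(Cn x) := ⟨d, hdK⟩
    set t' : ↥(Cn x) := ⟨t, mem_cn.mpr h.tx⟩
    haveI : Fact (Nat.Prime 5) := ⟨by norm_num⟩
    have hd'5 : orderOf (π d') = 5 := by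
      refine orderOf_eq_prime ?_ ?_
      · rw [← map_pow, show d' ^ 5 = 1 from Subtype.ext (by
          simp [d', ← hd5, pow_orderOf_eq_one]), map_one]
      · intro h1
        obtain ⟨b, hb, c, hc', e'⟩ := (h.ker _).mp h1
        have h6 : d ^ 6 = 1 := by
          have hb3 : b ^ 3 = 1 := by
            obtain ⟨i, rfl⟩ := hb
            change (x ^ i) ^ 3 = 1
            rw [← zpow_natCast, ← zpow_mul, mul_comm, zpow_mul, zpow_natCast, h.x3, one_zpow]
          have hc2 : c ^ 2 = 1 := by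
            rcases h.z_cases hc' with e1 | e1 <;> rw [e1]
            · exact one_pow 2
            · rw [pow_two, h.zz]
          rw [show d = b * c from e', (h.z_comm hc' b).symm.mul_pow, show (6 : ℕ) = 3 * 2 from rfl,
            pow_mul, hb3, one_pow, one_mul, show (3 : ℕ) * 2 = 2 * 3 from rfl, pow_mul, hc2, one_pow]
        have := orderOf_dvd_of_pow_eq_one h6
        rw [hd5] at this
        omega
    refine autFacts.five_not_commute (π d') hd'5 (π t') (h.range ▸ ⟨t', rfl⟩) ?_ ?_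
    · refine orderOf_eq_prime ?_ (h.t_out _)
      rw [← map_pow, show t' ^ 2 = 1 from Subtype.ext (by simp [t', ← h.ht, pow_orderOf_eq_one]),
        map_one]
    · exact Commute.map (Subtype.ext hcomm.eq : Commute d' t') π
  · have hmem : d ∈ Cn (a ^ k) := mem_cn.mpr hck
    have hcard := (h.line_facts e).2
    have := Subgroup.orderOf_dvd_natCard _ hmem
    rw [hd5, hcard] at this
    omega

theorem Dt_not27 (h : Six x y t z u s π) : ¬ 27 ∣ Nat.card ↥h.Dt := by
  intro h27
  haveI : Fact (Nat.Prime 3) := ⟨Nat.prime_three⟩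
  haveI := h.eNormal
  have hxD : x ∈ h.Dt := h.Dt_of_comm h.tx.symm
  obtain ⟨P', hP', hxP'⟩ := Sylow.exists_subgroup_card_pow_prime_le (G := ↥h.Dt) 3 (m := 3)
    (by simpa using h27) (Subgroup.zpowers ⟨x, hxD⟩) (n := 1)
    (by rw [Nat.card_zpowers, Subgroup.orderOf_mk, h.hx, pow_one]) (by norm_num)
  set P := P'.map h.Dt.subtype with hP
  have hPc : Nat.card P = 3 ^ 3 := by
    rw [← hP']
    exact (Nat.card_congr (P'.equivMapOfInjective _ (Subgroup.subtype_injective _)).toEquiv).symm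
  have hxP : x ∈ P := ⟨⟨x, hxD⟩, hxP' (Subgroup.mem_zpowers _), rfl⟩
  have hPD : P ≤ h.Dt := Subgroup.map_subtype_le _
  -- conjugate to a Sylow subgroup inside `C(x)`
  obtain ⟨P0', hP0'⟩ := Sylow.exists_subgroup_card_pow_prime (G := ↥(Cn x)) 3 (n := 3)
    (by rw [h.kcard]; norm_num)
  set P0 := P0'.map (Cn x).subtype with hP0
  have hP0c : Nat.card P0 = 3 ^ 3 := by
    rw [← hP0']
    exact (Nat.card_congr (P0'.equivMapOfInjective _ (Subgroup.subtype_injective _)).toEquiv).symm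
  have hidx : ∀ R : Subgroup C, Nat.card R = 3 ^ 3 → ¬ 3 ∣ R.index := by
    intro R hR ⟨k, hk⟩
    apply h.no81
    rw [← R.card_mul_index, hR, hk]
    exact ⟨k, by ring⟩
  let S := (IsPGroup.of_card hPc).toSylow (hidx P hPc)
  let S0 := (IsPGroup.of_card hP0c).toSylow (hidx P0 hP0c)
  obtain ⟨d, hd⟩ := MulAction.exists_smul_eq C S0 S
  have hPS : P = MulAut.conj d • P0 := by
    have : (S : Subgroup C) = MulAut.conj d • (S0 : Subgroup C) := by rw [← hd]; rfl
    exact this
  have hx0 : d⁻¹ * x * d ∈ P0 := by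
    have := hPS ▸ hxP
    rw [Coprime.mem_conj_smul] at this
    exact this
  have hP0K : P0 ≤ Cn x := Subgroup.map_subtype_le _
  have hd3 : (d⁻¹ * x * d) ^ 3 = 1 := by
    rw [show d⁻¹ * x * d = MulAut.conj d⁻¹ x by simp, ← map_pow, h.x3, map_one]
  have hdM : d ∈ Mx x := by
    rcases h.cls _ (mem_cn.mp (hP0K hx0)) hd3 with hz' | ⟨k, -, e⟩
    · rcases h.zpx hz' with e | e | e
      · exfalso
        have : x = 1 := by
          rw [show x = d * (d⁻¹ * x * d) * d⁻¹ by group, e]; group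
        have h3 := h.hx; rw [this, orderOf_one] at h3; omega
      · refine h.mem_Mx.mpr (Or.inl ?_)
        conv_rhs => rw [show x = d * (d⁻¹ * x * d) * d⁻¹ by group, e]
      · refine h.mem_Mx.mpr (Or.inr ?_)
        conv_rhs => rw [show x = d * (d⁻¹ * x * d) * d⁻¹ by group, e]
        group
    · exfalso
      refine h.line_ne (d * k⁻¹) (Subgroup.mem_zpowers x) ?_
      rw [← e]; group
  have hPK : P ≤ Cn x := by
    intro p hp
    rw [hPS, Coprime.mem_conj_smul] at hp
    have hc := mem_cn.mp (hP0K hp)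
    rw [mem_cn]
    rcases h.mem_Mx.mp hdM with e | e
    · have := hc.map (MulAut.conj d)
      simpa [mul_assoc, e] using this
    · have := (hc.inv_right).map (MulAut.conj d)
      rw [MulAut.conj_apply, MulAut.conj_apply, show d * x⁻¹ * d⁻¹ = (d * x * d⁻¹)⁻¹ by group, e,
        inv_inv] at this
      simpa [mul_assoc] using this
  -- the image is too small
  set T : ↥(Cn x) := ⟨t, mem_cn.mpr h.tx⟩ with hT
  have hPt : ∀ p ∈ P, Commute p t := by
    intro p hp
    have hpK := hPK hp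
    set w := p * t * p⁻¹ * t⁻¹ with hw
    have hwz : w ∈ Subgroup.zpowers z := h.CE_x ▸ ⟨h.Dt_comm (hPD hp),
      (Cn x).mul_mem ((Cn x).mul_mem ((Cn x).mul_mem hpK (mem_cn.mpr h.tx)) ((Cn x).inv_mem hpK))
        ((Cn x).inv_mem (mem_cn.mpr h.tx))⟩
    have hdt : p * t * p⁻¹ = w * t := by rw [hw, inv_mul_cancel_right]
    have hit : ∀ n : ℕ, p ^ n * t * (p ^ n)⁻¹ = w ^ n * t := by
      intro n
      induction n with
      | zero => simp
      | succ n ih =>
        rw [show p ^ (n + 1) * t * (p ^ (n + 1))⁻¹ = p * (p ^ n * t * (p ^ n)⁻¹) * p⁻¹ by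
          rw [pow_succ']; group, ih,
          show p * (w ^ n * t) * p⁻¹ = p * w ^ n * p⁻¹ * (p * t * p⁻¹) by group, hdt,
          ← (h.z_comm (pow_mem hwz n) p).eq, mul_inv_cancel_right, ← mul_assoc, ← pow_succ]
    have h27' := hit 27
    have hp27 : p ^ 27 = 1 := by
      have := pow_card_eq_one' (x := (⟨p, hp⟩ : P))
      rw [hPc] at this
      simpa using congrArg Subtype.val this
    rw [hp27, one_mul, inv_one, mul_one] at h27'
    have hw27 : w ^ 27 = 1 := mul_eq_right.mp h27'.symm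
    have hw1 : w = 1 := by
      rcases h.z_cases hwz with e1 | e1
      · exact e1
      · have hww : w ^ 2 = 1 := by rw [e1, pow_two, h.zz]
        rwa [show (27 : ℕ) = 2 * 13 + 1 from rfl, pow_succ, pow_mul, hww, one_pow, one_mul] at hw27
    rw [hw1, one_mul] at hdt
    exact mul_inv_eq_iff_eq_mul.mp hdt
  let f : ↥P →* AutM22 := π.comp (Subgroup.inclusion hPK)
  have hker : Nat.card f.ker ≤ 3 := by
    have hle : f.ker.map P.subtype ≤ Subgroup.zpowers x := by
      rintro _ ⟨p, hp, rfl⟩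
      obtain ⟨a, ha, b, hb, e⟩ := (h.ker (Subgroup.inclusion hPK p)).mp hp
      have e' : (p : C) = a * b := e
      have hp27 : (p : C) ^ 27 = 1 := by
        have := pow_card_eq_one' (x := p)
        rw [hPc] at this
        simpa using congrArg Subtype.val this
      have ha3 : a ^ 27 = 1 := by
        obtain ⟨i, rfl⟩ := ha
        change (x ^ i) ^ 27 = 1
        rw [← zpow_natCast, ← zpow_mul, mul_comm, zpow_mul, zpow_natCast,
          show (27 : ℕ) = 3 * 9 from rfl, pow_mul, h.x3, one_pow, one_zpow]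
      rw [e', (h.z_comm hb a).symm.mul_pow, ha3, one_mul] at hp27
      have hb1 : b = 1 := by
        rcases h.z_cases hb with e1 | e1
        · exact e1
        · rw [e1] at hp27
          rw [e1, ← hp27, show (27 : ℕ) = 2 * 13 + 1 from rfl, pow_succ, pow_mul, pow_two, h.zz,
            one_pow, one_mul]
      rw [Subgroup.coe_subtype, e', hb1, mul_one]
      exact ha
    have h1 := Subgroup.card_le_of_le hle
    rw [Nat.card_zpowers, h.hx] at h1
    exact (Nat.card_congr (f.ker.equivMapOfInjective _ (Subgroup.subtype_injective _)).toEquiv).le.trans h1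
  have hrange : Nat.card f.range ∣ 384 := by
    have hT2 : orderOf (π T) = 2 := by
      haveI : Fact (Nat.Prime 2) := ⟨Nat.prime_two⟩
      refine orderOf_eq_prime ?_ (h.t_out _)
      rw [← map_pow, show T ^ 2 = 1 from Subtype.ext (by simp [hT, ← h.ht, pow_orderOf_eq_one]), map_one]
    rw [← autFacts.cent_involution (π T) (h.range ▸ ⟨T, rfl⟩) hT2]
    refine Subgroup.card_dvd_of_le ?_
    rintro _ ⟨p, rfl⟩
    refine ⟨h.range ▸ ⟨Subgroup.inclusion hPK p, rfl⟩, Subgroup.mem_centralizer_singleton_iff.mpr ?_⟩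
    exact (Commute.map (Subtype.ext (hPt p p.2).eq : Commute (Subgroup.inclusion hPK p) T) π).eq
  have h1 := Subgroup.card_mul_index f.ker
  rw [Subgroup.index_ker, hPc] at h1
  obtain ⟨n, -, hn⟩ := (Nat.dvd_prime_pow Nat.prime_three).mp
    (⟨_, (mul_comm _ _).trans h1 |>.symm⟩ : Nat.card f.range ∣ 3 ^ 3)
  rw [hn] at hrange h1
  have hn1 : n ≤ 1 := by
    by_contra h2
    have : 3 ^ 2 ∣ 384 := (pow_dvd_pow 3 (by omega : 2 ≤ n)).trans hrange
    norm_num at this
  have h3 : 3 ^ n ≤ 3 := by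
    interval_cases n <;> norm_num
  have := Nat.mul_le_mul hker h3
  rw [h1] at this
  norm_num at this

/-- The centraliser of `t` modulo the core lies in `Rx x`. -/
theorem Dt_le (h : Six x y t z u s π) : h.Dt ≤ Rx x := by
  classical
  haveI := h.eNormal
  haveI : Fact (Nat.Prime 3) := ⟨Nat.prime_three⟩
  haveI : Fact (Nat.Prime 5) := ⟨by norm_num⟩
  letI := h.base.barGroup
  letI := h.base.barModule
  haveI : Module.Finite (ZMod 2) h.base.Bar := Module.Finite.of_finite
  have P := h.planes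
  set ρ : ↥h.Dt →* Module.End (ZMod 2) h.base.Bar := h.base.rho.comp h.Dt.subtype with hρ
  set D0 : Subgroup ↥h.Dt := (Rx x).subgroupOf h.Dt with hD0
  set A : Subgroup ↥h.Dt := (AA x y).subgroupOf h.Dt with hA
  set T := h.base.rho t with hT
  have hxD : x ∈ h.Dt := h.AA_le_Dt (Subgroup.mem_sup_right (Subgroup.mem_zpowers x))
  have hyD : y ∈ h.Dt := h.AA_le_Dt (Subgroup.mem_sup_left (Subgroup.mem_zpowers y))
  set xD : ↥h.Dt := ⟨x, hxD⟩
  set yD : ↥h.Dt := ⟨y, hyD⟩
  have hcomm : ∀ g : ↥h.Dt, Commute (ρ g) T := by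
    intro g
    change h.base.rho (g : C) * h.base.rho t = h.base.rho t * h.base.rho (g : C)
    rw [← map_mul, ← map_mul, h.mem_Dt.mp g.2]
  obtain ⟨f, hf, φ, hφ⟩ := exists_restrict ρ (form h.base) (form_isSymp h.base)
    (fun g => form_rho h.base g) T (form_rho h.base t) P.TT hcomm xD (fun v => P.Xfix _ (by
      change h.base.rho x (v + h.base.rho x v + h.base.rho x (h.base.rho x v)) =
        v + h.base.rho x v + h.base.rho x (h.base.rho x v)
      have e3 : h.base.rho x (h.base.rho x (h.base.rho x v)) = v := by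
        rw [← Module.End.mul_apply, ← Module.End.mul_apply, ← pow_two, ← pow_succ, P.X3,
          Module.End.one_apply]
      rw [map_add, map_add, e3]; abel))
  have hAcard : Nat.card A = 9 := by
    rw [Nat.card_congr (Subgroup.subgroupOfEquivOfLe h.AA_le_Dt).toEquiv, h.AA_card]
  have hAidx : ¬ 3 ∣ A.index := by
    intro ⟨k, hk⟩
    apply h.Dt_not27
    rw [← A.card_mul_index, hAcard, hk]
    exact ⟨k, by ring⟩
  have hA3 : IsPGroup 3 A := IsPGroup.of_card (n := 2) hAcard
  have hA0 : A ≤ D0 := fun a ha =>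
    Subgroup.mem_sup_left (h.K_le_Mx (h.AA_le_Cn.1 ha))
  -- lines inside the group
  have lineD : ∀ a ∈ A, a ≠ 1 → a ^ 3 = 1 ∧ ∃ k : ℕ,
      a ^ k = xD ∨ a ^ k = yD ∨ a ^ k = yD * xD ∨ a ^ k = yD * xD ^ 2 := by
    intro a ha ha1
    obtain ⟨h3, k, hk⟩ := h.AA_line ha (fun e => ha1 (Subtype.ext e))
    refine ⟨Subtype.ext (by simpa using h3), k, ?_⟩
    rcases hk with e | e | e | e
    · exact Or.inl (Subtype.ext (by simpa [xD] using e))
    · exact Or.inr (Or.inl (Subtype.ext (by simpa [yD] using e)))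
    · exact Or.inr (Or.inr (Or.inl (Subtype.ext (by simpa [xD, yD] using e))))
    · exact Or.inr (Or.inr (Or.inr (Subtype.ext (by simpa [xD, yD] using e))))
  have hCnD : ∀ a ∈ A, a ≠ 1 → Cn a ≤ D0 := by
    intro a ha ha1 d hd
    obtain ⟨-, k, hk⟩ := h.AA_line (a := (a : C)) ha (fun e => ha1 (Subtype.ext e))
    have hck : Commute (d : C) ((a : C) ^ k) :=
      (congrArg Subtype.val (mem_cn.mp hd).eq : (d : C) * a = a * d) |> fun e => Commute.pow_right e k
    rw [Subgroup.mem_subgroupOf]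
    rcases hk with e | e
    · rw [e] at hck
      exact Subgroup.mem_sup_left (h.K_le_Mx (mem_cn.mpr hck))
    · exact (h.line_facts e).1 (mem_cn.mpr hck)
  -- a normal subgroup meets `A` if its order is divisible by three
  have meets : ∀ N : Subgroup ↥h.Dt, N.Normal → ∀ g ∈ N, g ^ 3 = 1 → g ≠ 1 →
      ∃ a ∈ A, a ∈ N ∧ a ≠ 1 := by
    intro N hN g hg hg3 hg1
    let SA := hA3.toSylow hAidx
    have hgp : IsPGroup 3 (Subgroup.zpowers g) := IsPGroup.of_card (n := 1) (by
      rw [Nat.card_zpowers, pow_one]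
      exact orderOf_eq_prime hg3 hg1)
    obtain ⟨S, hS⟩ := hgp.exists_le_sylow
    obtain ⟨m, hm⟩ := MulAction.exists_smul_eq ↥h.Dt S SA
    refine ⟨m * g * m⁻¹, ?_, hN.conj_mem g hg m, fun e => hg1 (conj_eq_one_iff.mp e)⟩
    have h1 : (MulAut.conj m) • (S : Subgroup ↥h.Dt) = (SA : Subgroup ↥h.Dt) := by rw [← hm]; rfl
    rw [show A = (SA : Subgroup ↥h.Dt) from (IsPGroup.toSylow_coe _ _).symm, ← h1]
    exact ⟨g, hS (Subgroup.mem_zpowers g), rfl⟩
  -- the kernel
  have kerA : ∀ a ∈ A, φ a = 1 → a = 1 := by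
    intro a ha h1
    by_contra ha1
    obtain ⟨-, k, hk⟩ := lineD a ha ha1
    have hfix : ∀ b, φ b = 1 → ∀ v ∈ LinearMap.range (T + 1), ρ b v = v := by
      intro b hb v hv
      have := hφ b ⟨v, hv⟩
      rw [hb] at this
      exact this.symm
    have hb : φ (a ^ k) = 1 := by rw [map_pow, h1, one_pow]
    rcases hk with e | e | e | e <;> rw [e] at hb <;> replace hb := hfix _ hb
    · have hpos := P.finrank_range
      obtain ⟨v, hv, hv0⟩ := Submodule.exists_mem_ne_zero_of_ne_bot (p := LinearMap.range (T + 1))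
        (fun e => by rw [e, finrank_bot] at hpos; omega)
      exact hv0 (P.Xfix v (hb v hv))
    · have hpos := P.finrank_range
      obtain ⟨v, hv, hv0⟩ := Submodule.exists_mem_ne_zero_of_ne_bot (p := LinearMap.range (T + 1))
        (fun e => by rw [e, finrank_bot] at hpos; omega)
      exact hv0 (P.range_fix hv (hb v hv))
    · obtain ⟨v, hv, hv1⟩ := P.range_moved1
      refine hv1 ?_
      have := hb v hv
      rwa [map_mul] at this
    · obtain ⟨v, hv, hv1⟩ := P.range_moved2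
      refine hv1 ?_
      have := hb v hv
      rwa [map_mul, map_pow] at this
  have ker3 : ¬ 3 ∣ Nat.card φ.ker := by
    intro h3
    obtain ⟨⟨g, hg⟩, hg3⟩ := exists_prime_orderOf_dvd_card' 3 h3
    rw [Subgroup.orderOf_mk] at hg3
    obtain ⟨a, ha, han, ha1⟩ := meets φ.ker inferInstance g hg (by rw [← hg3, pow_orderOf_eq_one])
      (fun e => by rw [e, orderOf_one] at hg3; omega)
    exact ha1 (kerA a ha han)
  have hxy3 : yD ^ 3 = 1 ∧ xD ^ 3 = 1 :=
    ⟨Subtype.ext (by simpa [yD] using h.y3), Subtype.ext (by simpa [xD] using h.x3)⟩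
  have hyxD : Commute yD xD := Subtype.ext h.yx.eq
  have hxA : xD ∈ A := Subgroup.mem_sup_right (Subgroup.mem_zpowers x)
  have hyA : yD ∈ A := Subgroup.mem_sup_left (Subgroup.mem_zpowers y)
  have hx1 : xD ≠ 1 := fun e => by
    have h3 := h.hx; rw [show x = 1 from congrArg Subtype.val e, orderOf_one] at h3; omega
  have hy1 : yD ≠ 1 := fun e => by
    have h3 := h.hy; rw [show y = 1 from congrArg Subtype.val e, orderOf_one] at h3; omega
  have hyx1 : yD * xD ≠ 1 := fun e => h.y_not_mem (by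
    have : y * x = 1 := congrArg Subtype.val e
    rw [eq_inv_of_mul_eq_one_left this]
    exact inv_mem (Subgroup.mem_zpowers x))
  have hyx2 : yD * xD ^ 2 ≠ 1 := fun e => h.y_not_mem (by
    have : y * x ^ 2 = 1 := by simpa [xD, yD] using congrArg Subtype.val e
    rw [eq_inv_of_mul_eq_one_left this]
    exact inv_mem (pow_mem (Subgroup.mem_zpowers x) 2))
  have hker0 : φ.ker ≤ D0 := le_lines hyxD hxy3.1 hxy3.2 (mem_normalizer_of_normal _ _)
    (mem_normalizer_of_normal _ _) ker3 (inf_le_right.trans (hCnD _ hxA hx1))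
    (inf_le_right.trans (hCnD _ hyA hy1)) (inf_le_right.trans (hCnD _ (mul_mem hyA hxA) hyx1))
    (inf_le_right.trans (hCnD _ (mul_mem hyA (pow_mem hxA 2)) hyx2))
  -- the orders
  have h720 : Nat.card φ.range ∣ 720 := by
    haveI : Fact (Nat.Prime 2) := ⟨Nat.prime_two⟩
    have hc := Symplectic.card_isom hf (q := 2) (Nat.card_zmod 2) (m := 2) P.finrank_range
    rw [show (2 : ℕ) ^ (2 ^ 2) * ∏ i ∈ Finset.range 2, (2 ^ (2 * (i + 1)) - 1) = 720 by
      simp [Finset.prod_range_succ]] at hc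
    rw [← hc]
    exact Subgroup.card_subgroup_dvd_card _
  have hDc : Nat.card ↥h.Dt = Nat.card φ.ker * Nat.card φ.range := by
    rw [← Subgroup.index_ker, Subgroup.card_mul_index]
  obtain ⟨q, hq⟩ := Subgroup.card_dvd_of_le hker0
  have h9q : 9 ∣ q := by
    have h1 : 9 ∣ Nat.card φ.ker * q := hq ▸ hAcard ▸ Subgroup.card_dvd_of_le hA0
    refine (Nat.Coprime.dvd_mul_left ?_).mp h1
    exact (Nat.Coprime.pow_left 2 (Nat.prime_three.coprime_iff_not_dvd.mpr ker3) :
      Nat.Coprime (3 ^ 2) _)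
  obtain ⟨q', rfl⟩ := h9q
  set m := D0.index with hm
  have hm80 : m ∣ 80 := by
    have e1 : Nat.card φ.ker * (9 * q' * m) = Nat.card φ.ker * Nat.card φ.range := by
      rw [← hDc, ← D0.card_mul_index, hq, ← hm]; ring
    have e2 : 9 * (q' * m) ∣ 9 * 80 := by
      rw [← mul_assoc, Nat.eq_of_mul_eq_mul_left Nat.card_pos e1]; exact h720
    exact dvd_trans (dvd_mul_left m q') ((Nat.mul_dvd_mul_iff_left (by norm_num)).mp e2)
  have hmod : 9 ∣ m - 1 := by
    have := dvd_index_sub_one D0 A ⊥ hA0 bot_le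
      (fun a ha c => by rw [Subgroup.mem_bot] at ha; rw [ha]; exact Commute.one_left c)
      (fun a ha ha1 c hc => by
        rw [Subgroup.mem_bot] at ha1
        obtain ⟨h3, -, -⟩ := h.AA_line ha (fun e => ha1 (Subtype.ext e))
        exact h.fixes_three (h.AA_le_Cn.1 ha) h3 (fun e => ha1 (Subtype.ext e)) (c : C) hc)
    rwa [Subgroup.bot_subgroupOf, Subgroup.index_bot, hAcard] at this
  have hm110 : m = 1 ∨ m = 10 := by
    have hle := Nat.le_of_dvd (by norm_num) hm80
    have hpos : 0 < m := Nat.pos_of_ne_zero Subgroup.index_ne_zero_of_finite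
    have key : ∀ n < 81, n ∣ 80 → 9 ∣ n - 1 → 0 < n → n = 1 ∨ n = 10 := by decide +kernel
    exact key m (by omega) hm80 hmod hpos
  rcases hm110 with h1 | h10
  · intro d hd
    have : (⟨d, hd⟩ : ↥h.Dt) ∈ D0 := by rw [Subgroup.index_eq_one.mp h1]; trivial
    exact this
  exfalso
  -- the kernel of the action on the fixed space modulo the image
  set R := LinearMap.range (T + 1) with hR
  have hRinv : ∀ (g : ↥h.Dt), ∀ v ∈ R, ρ g v ∈ R := by
    rintro g _ ⟨a, rfl⟩
    exact ⟨ρ g a, by rw [← Module.End.mul_apply, ← Module.End.mul_apply,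
      ((hcomm g).add_right (Commute.one_right _)).eq]⟩
  have hFinv : ∀ (g : ↥h.Dt), ∀ v ∈ fixedSp T, ρ g v ∈ fixedSp T := fun g v hv =>
    Planes.comm_fixed (hcomm g) hv
  have hcancel : ∀ (g : ↥h.Dt) v, ρ g⁻¹ (ρ g v) = v := fun g v => by
    rw [← Module.End.mul_apply, ← map_mul, inv_mul_cancel, map_one, Module.End.one_apply]
  let N1 : Subgroup ↥h.Dt :=
    { carrier := {d | ∀ v ∈ fixedSp T, ρ d v + v ∈ R}
      one_mem' := fun v _ => by rw [map_one, Module.End.one_apply, Module.add_self]; exact zero_mem R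
      mul_mem' := fun {d e} hd he v hv => by
        have : ρ (d * e) v + v = ρ d (ρ e v + v) + (ρ d v + v) := by
          rw [map_mul, Module.End.mul_apply, map_add,
            show ρ d (ρ e v) + ρ d v + (ρ d v + v) = ρ d (ρ e v) + (ρ d v + ρ d v) + v by abel,
            Module.add_self, add_zero]
        rw [this]
        exact add_mem (hRinv d _ (he v hv)) (hd v hv)
      inv_mem' := fun {d} hd v hv => by
        have : ρ d⁻¹ v + v = ρ d⁻¹ (ρ d v + v) := by rw [map_add, hcancel, add_comm]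
        rw [this]
        exact hRinv _ _ (hd v hv) }
  have hN1 : N1.Normal := ⟨fun d hd g v hv => by
    have e1 : ρ g (ρ g⁻¹ v) = v := by
      rw [← Module.End.mul_apply, ← map_mul, mul_inv_cancel, map_one, Module.End.one_apply]
    have : ρ (g * d * g⁻¹) v + v = ρ g (ρ d (ρ g⁻¹ v) + ρ g⁻¹ v) := by
      rw [map_mul, map_mul, Module.End.mul_apply, Module.End.mul_apply, map_add, e1]
    rw [this]
    exact hRinv g _ (hd _ (hFinv g⁻¹ v hv))⟩
  have hyN : yD ∈ N1 := fun v hv => P.y_quot hv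
  have hNA : ∀ a ∈ A, a ∈ N1 → a ∈ Subgroup.zpowers yD := by
    intro a ha haN
    by_cases ha1 : a = 1
    · rw [ha1]; exact one_mem _
    obtain ⟨h3, k, hk⟩ := lineD a ha ha1
    have hkN : a ^ k ∈ N1 := pow_mem haN k
    rcases hk with e | e | e | e
    · exfalso
      obtain ⟨v, hv, hv1⟩ := P.quot_moved (h.base.rho x) (Or.inl rfl)
      exact hv1 ((e ▸ hkN) v hv)
    · have hk0 : ¬ 3 ∣ k := by
        rintro ⟨j, rfl⟩
        rw [pow_mul, h3, one_pow] at e
        exact hy1 e.symm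
      have hmem : Subgroup.zpowers (a ^ k) = Subgroup.zpowers a := by
        refine Subgroup.eq_of_le_of_card_ge (Subgroup.zpowers_le.mpr
          (pow_mem (Subgroup.mem_zpowers a) k)) ?_
        rw [Nat.card_zpowers, Nat.card_zpowers, orderOf_eq_prime h3 ha1, e,
          Subgroup.orderOf_mk, h.hy]
      rw [← e, hmem]
      exact Subgroup.mem_zpowers a
    · exfalso
      obtain ⟨v, hv, hv1⟩ := P.quot_moved _ (Or.inr (Or.inl rfl))
      have := (e ▸ hkN) v hv
      rw [map_mul] at this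
      exact hv1 this
    · exfalso
      obtain ⟨v, hv, hv1⟩ := P.quot_moved _ (Or.inr (Or.inr rfl))
      have := (e ▸ hkN) v hv
      rw [map_mul, map_pow] at this
      exact hv1 this
  -- three-part of `N1`
  have hN9 : ¬ 9 ∣ Nat.card N1 := by
    intro h9
    obtain ⟨Q', hQ'⟩ := Sylow.exists_subgroup_card_pow_prime (G := ↥N1) 3 (n := 2) (by simpa using h9)
    set Q := Q'.map N1.subtype with hQ
    have hQc : Nat.card Q = 3 ^ 2 := by
      rw [← hQ']
      exact (Nat.card_congr (Q'.equivMapOfInjective _ (Subgroup.subtype_injective _)).toEquiv).symm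
    let SA := hA3.toSylow hAidx
    obtain ⟨S, hS⟩ := (IsPGroup.of_card hQc).exists_le_sylow
    obtain ⟨m', hm'⟩ := MulAction.exists_smul_eq ↥h.Dt S SA
    have h1 : (MulAut.conj m') • (S : Subgroup ↥h.Dt) = A := by
      rw [show A = (SA : Subgroup ↥h.Dt) from (IsPGroup.toSylow_coe _ _).symm, ← hm']; rfl
    have hsub : MulAut.conj m' • Q ≤ Subgroup.zpowers yD := by
      intro g hg
      refine hNA g (h1 ▸ ?_) ?_
      · exact Subgroup.pointwise_smul_le_pointwise_smul_iff.mpr hS hg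
      · rw [Coprime.mem_conj_smul] at hg
        have := hN1.conj_mem _ (Subgroup.map_subtype_le _ hg) m'
        rwa [show m' * (m'⁻¹ * g * m') * m'⁻¹ = g by group] at this
    have := Subgroup.card_le_of_le hsub
    rw [Coprime.card_conj_smul, hQc, Nat.card_zpowers, Subgroup.orderOf_mk, h.hy] at this
    norm_num at this
  -- the subgroup generated with `D0`
  have hsup : D0 ⊔ N1 = ⊤ := by
    have hyN1 : (Subgroup.zpowers yD).subgroupOf N1 ≤ ⊤ := le_top
    have hyc : Nat.card ((Subgroup.zpowers yD).subgroupOf N1) = 3 ^ 1 := by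
      rw [Nat.card_congr (Subgroup.subgroupOfEquivOfLe (Subgroup.zpowers_le.mpr hyN)).toEquiv,
        Nat.card_zpowers, Subgroup.orderOf_mk, h.hy, pow_one]
    have hyi : ¬ 3 ∣ ((Subgroup.zpowers yD).subgroupOf N1).index := by
      intro ⟨k, hk⟩
      apply hN9
      rw [← ((Subgroup.zpowers yD).subgroupOf N1).card_mul_index, hyc, hk]
      exact ⟨k, by ring⟩
    let SY := (IsPGroup.of_card hyc).toSylow hyi
    have hmap : (SY : Subgroup ↥N1).map N1.subtype = Subgroup.zpowers yD := by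
      rw [show (SY : Subgroup ↥N1) = (Subgroup.zpowers yD).subgroupOf N1 from IsPGroup.toSylow_coe _ _,
        Subgroup.subgroupOf_map_subtype, inf_eq_left.mpr (Subgroup.zpowers_le.mpr hyN)]
    haveI := hN1
    have htop := Sylow.normalizer_sup_eq_top SY
    rw [hmap] at htop
    refine top_le_iff.mp (htop.symm.le.trans (sup_le_sup_right (fun c hc => ?_) _))
    have h1 : c * yD * c⁻¹ ∈ A :=
      (Subgroup.zpowers_le.mpr hyA) ((Subgroup.mem_normalizer_iff.mp hc yD).mp (Subgroup.mem_zpowers _))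
    have h2 := h.fixes_y ((c : C))⁻¹ (by
      rw [inv_inv]
      exact Subgroup.mem_sup_left (h.K_le_Mx (h.AA_le_Cn.1 h1)))
    exact (inv_mem_iff (H := D0)).mp (h2 : c⁻¹ ∈ D0)
  have h5N : 5 ∣ Nat.card N1 := by
    haveI := hN1
    have h1 := card_sup D0 N1
    rw [hsup, Subgroup.card_top, ← D0.card_mul_index, ← hm, h10, mul_assoc] at h1
    have h2 := Nat.eq_of_mul_eq_mul_left Nat.card_pos h1
    exact ⟨2 * Nat.card ↥(D0 ⊓ N1), by rw [← h2]; ring⟩
  -- invariant five-subgroups are trivial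
  have no5 : ∀ Q : Subgroup ↥h.Dt, ∀ a ∈ A, a ≠ 1 → a ∈ Subgroup.normalizer (Q : Set ↥h.Dt) →
      ¬ 5 ∣ Nat.card ↥(Q ⊓ Cn a) := by
    intro Q a ha ha1 _ h5
    obtain ⟨⟨d, hd⟩, hd5⟩ := exists_prime_orderOf_dvd_card' 5 h5
    rw [Subgroup.orderOf_mk] at hd5
    exact h.no_five (d := (d : C)) ha (fun e => ha1 (Subtype.ext e)) d.2
      (by rw [Subgroup.orderOf_coe, hd5]) (congrArg Subtype.val (mem_cn.mp hd.2).eq)
  have ker5 : ¬ 5 ∣ Nat.card φ.ker := by
    intro h5
    have hcop : (Nat.card A).Coprime (Nat.card φ.ker) := by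
      rw [hAcard]
      exact (Nat.Coprime.pow_left 2 (Nat.prime_three.coprime_iff_not_dvd.mpr ker3) :
        Nat.Coprime (3 ^ 2) _)
    obtain ⟨Q, hQ⟩ := Coprime.exists_invariant_sylow (A := A) (K := φ.ker)
      (fun a _ => mem_normalizer_of_normal _ a) hcop
      (Or.inl (Coprime.isSolvable_of_isPGroup hA3)) 5
    set Q' := (Q : Subgroup φ.ker).map φ.ker.subtype with hQ'
    have hQp : IsPGroup 5 Q' := Q.2.map _
    have h5Q : 5 ∣ Nat.card Q' := by
      rw [Coprime.card_sylow_map Q, ← Q.card_eq_multiplicity]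
      exact Q.dvd_card_of_dvd_card h5
    have hne : ∀ a ∈ A, a ≠ 1 → Q' ⊓ Cn a ≤ ⊥ := by
      intro a ha ha1
      obtain ⟨n, hn⟩ := IsPGroup.iff_card.mp (hQp.to_le (inf_le_left : Q' ⊓ Cn a ≤ Q'))
      rcases Nat.eq_zero_or_pos n with rfl | hn0
      · exact (Subgroup.card_eq_one.mp hn).le
      · exact absurd (hn ▸ dvd_pow_self 5 hn0.ne') (no5 Q' a ha ha1 (hQ ha))
    have hQ3 : ¬ 3 ∣ Nat.card Q' := fun h3 => ker3 (h3.trans (Subgroup.card_dvd_of_le
      (Subgroup.map_subtype_le _)))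
    have hbot := le_lines hyxD hxy3.1 hxy3.2 (hQ hyA) (hQ hxA) hQ3 (T := ⊥)
      (hne _ hxA hx1) (hne _ hyA hy1) (hne _ (mul_mem hyA hxA) hyx1)
      (hne _ (mul_mem hyA (pow_mem hxA 2)) hyx2)
    rw [le_bot_iff.mp hbot, Subgroup.card_bot] at h5Q
    norm_num at h5Q
  obtain ⟨Q⟩ : Nonempty (Sylow 5 ↥N1) := inferInstance
  set Q' := (Q : Subgroup ↥N1).map N1.subtype with hQ'
  have hQc : Nat.card Q' = 5 := by
    obtain ⟨n, hn⟩ := IsPGroup.iff_card.mp (Q.2.map N1.subtype)
    rw [← hQ'] at hn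
    have h5Q : 5 ∣ Nat.card Q' := by
      rw [Coprime.card_sylow_map Q, ← Q.card_eq_multiplicity]
      exact Q.dvd_card_of_dvd_card h5N
    have hdvd : 5 ^ n ∣ Nat.card φ.ker * 720 :=
      (hn ▸ Subgroup.card_subgroup_dvd_card Q').trans (hDc ▸ Nat.mul_dvd_mul_left _ h720)
    have h720' : 5 ^ n ∣ 720 := (Nat.Coprime.dvd_mul_left (Nat.Coprime.pow_left n
      ((Nat.Prime.coprime_iff_not_dvd (by norm_num)).mpr ker5))).mp hdvd
    rcases (show n = 0 ∨ n = 1 ∨ 2 ≤ n by omega) with rfl | rfl | hn2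
    · rw [hn] at h5Q; norm_num at h5Q
    · simpa using hn
    · exact absurd ((pow_dvd_pow 5 hn2).trans h720') (by norm_num)
  haveI := hN1
  have hfr := Sylow.normalizer_sup_eq_top Q
  rw [← hQ'] at hfr
  have hdvd : (Subgroup.normalizer (Q' : Set ↥h.Dt)).index ∣ Nat.card N1 := by
    have h1 := card_sup (Subgroup.normalizer (Q' : Set ↥h.Dt)) N1
    rw [hfr, Subgroup.card_top, ← (Subgroup.normalizer (Q' : Set ↥h.Dt)).card_mul_index, mul_assoc] at h1
    exact ⟨_, (Nat.eq_of_mul_eq_mul_left Nat.card_pos h1).symm⟩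
  by_cases hfree : ∀ a ∈ A, ∀ c : ↥h.Dt, c⁻¹ * a * c ∈ Subgroup.normalizer (Q' : Set ↥h.Dt) → a = 1
  · have := dvd_index_of_free _ A hfree
    rw [hAcard] at this
    exact hN9 (this.trans hdvd)
  push_neg at hfree
  obtain ⟨a, ha, c, hc, ha1⟩ := hfree
  have hnorm : a ∈ Subgroup.normalizer ((MulAut.conj c • Q' : Subgroup ↥h.Dt) : Set ↥h.Dt) := by
    refine Subgroup.mem_normalizer_iff.mpr fun g => ?_
    rw [Coprime.mem_conj_smul, Coprime.mem_conj_smul, Subgroup.mem_normalizer_iff.mp hc]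
    rw [show c⁻¹ * (a * g * a⁻¹) * c = c⁻¹ * a * c * (c⁻¹ * g * c) * (c⁻¹ * a * c)⁻¹ by group]
  obtain ⟨h3, -, -⟩ := lineD a ha ha1
  have hmod5 := modEq_fixed (r := 3) (orderOf_eq_prime h3 ha1) _ hnorm
  rw [Coprime.card_conj_smul, hQc] at hmod5
  have hdiv := Subgroup.card_dvd_of_le
    (inf_le_left : (MulAut.conj c • Q') ⊓ Cn a ≤ MulAut.conj c • Q')
  rw [Coprime.card_conj_smul, hQc] at hdiv
  rcases (Nat.dvd_prime (by norm_num)).mp hdiv with e | e
  · rw [e] at hmod5
    exact absurd hmod5 (by decide)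
  · exact no5 _ a ha ha1 hnorm (by rw [e])

end Six

end Cfsg.Agent.Lib.J4Six76
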