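import Cfsg.Agent.Lib.J4Six76.Basic
import Cfsg.Agent.Lib.J4Local.AutFacts
import Cfsg.Agent.Lib.Cores.Basic
import Cfsg.Agent.Lib.PGroups.Frattini
import Cfsg.Prelude.Def_Solvable
import Cfsg.Prelude.Def_Transfer

/-!
# The largest normal 2-subgroup is extraspecial of order `2 ^ 13`
-/

set_option autoImplicit false
set_option linter.style.haveILetI false

namespace Cfsg.Agent.Lib.J4Six76

open Cfsg Cfsg.Agent.Lib.J4Local
open scoped commutatorElement

/-- The configuration inside the centraliser `C` of the involution `z`: `x` has order three with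
centraliser a sixfold cover of M22, `y` is fused to `x`, `t` is the involution central in `C(y)`,
`u` inverts `x` and `s` moves `y` to `y * x`. -/
structure Six {C : Type*} [Group C] (x y t z u s : C) (π : ↥(Cn x) →* AutM22) : Prop where
  z_central : ∀ c : C, Commute c z
  hz : orderOf z = 2
  hx : orderOf x = 3
  hy : orderOf y = 3
  ht : orderOf t = 2
  yx : Commute y x
  tx : Commute t x
  ty : ∀ c : C, Commute c y → Commute c t
  t_out : ∀ h : t ∈ Cn x, π ⟨t, h⟩ ≠ 1
  y_out : ∀ h : y ∈ Cn x, π ⟨y, h⟩ ≠ 1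
  ux : u * x * u⁻¹ = x⁻¹
  uy : Commute u y
  sx : Commute s x
  sy : s * y * s⁻¹ = y * x
  range : π.range = inn
  ker : ∀ k : ↥(Cn x), π k = 1 ↔ ∃ a ∈ Subgroup.zpowers x, ∃ b ∈ Subgroup.zpowers z, (k : C) = a * b
  kcard : Nat.card ↥(Cn x) = 2661120
  perfect : ⁅Cn x, Cn x⁆ = Cn x
  cls : ∀ a : C, Commute a x → a ^ 3 = 1 →
    a ∈ Subgroup.zpowers x ∨ ∃ k : C, Commute k x ∧ k * a * k⁻¹ = y
  cy_card : Nat.card ↥(Cn y) ≤ 2304
  cy_two : ∀ P : Subgroup C, P ≤ Cn y → IsPGroup 2 P → Nat.card P ≤ 256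
  cy_exp2 : ∀ P : Subgroup C, P ≤ Cn y → (∀ p ∈ P, p * p = 1) → Nat.card P ≤ 32
  cxy_card : Nat.card ↥(Cn x ⊓ Cn y) = 72
  no81 : ¬ 81 ∣ Nat.card C
  self : ∀ c : C, (∀ q ∈ pCore 2 C, Commute q c) → c ∈ pCore 2 C

theorem two_pow_diff {e f : ℕ} (he : e ≤ 20) (hf : f ≤ e) (h : 2 ^ e % 11 = 2 ^ f % 11) :
    e = f ∨ f + 10 ≤ e := by
  revert h
  interval_cases e <;> interval_cases f <;> decide

/-- Fixed points of an element of order eleven on a group of order `2 ^ e`. -/
theorem fixed_eleven {C : Type*} [Group C] [Finite C] {f : C} (hf : orderOf f = 11)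
    (L : Subgroup C) (hL : f ∈ Subgroup.normalizer (L : Set C)) {e : ℕ} (he : e ≤ 20)
    (hcard : Nat.card L = 2 ^ e) :
    L ≤ Cn f ∨ 2 ^ 10 * Nat.card ↥(L ⊓ Cn f) ≤ 2 ^ e := by
  haveI : Fact (Nat.Prime 11) := ⟨by norm_num⟩
  have h := modEq_fixed hf L hL
  obtain ⟨d, hde, hd⟩ := (Nat.dvd_prime_pow Nat.prime_two).mp
    (hcard ▸ Subgroup.card_dvd_of_le (inf_le_left : L ⊓ Cn f ≤ L))
  rw [hcard, hd] at h
  rcases two_pow_diff he hde h with h' | h'
  · left
    rw [← Subgroup.eq_of_le_of_card_ge (inf_le_left : L ⊓ Cn f ≤ L)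
      (le_of_eq (by rw [hcard, hd, h']))]
    exact inf_le_right
  · right
    rw [hd, ← pow_add]
    exact Nat.pow_le_pow_right (by norm_num) (by omega)

namespace Six

variable {C : Type*} [Group C] {x y t z u s : C} {π : ↥(Cn x) →* AutM22}

theorem x3 (h : Six x y t z u s π) : x ^ 3 = 1 := by rw [← h.hx, pow_orderOf_eq_one]

theorem y3 (h : Six x y t z u s π) : y ^ 3 = 1 := by rw [← h.hy, pow_orderOf_eq_one]

theorem zz (h : Six x y t z u s π) : z * z = 1 := by rw [← pow_two, ← h.hz, pow_orderOf_eq_one]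

theorem z_cases (h : Six x y t z u s π) {b : C} (hb : b ∈ Subgroup.zpowers z) : b = 1 ∨ b = z := by
  obtain ⟨i, rfl⟩ := hb
  change z ^ i = 1 ∨ z ^ i = z
  rw [← zpow_mod_orderOf, h.hz]
  rcases Int.emod_two_eq i with e | e
  · left; rw [show i % ((2 : ℕ) : ℤ) = 0 from e, zpow_zero]
  · right; rw [show i % ((2 : ℕ) : ℤ) = 1 from e, zpow_one]

theorem zCn (h : Six x y t z u s π) (a : C) : Subgroup.zpowers z ≤ Cn a :=
  Subgroup.zpowers_le.mpr (mem_cn.mpr (h.z_central a).symm)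

theorem z_comm (h : Six x y t z u s π) {b : C} (hb : b ∈ Subgroup.zpowers z) (c : C) : Commute b c := by
  rcases h.z_cases hb with rfl | rfl
  exacts [Commute.one_left c, (h.z_central c).symm]

theorem zNormal (h : Six x y t z u s π) : (Subgroup.zpowers z).Normal :=
  ⟨fun b hb c => by rwa [(h.z_comm hb c).symm.eq, mul_inv_cancel_right]⟩

/-- An element of the kernel whose order is a power of two lies in `⟨z⟩`. -/
theorem two_ker (h : Six x y t z u s π) {c : C} (hc : c ∈ Cn x) (h1 : π ⟨c, hc⟩ = 1) {n : ℕ}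
    (h2 : c ^ 2 ^ n = 1) : c ∈ Subgroup.zpowers z := by
  obtain ⟨a, ha, b, hb, e⟩ := (h.ker _).mp h1
  have e' : c = a * b := e
  subst e'
  refine mul_mem ?_ hb
  have ha3 : a ^ 3 = 1 := by
    obtain ⟨i, rfl⟩ := ha
    change (x ^ i) ^ 3 = 1
    rw [← zpow_natCast, ← zpow_mul, mul_comm, zpow_mul, zpow_natCast, h.x3, one_zpow]
  have hb2 : b ^ 2 ^ (n + 1) = 1 := by
    rw [pow_succ', pow_mul]
    rcases h.z_cases hb with rfl | rfl
    · simp
    · rw [pow_two, h.zz, one_pow]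
  have hcomm : Commute a b := (h.z_comm hb a).symm
  have h2' : (a * b) ^ 2 ^ (n + 1) = 1 := by rw [pow_succ, pow_mul, h2, one_pow]
  rw [hcomm.mul_pow, hb2, mul_one] at h2'
  have hg := pow_gcd_eq_one.mpr ⟨ha3, h2'⟩
  have hco : Nat.Coprime 3 (2 ^ (n + 1)) := Nat.Coprime.pow_right _ (by norm_num)
  rw [Nat.coprime_iff_gcd_eq_one.mp hco, pow_one] at hg
  exact hg ▸ one_mem _

variable [Finite C]

theorem eTwo (_h : Six x y t z u s π) : IsPGroup 2 ↥(pCore 2 C) := Cores.pCore_isPGroup 2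

theorem eNormal (_h : Six x y t z u s π) : (pCore 2 C).Normal := inferInstance

theorem z_mem (h : Six x y t z u s π) : z ∈ pCore 2 C := by
  haveI := h.zNormal
  refine Cores.le_pCore (IsPGroup.of_card (n := 1) ?_) (Subgroup.mem_zpowers z)
  rw [Nat.card_zpowers, h.hz, pow_one]

theorem not3 (h : Six x y t z u s π) {X : Subgroup C} (hX : X ≤ pCore 2 C) : ¬ 3 ∣ Nat.card X := by
  intro h3
  obtain ⟨n, hn⟩ := IsPGroup.iff_card.mp (h.eTwo.to_le hX)
  rw [hn] at h3
  have := (Nat.prime_dvd_prime_iff_eq Nat.prime_three Nat.prime_two).mp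
    (Nat.prime_three.dvd_of_dvd_pow h3)
  omega

theorem zpow_z_card (h : Six x y t z u s π) : Nat.card ↥(Subgroup.zpowers z) = 2 := by
  rw [Nat.card_zpowers, h.hz]

theorem CE_x (h : Six x y t z u s π) : pCore 2 C ⊓ Cn x = Subgroup.zpowers z := by
  refine le_antisymm ?_ (le_inf (Subgroup.zpowers_le.mpr h.z_mem) (h.zCn x))
  haveI := h.eNormal
  set N : Subgroup AutM22 := ((pCore 2 C).subgroupOf (Cn x)).map π with hN
  have hNi : N ≤ inn := h.range ▸ Subgroup.map_le_range π _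
  have hNp : IsPGroup 2 N :=
    (h.eTwo.comap_of_injective (Cn x).subtype (Cn x).subtype_injective).map π
  have hnorm : (N.subgroupOf inn).Normal := by
    refine ⟨fun n hn g => ?_⟩
    rw [Subgroup.mem_subgroupOf] at hn ⊢
    obtain ⟨k, hk, hk'⟩ := hn
    obtain ⟨c, hc⟩ := (h.range.symm ▸ g.2 : (g : AutM22) ∈ π.range)
    refine ⟨c * k * c⁻¹, ?_, ?_⟩
    · exact Subgroup.Normal.conj_mem inferInstance k hk c
    · simp [hk', hc]
  haveI := autFacts.simple
  rcases hnorm.eq_bot_or_eq_top with hb | ht'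
  · rw [Subgroup.subgroupOf_eq_bot, disjoint_iff, inf_eq_left.mpr hNi] at hb
    intro c hc
    obtain ⟨n, hn⟩ := h.eTwo ⟨c, hc.1⟩
    refine h.two_ker hc.2 ?_ (n := n) (by simpa using congrArg Subtype.val hn)
    have : π ⟨c, hc.2⟩ ∈ N := ⟨⟨c, hc.2⟩, hc.1, rfl⟩
    rwa [hb, Subgroup.mem_bot] at this
  · rw [Subgroup.subgroupOf_eq_top] at ht'
    exfalso
    obtain ⟨n, hn⟩ := IsPGroup.iff_card.mp hNp
    rw [le_antisymm hNi ht', autFacts.card_inn] at hn
    have h11 : 11 ∣ 2 ^ n := hn ▸ (by norm_num : (11 : ℕ) ∣ 443520)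
    have := (Nat.prime_dvd_prime_iff_eq (by norm_num) Nat.prime_two).mp
      ((by norm_num : Nat.Prime 11).dvd_of_dvd_pow h11)
    omega

theorem ycx (h : Six x y t z u s π) : y ∈ Cn x := mem_cn.mpr h.yx

theorem ypow (h : Six x y t z u s π) (i : ℕ) :
    s * (y * x ^ i) * s⁻¹ = y * x ^ (i + 1) := by
  rw [show s * (y * x ^ i) * s⁻¹ = s * y * s⁻¹ * (s * x ^ i * s⁻¹) by group, h.sy,
    (h.sx.pow_right i).eq, mul_inv_cancel_right, pow_succ', mul_assoc]

theorem card_conj_line (X : Subgroup C) [X.Normal] (d a : C) :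
    Nat.card ↥(X ⊓ Cn (d * a * d⁻¹)) = Nat.card ↥(X ⊓ Cn a) :=
  Nat.card_congr
    { toFun := fun e => ⟨d⁻¹ * e * d,
        by simpa using Subgroup.Normal.conj_mem inferInstance (e : C) e.2.1 d⁻¹,
        by simpa [mul_assoc] using conj_mem_cn (d := d⁻¹) e.2.2⟩
      invFun := fun e => ⟨d * e * d⁻¹, Subgroup.Normal.conj_mem inferInstance (e : C) e.2.1 d,
        conj_mem_cn e.2.2⟩
      left_inv := fun e => Subtype.ext (by simp [mul_assoc])
      right_inv := fun e => Subtype.ext (by simp [mul_assoc]) }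

theorem card_line1 (h : Six x y t z u s π) (X : Subgroup C) [X.Normal] :
    Nat.card ↥(X ⊓ Cn (y * x)) = Nat.card ↥(X ⊓ Cn y) := by
  rw [← h.sy, card_conj_line]

theorem card_line2 (h : Six x y t z u s π) (X : Subgroup C) [X.Normal] :
    Nat.card ↥(X ⊓ Cn (y * x ^ 2)) = Nat.card ↥(X ⊓ Cn y) := by
  rw [← h.card_line1 X, ← h.ypow 1, card_conj_line, pow_one]

theorem lines (h : Six x y t z u s π) (X : Subgroup C) [X.Normal] (hX : X ≤ pCore 2 C)
    {T : Subgroup C} (hzT : Subgroup.zpowers z ≤ T) (h0 : X ⊓ Cn y ≤ T)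
    (h1 : X ⊓ Cn (y * x) ≤ T) (h2 : X ⊓ Cn (y * x ^ 2) ≤ T) : X ≤ T :=
  le_lines h.yx h.y3 h.x3 (mem_normalizer_of_normal X y) (mem_normalizer_of_normal X x)
    (h.not3 hX) ((le_trans (inf_le_inf_right _ hX) h.CE_x.le).trans hzT) h0 h1 h2

/-- `C_E(y)` has order at most 32. -/
theorem U_le (h : Six x y t z u s π) : Nat.card ↥(pCore 2 C ⊓ Cn y) ≤ 32 := by
  haveI := h.eNormal
  haveI : Fact (Nat.Prime 2) := ⟨Nat.prime_two⟩
  haveI : Fact (Nat.Prime 3) := ⟨Nat.prime_three⟩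
  obtain ⟨P0, hP0⟩ := Sylow.exists_subgroup_card_pow_prime (G := ↥(Cn x ⊓ Cn y)) 2 (n := 3)
    (by rw [h.cxy_card]; norm_num)
  set P := P0.map (Cn x ⊓ Cn y).subtype with hP
  have hPle : P ≤ Cn x ⊓ Cn y := Subgroup.map_subtype_le _
  have hPcard : Nat.card P = 2 ^ 3 := by
    rw [← hP0]
    exact (Nat.card_congr (P0.equivMapOfInjective _ (Subgroup.subtype_injective _)).toEquiv).symm
  set U := pCore 2 C ⊓ Cn y with hU
  have hPU : P ≤ Subgroup.normalizer (U : Set C) := fun p hp =>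
    mem_normalizer_inf_cn _ (hPle hp).2
  have hUp : IsPGroup 2 U := h.eTwo.to_le inf_le_left
  have h256 := h.cy_two (P ⊔ U) (sup_le (hPle.trans inf_le_right) inf_le_right)
    ((IsPGroup.of_card hPcard).to_sup_of_normal_right' hUp hPU)
  have hinf : P ⊓ U ≤ Subgroup.zpowers z := h.CE_x ▸ le_inf (inf_le_right.trans inf_le_left)
    (inf_le_left.trans (hPle.trans inf_le_left))
  have hinf2 := Subgroup.card_le_of_le hinf
  rw [h.zpow_z_card] at hinf2
  have hmul := PLocal.card_sup_mul_card_inf hPU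
  rw [hPcard] at hmul
  have h64 : Nat.card U ≤ 64 := by
    have := Nat.mul_le_mul h256 hinf2
    rw [hmul] at this
    omega
  obtain ⟨n, hn⟩ := IsPGroup.iff_card.mp hUp
  have hfix : U ⊓ Cn x = Subgroup.zpowers z :=
    le_antisymm (h.CE_x ▸ inf_le_inf_right _ inf_le_left)
      (le_inf (le_inf (Subgroup.zpowers_le.mpr h.z_mem) (h.zCn y)) (h.zCn x))
  have hmod := modEq_fixed h.hx U (mem_normalizer_inf_cn _ (mem_cn.mpr h.yx.symm))
  rw [hfix, h.zpow_z_card, hn] at hmod
  rw [hn] at h64 ⊢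
  have h6 : n ≤ 6 := (Nat.pow_le_pow_iff_right (by norm_num)).mp (h64 : 2 ^ n ≤ 2 ^ 6)
  interval_cases n <;> first | (norm_num; done) | exact absurd hmod (by decide)

theorem exists_eleven (h : Six x y t z u s π) :
    ∃ f : C, orderOf f = 11 ∧ f ∈ Cn x ∧ ¬ pCore 2 C ≤ Cn f := by
  haveI : Fact (Nat.Prime 11) := ⟨by norm_num⟩
  obtain ⟨⟨f, hfx⟩, hf⟩ := exists_prime_orderOf_dvd_card' (G := ↥(Cn x)) 11
    (by rw [h.kcard]; norm_num)
  rw [Subgroup.orderOf_mk] at hf
  refine ⟨f, hf, hfx, fun hle => ?_⟩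
  have hfE : f ∈ pCore 2 C := h.self f fun q hq => mem_cn.mp (hle hq)
  obtain ⟨n, hn⟩ := h.eTwo ⟨f, hfE⟩
  have hd := orderOf_dvd_of_pow_eq_one (by simpa using congrArg Subtype.val hn : f ^ 2 ^ n = 1)
  rw [hf] at hd
  have := (Nat.prime_dvd_prime_iff_eq (by norm_num) Nat.prime_two).mp
    ((by norm_num : Nat.Prime 11).dvd_of_dvd_pow hd)
  omega

/-- The Frattini subgroup of the core together with `z`, inside `C`. -/
def phiZ (z : C) : Subgroup C := (frattini ↥(pCore 2 C)).map (pCore 2 C).subtype ⊔ Subgroup.zpowers z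

theorem phiZ_normal (h : Six x y t z u s π) : (phiZ z : Subgroup C).Normal := by
  haveI := h.zNormal
  haveI : ((frattini ↥(pCore 2 C)).map (pCore 2 C).subtype).Normal := Cores.normal_map_subtype _ _
  exact Subgroup.sup_normal _ _

theorem phiZ_le (h : Six x y t z u s π) : phiZ z ≤ pCore 2 C :=
  sup_le (Subgroup.map_subtype_le _) (Subgroup.zpowers_le.mpr h.z_mem)

theorem comm_phiZ (h : Six x y t z u s π) {a b : C} (ha : a ∈ pCore 2 C) (hb : b ∈ pCore 2 C) :
    a * b * a⁻¹ * b⁻¹ ∈ phiZ z := by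
  haveI : Fact (Nat.Prime 2) := ⟨Nat.prime_two⟩
  refine Subgroup.mem_sup_left ⟨⁅(⟨a, ha⟩ : ↥(pCore 2 C)), ⟨b, hb⟩⁆,
    PGroups.commutatorElement_mem_frattini h.eTwo _ _, ?_⟩
  simp [commutatorElement_def]

theorem sq_phiZ (h : Six x y t z u s π) {a : C} (ha : a ∈ pCore 2 C) : a * a ∈ phiZ z := by
  haveI : Fact (Nat.Prime 2) := ⟨Nat.prime_two⟩
  refine Subgroup.mem_sup_left ⟨(⟨a, ha⟩ : ↥(pCore 2 C)) ^ 2,
    PGroups.pow_mem_frattini h.eTwo _, ?_⟩
  simp [pow_two]

theorem core_norm (h : Six x y t z u s π) {Y : Subgroup C} (h1 : phiZ z ≤ Y) (h2 : Y ≤ pCore 2 C) :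
    pCore 2 C ≤ Subgroup.normalizer (Y : Set C) := by
  intro e he
  have key : ∀ d ∈ pCore 2 C, ∀ a ∈ Y, d * a * d⁻¹ ∈ Y := by
    intro d hd a ha
    have := mul_mem (h1 (h.comm_phiZ hd (h2 ha))) ha
    rwa [inv_mul_cancel_right] at this
  refine Subgroup.mem_normalizer_iff.mpr fun a => ⟨key e he a, fun ha => ?_⟩
  have := key e⁻¹ (inv_mem he) _ ha
  rwa [show e⁻¹ * (e * a * e⁻¹) * e⁻¹⁻¹ = a by group] at this

theorem U_card_phiZ (h : Six x y t z u s π) :
    Nat.card ↥(pCore 2 C ⊓ Cn y) = 32 ∧ phiZ z = Subgroup.zpowers z := by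
  haveI := h.eNormal
  haveI := h.phiZ_normal
  set E := pCore 2 C with hE
  set D0 : Subgroup C := phiZ z with hD0
  have hzD : Subgroup.zpowers z ≤ D0 := le_sup_right
  set c := Nat.card ↥(E ⊓ Cn y) with hc
  set d := Nat.card ↥(D0 ⊓ Cn y) with hd
  -- adjoining a line
  have step : ∀ (a : C) (Y : Subgroup C), Nat.card ↥(E ⊓ Cn a) = c → Nat.card ↥(D0 ⊓ Cn a) = d →
      D0 ≤ Y → Y ≤ E → Nat.card ↥(E ⊓ Cn a ⊔ Y) * d ≤ c * Nat.card Y := by
    intro a Y hca hda h1 h2
    have hn : E ⊓ Cn a ≤ Subgroup.normalizer (Y : Set C) := inf_le_left.trans (h.core_norm h1 h2)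
    rw [← hca, ← hda, ← PLocal.card_sup_mul_card_inf hn]
    exact Nat.mul_le_mul_left _ (Subgroup.card_le_of_le
      (le_inf (inf_le_inf_right _ h.phiZ_le) (inf_le_left.trans h1)))
  set Y1 := E ⊓ Cn y ⊔ D0
  set Y2 := E ⊓ Cn (y * x) ⊔ Y1
  set Y3 := E ⊓ Cn (y * x ^ 2) ⊔ Y2
  have hY1 : Y1 ≤ E := sup_le inf_le_left h.phiZ_le
  have hY2 : Y2 ≤ E := sup_le inf_le_left hY1
  have s1 := step y D0 rfl rfl le_rfl h.phiZ_le
  have s2 := step (y * x) Y1 (h.card_line1 E) (h.card_line1 D0) le_sup_right hY1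
  have s3 := step (y * x ^ 2) Y2 (h.card_line2 E) (h.card_line2 D0)
    (le_sup_right.trans le_sup_right) hY2
  have hEY : E ≤ Y3 := h.lines E le_rfl
    (hzD.trans (le_sup_right.trans (le_sup_right.trans le_sup_right)))
    (le_sup_left.trans (le_sup_right.trans le_sup_right)) (le_sup_left.trans le_sup_right)
    le_sup_left
  have upper : Nat.card E * d ^ 3 ≤ c ^ 3 * Nat.card D0 := by
    calc Nat.card E * d ^ 3 ≤ Nat.card Y3 * d * (d * d) := by
          rw [mul_assoc]
          exact Nat.mul_le_mul (Subgroup.card_le_of_le hEY) (le_of_eq (by ring))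
      _ ≤ c * Nat.card Y2 * (d * d) := Nat.mul_le_mul_right _ s3
      _ = c * (Nat.card Y2 * d) * d := by ring
      _ ≤ c * (c * Nat.card Y1) * d := by gcongr
      _ = c * c * (Nat.card Y1 * d) := by ring
      _ ≤ c * c * (c * Nat.card D0) := by gcongr
      _ = c ^ 3 * Nat.card D0 := by ring
  -- the element of order eleven
  have lower : Nat.card D0 * 2 ^ 10 ≤ Nat.card E := by
    obtain ⟨f, hf, hfx, hfE⟩ := h.exists_eleven
    haveI : Fact (Nat.Prime 11) := ⟨by norm_num⟩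
    let q := QuotientGroup.mk' D0
    have hfD : f ∉ D0 := fun hh => hfE (fun e he => by
      have hfz : f ∈ E := h.phiZ_le hh
      obtain ⟨n, hn⟩ := h.eTwo ⟨f, hfz⟩
      have hd := orderOf_dvd_of_pow_eq_one (by simpa using congrArg Subtype.val hn : f ^ 2 ^ n = 1)
      rw [hf] at hd
      have := (Nat.prime_dvd_prime_iff_eq (by norm_num) Nat.prime_two).mp
        ((by norm_num : Nat.Prime 11).dvd_of_dvd_pow hd)
      omega)
    have hqf : orderOf (q f) = 11 := orderOf_eq_prime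
      (by rw [← map_pow, ← hf, pow_orderOf_eq_one, map_one])
      (fun h1 => hfD ((QuotientGroup.eq_one_iff f).mp h1))
    haveI : (E.map q).Normal := Subgroup.Normal.map inferInstance q (QuotientGroup.mk'_surjective _)
    obtain ⟨n, hn⟩ := IsPGroup.iff_card.mp (h.eTwo.map q)
    have hcards : Nat.card E = Nat.card D0 * 2 ^ n := by
      rw [← hn]
      have h5 := Subgroup.card_eq_card_quotient_mul_card_subgroup
        ((q.subgroupMap E).ker)
      rw [Nat.card_congr (QuotientGroup.quotientKerEquivOfSurjective _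
        (q.subgroupMap_surjective E)).toEquiv] at h5
      have hk : (q.subgroupMap E).ker = D0.subgroupOf E := by
        ext e
        rw [MonoidHom.mem_ker, Subgroup.mem_subgroupOf, Subtype.ext_iff]
        exact QuotientGroup.eq_one_iff (e : C)
      rw [h5, hk, Nat.card_congr (Subgroup.subgroupOfEquivOfLe h.phiZ_le).toEquiv, mul_comm]
    have hn20 : n ≤ 20 := by
      have h1 : Nat.card E * d ^ 3 ≤ 32 ^ 3 * Nat.card D0 := upper.trans
        (Nat.mul_le_mul_right _ (Nat.pow_le_pow_left h.U_le 3))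
      have h2 : Nat.card D0 * 2 ^ n ≤ Nat.card D0 * 2 ^ 15 := by
        rw [← hcards]
        refine le_trans (Nat.le_mul_of_pos_right _ (pow_pos Nat.card_pos 3)) (h1.trans ?_)
        rw [mul_comm]; norm_num
      exact le_trans ((Nat.pow_le_pow_iff_right (by norm_num)).mp
        (Nat.le_of_mul_le_mul_left h2 Nat.card_pos)) (by norm_num)
    rcases fixed_eleven hqf (E.map q) (mem_normalizer_of_normal _ _) hn20 hn with hle | hge
    · exfalso
      apply hfE
      have hstep : ∀ e : ↥E, e ∈ (E ⊓ Cn f).subgroupOf E ⊔ frattini ↥E := by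
        intro e
        have hcop : (Nat.card ↥(Subgroup.zpowers f)).Coprime (Nat.card D0) := by
          rw [Nat.card_zpowers, hf]
          obtain ⟨m, hm⟩ := IsPGroup.iff_card.mp (h.eTwo.to_le h.phiZ_le)
          rw [hm]
          exact Nat.Coprime.pow_right m (by norm_num)
        obtain ⟨b, hb, hfix⟩ := Coprime.exists_fixed_mul (A := Subgroup.zpowers f) (N := D0)
          (fun c _ => mem_normalizer_of_normal D0 c) hcop
          (Or.inl (Coprime.isSolvable_zpowers f)) (k := (e : C)) (by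
            rintro a ⟨i, rfl⟩
            rw [← QuotientGroup.eq_one_iff]
            have h1 : Commute (q e) (q f) :=
              mem_cn.mp (hle (Subgroup.mem_map_of_mem q e.2))
            have h2 := ((h1.symm).zpow_left i).eq
            change q (f ^ i * e * (f ^ i)⁻¹ * (e : C)⁻¹) = 1
            simp only [map_mul, map_inv, map_zpow]
            rw [h2, mul_inv_cancel_right, mul_inv_cancel])
        have hbe : (⟨b * e, mul_mem (h.phiZ_le hb) e.2⟩ : ↥E) ∈ (E ⊓ Cn f).subgroupOf E :=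
          ⟨mul_mem (h.phiZ_le hb) e.2, mem_cn.mpr (Subgroup.mem_centralizer_iff.mp hfix f
            (Subgroup.mem_zpowers f)).symm⟩
        have hb' : (⟨b, h.phiZ_le hb⟩ : ↥E) ∈ (E ⊓ Cn f).subgroupOf E ⊔ frattini ↥E := by
          haveI := h.zNormal
          obtain ⟨a, ⟨a', ha', rfl⟩, w, hw, rfl⟩ := exists_mem_sup hb
          have : (⟨(a' : C) * w, h.phiZ_le hb⟩ : ↥E) =
              a' * ⟨w, Subgroup.zpowers_le.mpr h.z_mem hw⟩ := rfl
          rw [show (⟨E.subtype a' * w, h.phiZ_le hb⟩ : ↥E) =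
            a' * ⟨w, Subgroup.zpowers_le.mpr h.z_mem hw⟩ from this]
          exact mul_mem (Subgroup.mem_sup_right ha') (Subgroup.mem_sup_left
            (show w ∈ E ⊓ Cn f from ⟨Subgroup.zpowers_le.mpr h.z_mem hw, h.zCn f hw⟩))
        have := mul_mem (inv_mem hb') (Subgroup.mem_sup_left (T := frattini ↥E) hbe)
        rwa [show (⟨b, h.phiZ_le hb⟩ : ↥E)⁻¹ * ⟨b * e, mul_mem (h.phiZ_le hb) e.2⟩ = e from
          Subtype.ext (by simp)] at this
      have htop := frattini_nongenerating (top_le_iff.mp fun e _ => hstep e)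
      intro e he
      have := (htop ▸ Subgroup.mem_top (⟨e, he⟩ : ↥E) : (⟨e, he⟩ : ↥E) ∈ (E ⊓ Cn f).subgroupOf E)
      exact this.2
    · rw [hcards]
      refine Nat.mul_le_mul_left _ (le_trans ?_ hge)
      exact Nat.le_mul_of_pos_right _ Nat.card_pos
  -- the arithmetic
  obtain ⟨a, ha⟩ := IsPGroup.iff_card.mp (h.eTwo.to_le (inf_le_left : E ⊓ Cn y ≤ E))
  obtain ⟨b, hb⟩ := IsPGroup.iff_card.mp
    (h.eTwo.to_le (inf_le_left.trans h.phiZ_le : D0 ⊓ Cn y ≤ E))
  rw [← hc] at ha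
  rw [← hd] at hb
  have hb1 : 2 ≤ d := h.zpow_z_card ▸ Subgroup.card_le_of_le (le_inf hzD (h.zCn y))
  have hc32 : c ≤ 32 := h.U_le
  have key : 2 ^ 10 * d ^ 3 ≤ c ^ 3 := by
    refine Nat.le_of_mul_le_mul_right ?_ (Nat.card_pos : 0 < Nat.card D0)
    calc 2 ^ 10 * d ^ 3 * Nat.card D0 = Nat.card D0 * 2 ^ 10 * d ^ 3 := by ring
      _ ≤ Nat.card E * d ^ 3 := Nat.mul_le_mul_right _ lower
      _ ≤ c ^ 3 * Nat.card D0 := upper
  have ha5 : a ≤ 5 := (Nat.pow_le_pow_iff_right (by norm_num)).mp (ha ▸ hc32 : 2 ^ a ≤ 2 ^ 5)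
  have hb1' : 1 ≤ b := (Nat.pow_le_pow_iff_right (by norm_num)).mp (hb ▸ hb1 : 2 ^ 1 ≤ 2 ^ b)
  rw [ha, hb, ← pow_mul, ← pow_mul, ← pow_add] at key
  have key' := (Nat.pow_le_pow_iff_right (by norm_num)).mp key
  obtain rfl : a = 5 := by omega
  obtain rfl : b = 1 := by omega
  refine ⟨ha, le_antisymm ?_ hzD⟩
  have hline : ∀ a', Nat.card ↥(D0 ⊓ Cn a') = d → D0 ⊓ Cn a' ≤ Subgroup.zpowers z := fun a' hh =>
    (Subgroup.eq_of_le_of_card_ge (le_inf hzD (h.zCn a')) (by rw [hh, hb, h.zpow_z_card]; rfl)).ge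
  exact h.lines D0 h.phiZ_le le_rfl (hline _ rfl) (hline _ (h.card_line1 D0))
    (hline _ (h.card_line2 D0))

theorem U_card (h : Six x y t z u s π) : Nat.card ↥(pCore 2 C ⊓ Cn y) = 32 := h.U_card_phiZ.1

theorem comm_cases (h : Six x y t z u s π) {a b : C} (ha : a ∈ pCore 2 C) (hb : b ∈ pCore 2 C) :
    a * b * a⁻¹ = b ∨ a * b * a⁻¹ = b * z := by
  rcases h.z_cases (h.U_card_phiZ.2 ▸ h.comm_phiZ ha hb) with e | e
  · exact Or.inl (mul_inv_eq_one.mp e)
  · right
    rw [(h.z_central b).eq, ← e, inv_mul_cancel_right]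

theorem sq_cases (h : Six x y t z u s π) {a : C} (ha : a ∈ pCore 2 C) : a * a = 1 ∨ a * a = z :=
  h.z_cases (h.U_card_phiZ.2 ▸ h.sq_phiZ ha)

/-- The order of an invariant subgroup between `⟨z⟩` and the core from one line. -/
theorem card_cube (h : Six x y t z u s π) (X : Subgroup C) [X.Normal] (hzX : z ∈ X)
    (hX : X ≤ pCore 2 C) : 4 * Nat.card X = Nat.card ↥(X ⊓ Cn y) ^ 3 := by
  set E := pCore 2 C with hE
  have hzX' : Subgroup.zpowers z ≤ X := Subgroup.zpowers_le.mpr hzX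
  set W0 := X ⊓ Cn y with hW0
  set W1 := X ⊓ Cn (y * x) with hW1
  set W2 := X ⊓ Cn (y * x ^ 2) with hW2
  have hzW : ∀ a, Subgroup.zpowers z ≤ X ⊓ Cn a := fun a => le_inf hzX' (h.zCn a)
  have hnorm : ∀ {Y : Subgroup C}, Subgroup.zpowers z ≤ Y → Y ≤ E →
      E ≤ Subgroup.normalizer (Y : Set C) := fun h1 h2 =>
    h.core_norm (h.U_card_phiZ.2.le.trans h1) h2
  have xfix : ∀ a ∈ X, Commute a y → Commute a (y * x ^ 2) → a ∈ Subgroup.zpowers z := by
    intro a ha hy' hyx
    refine h.CE_x ▸ ⟨hX ha, mem_cn.mpr ?_⟩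
    have h2 : Commute a (x ^ 2) := by
      have := hy'.inv_right.mul_right hyx
      rwa [inv_mul_cancel_left] at this
    have := h2.mul_right h2
    rwa [← pow_add, show x ^ (2 + 2) = x from by rw [pow_succ, h.x3, one_mul]] at this
  have h10 : W1 ⊓ W0 = Subgroup.zpowers z := by
    refine le_antisymm ?_ (le_inf (hzW _) (hzW _))
    intro a ha
    refine h.CE_x ▸ ⟨hX ha.1.1, mem_cn.mpr ?_⟩
    have := (mem_cn.mp ha.2.2).inv_right.mul_right (mem_cn.mp ha.1.2)
    rwa [inv_mul_cancel_left] at this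
  have n10 : W1 ≤ Subgroup.normalizer (W0 : Set C) :=
    (inf_le_left.trans hX).trans (hnorm (hzW _) (inf_le_left.trans hX))
  have h210 : W2 ⊓ (W1 ⊔ W0) = Subgroup.zpowers z := by
    refine le_antisymm ?_ (le_inf (hzW _) ((hzW _).trans le_sup_right))
    rintro e ⟨⟨heX, hec⟩, hes⟩
    obtain ⟨b, hb, a, ha, rfl⟩ := Coprime.exists_mul_of_mem_sup n10 hes
    set c := y * x ^ 2 with hc
    have hcy : Commute c y := (Commute.refl y).mul_left ((h.yx.pow_right 2).symm)
    have hcyx : Commute c (y * x) := by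
      have h1 : Commute (y * x ^ 2) x := h.yx.mul_left ((Commute.refl x).pow_left 2)
      exact hcy.mul_right h1
    have ha' : c * a * c⁻¹ ∈ W0 := conj_mem_inf_cn (mem_cn.mpr hcy) ha
    have hb' : c * b * c⁻¹ ∈ W1 := conj_mem_inf_cn (mem_cn.mpr hcyx) hb
    have hce : c * (b * a) * c⁻¹ = b * a := by
      rw [mul_inv_eq_iff_eq_mul]; exact (mem_cn.mp hec).eq.symm
    have hw : (c * a * c⁻¹) * a⁻¹ ∈ Subgroup.zpowers z := by
      rw [← h10]
      refine Subgroup.mem_inf.mpr ⟨?_, W0.mul_mem ha' (W0.inv_mem ha)⟩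
      have e2 : (c * a * c⁻¹) * a⁻¹ = (c * b * c⁻¹)⁻¹ * b := by
        calc (c * a * c⁻¹) * a⁻¹ = (c * b * c⁻¹)⁻¹ * (c * (b * a) * c⁻¹) * a⁻¹ := by group
          _ = _ := by rw [hce]; group
      rw [e2]
      exact W1.mul_mem (W1.inv_mem hb') hb
    set w := (c * a * c⁻¹) * a⁻¹ with hwdef
    have hconj : c * a * c⁻¹ = w * a := by rw [hwdef, inv_mul_cancel_right]
    have hwc : c * w * c⁻¹ = w := by rw [← (h.z_comm hw c).eq, mul_inv_cancel_right]
    have h3 : c ^ 3 * a * (c ^ 3)⁻¹ = w ^ 3 * a := by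
      have e1 : c * (w * a) * c⁻¹ = w * (w * a) := by
        rw [show c * (w * a) * c⁻¹ = (c * w * c⁻¹) * (c * a * c⁻¹) by group, hwc, hconj]
      have e3 : c * (w * (w * a)) * c⁻¹ = w * (w * (w * a)) := by
        rw [show c * (w * (w * a)) * c⁻¹ = (c * w * c⁻¹) * (c * (w * a) * c⁻¹) by group, hwc, e1]
      simp only [pow_succ, pow_zero, one_mul, mul_inv_rev]
      calc c * c * c * a * (c⁻¹ * (c⁻¹ * c⁻¹)) = c * (c * (c * a * c⁻¹) * c⁻¹) * c⁻¹ := by group
        _ = w * (w * (w * a)) := by rw [hconj, e1, e3]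
        _ = w * w * w * a := by simp only [mul_assoc]
    have hc3 : c ^ 3 = 1 := by
      rw [hc, (h.yx.pow_right 2).mul_pow, h.y3, ← pow_mul, mul_comm 2 3, pow_mul, h.x3, one_pow,
        one_mul]
    rw [hc3, one_mul, inv_one, mul_one] at h3
    have hw1 : w = 1 := by
      have h3' : w ^ 3 = 1 := by
        have := h3.symm
        exact mul_eq_right.mp this
      rcases h.z_cases hw with e | e
      · exact e
      · rw [e, pow_succ, pow_two, h.zz, one_mul] at h3'
        rw [e, h3']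
    rw [hw1, one_mul] at hconj
    have haz := xfix a ha.1 (mem_cn.mp ha.2)
      (show Commute a c from (mul_inv_eq_iff_eq_mul.mp hconj).symm)
    have hba : b * a ∈ W1 := mul_mem hb (hzW _ haz)
    refine h.CE_x ▸ ⟨hX heX, mem_cn.mpr ?_⟩
    have := (mem_cn.mp hba.2).inv_right.mul_right (mem_cn.mp hec)
    rwa [hc, show (y * x)⁻¹ * (y * x ^ 2) = x by rw [pow_two]; group] at this
  have n210 : W2 ≤ Subgroup.normalizer ((W1 ⊔ W0 : Subgroup C) : Set C) :=
    (inf_le_left.trans hX).trans (hnorm ((hzW _).trans le_sup_right)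
      (sup_le (inf_le_left.trans hX) (inf_le_left.trans hX)))
  have m1 := PLocal.card_sup_mul_card_inf n10
  have m2 := PLocal.card_sup_mul_card_inf n210
  rw [h10, h.zpow_z_card, h.card_line1] at m1
  rw [h210, h.zpow_z_card, h.card_line2] at m2
  have hall : W2 ⊔ (W1 ⊔ W0) = X := le_antisymm (sup_le inf_le_left (sup_le inf_le_left inf_le_left))
    (h.lines X hX ((hzW y).trans (le_sup_right.trans le_sup_right))
      (le_sup_right.trans le_sup_right) (le_sup_left.trans le_sup_right) le_sup_left)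
  rw [hall] at m2
  calc 4 * Nat.card X = 2 * (Nat.card X * 2) := by ring
    _ = Nat.card ↥W0 * (Nat.card ↥(W1 ⊔ W0) * 2) := by rw [m2]; ring
    _ = Nat.card ↥W0 ^ 3 := by rw [m1]; ring

theorem card_core (h : Six x y t z u s π) : Nat.card ↥(pCore 2 C) = 2 ^ 13 := by
  haveI := h.eNormal
  have := h.card_cube (pCore 2 C) h.z_mem le_rfl
  rw [h.U_card] at this
  omega

theorem t_not_mem (h : Six x y t z u s π) : t ∉ pCore 2 C := by
  intro ht
  have hz : t ∈ Subgroup.zpowers z := h.CE_x ▸ ⟨ht, mem_cn.mpr h.tx⟩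
  exact h.t_out (mem_cn.mpr h.tx) ((h.ker _).mpr ⟨1, one_mem _, t, hz, (one_mul t).symm⟩)

/-- The centre of the core is `⟨z⟩`. -/
theorem core_centre (h : Six x y t z u s π) :
    pCore 2 C ⊓ Subgroup.centralizer (pCore 2 C : Set C) = Subgroup.zpowers z := by
  haveI := h.eNormal
  set E := pCore 2 C with hE
  set Z := E ⊓ Subgroup.centralizer (E : Set C) with hZ
  haveI : (Subgroup.centralizer (E : Set C)).Normal := Subgroup.normal_centralizer
  haveI : Z.Normal := Subgroup.normal_inf_normal _ _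
  have hzZ : z ∈ Z := ⟨h.z_mem, Subgroup.mem_centralizer_iff.mpr fun e _ => (h.z_central e).eq⟩
  have hcube := h.card_cube Z hzZ inf_le_left
  obtain ⟨b, hb⟩ := IsPGroup.iff_card.mp (h.eTwo.to_le (inf_le_left.trans inf_le_left : Z ⊓ Cn y ≤ E))
  have hb1 : 1 ≤ b := by
    have h2 := Subgroup.card_le_of_le (le_inf (Subgroup.zpowers_le.mpr hzZ) (h.zCn y))
    rw [h.zpow_z_card, hb] at h2
    rcases Nat.eq_zero_or_pos b with rfl | hb0
    · norm_num at h2
    · exact hb0
  have hb5 : b ≤ 5 := (Nat.pow_le_pow_iff_right (by norm_num)).mp (hb ▸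
    (Subgroup.card_le_of_le (inf_le_inf_right _ inf_le_left : Z ⊓ Cn y ≤ E ⊓ Cn y)).trans
      h.U_card.le : 2 ^ b ≤ 2 ^ 5)
  obtain ⟨e, he⟩ := IsPGroup.iff_card.mp (h.eTwo.to_le (inf_le_left : Z ≤ E))
  rw [hb, he, ← pow_mul, show (4 : ℕ) = 2 ^ 2 from rfl, ← pow_add] at hcube
  have he' : 2 + e = b * 3 := Nat.pow_right_injective le_rfl hcube
  by_cases hb' : b = 1
  · refine (Subgroup.eq_of_le_of_card_ge (Subgroup.zpowers_le.mpr hzZ) ?_).symm
    rw [he, h.zpow_z_card, show e = 1 by omega]; norm_num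
  exfalso
  by_cases hb4 : b ≤ 4
  · -- an element of order eleven centralises everything
    obtain ⟨f, hf, -, hfE⟩ := h.exists_eleven
    apply hfE
    haveI : Fact (Nat.Prime 11) := ⟨by norm_num⟩
    have hZf : Z ≤ Cn f := by
      rcases fixed_eleven hf Z (mem_normalizer_of_normal Z f) (by omega) he with h1 | h1
      · exact h1
      · exfalso
        have h2 := h.zpow_z_card ▸
          Subgroup.card_le_of_le (le_inf (Subgroup.zpowers_le.mpr hzZ) (h.zCn f))
        have h3 : 2 ^ 11 ≤ 2 ^ e := le_trans (by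
          rw [pow_succ]; exact Nat.mul_le_mul_left _ h2) h1
        have := (Nat.pow_le_pow_iff_right (by norm_num)).mp h3
        omega
    let q := QuotientGroup.mk' Z
    haveI : (E.map q).Normal := Subgroup.Normal.map inferInstance q (QuotientGroup.mk'_surjective _)
    obtain ⟨n, hn⟩ := IsPGroup.iff_card.mp (h.eTwo.map q)
    have hcards : Nat.card E = 2 ^ n * Nat.card Z := by
      rw [← hn]
      have h5 := Subgroup.card_eq_card_quotient_mul_card_subgroup ((q.subgroupMap E).ker)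
      rw [Nat.card_congr (QuotientGroup.quotientKerEquivOfSurjective _
        (q.subgroupMap_surjective E)).toEquiv] at h5
      have hk : (q.subgroupMap E).ker = Z.subgroupOf E := by
        ext a
        rw [MonoidHom.mem_ker, Subgroup.mem_subgroupOf, Subtype.ext_iff]
        exact QuotientGroup.eq_one_iff (a : C)
      rw [h5, hk, Nat.card_congr (Subgroup.subgroupOfEquivOfLe (inf_le_left : Z ≤ E)).toEquiv]
    rw [h.card_core, he, ← pow_add] at hcards
    have hn9 : n ≤ 9 := by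
      have := Nat.pow_right_injective le_rfl hcards
      omega
    have hfq : ∀ a ∈ E, f * a * f⁻¹ * a⁻¹ ∈ Z := by
      intro a ha
      by_cases hfZ : q f = 1
      · rw [← QuotientGroup.eq_one_iff]
        change q (f * a * f⁻¹ * a⁻¹) = 1
        simp [hfZ]
      · have hqf : orderOf (q f) = 11 := orderOf_eq_prime
          (by rw [← map_pow, ← hf, pow_orderOf_eq_one, map_one]) hfZ
        rcases fixed_eleven hqf (E.map q) (mem_normalizer_of_normal _ _) (by omega) hn with h1 | h1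
        · rw [← QuotientGroup.eq_one_iff]
          change q (f * a * f⁻¹ * a⁻¹) = 1
          have h2 : Commute (q a) (q f) := mem_cn.mp (h1 (Subgroup.mem_map_of_mem q ha))
          simp only [map_mul, map_inv]
          rw [← h2.eq, mul_inv_cancel_right, mul_inv_cancel]
        · exfalso
          have h2 : 2 ^ 10 ≤ 2 ^ n := le_trans (Nat.le_mul_of_pos_right _ Nat.card_pos) h1
          have := (Nat.pow_le_pow_iff_right (by norm_num)).mp h2
          omega
    have hser := Coprime.le_centralizer_of_series (A := Subgroup.zpowers f) (K := E) (N := Z)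
      (by rw [Nat.card_zpowers, hf, he]; exact Nat.Coprime.pow_right _ (by norm_num)) ?_ ?_
    · intro a ha
      exact mem_cn.mpr (Subgroup.mem_centralizer_iff.mp (hser (Subgroup.mem_zpowers f)) a ha)
    · rw [Subgroup.commutator_le]
      rintro a ha _ ⟨i, rfl⟩
      rw [← QuotientGroup.eq_one_iff]
      change q ⁅a, f ^ i⁆ = 1
      have h1 : Commute (q a) (q f) := by
        have := (QuotientGroup.eq_one_iff _).mpr (hfq a ha)
        change q (f * a * f⁻¹ * a⁻¹) = 1 at this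
        simp only [map_mul, map_inv, mul_inv_eq_one, mul_inv_eq_iff_eq_mul, one_mul] at this
        exact this.symm
      rw [map_commutatorElement, commutatorElement_eq_one_iff_commute, map_zpow]
      exact h1.zpow_right i
    · rw [Subgroup.commutator_eq_bot_iff_le_centralizer]
      intro a ha
      rw [Subgroup.mem_centralizer_iff]
      rintro _ ⟨i, rfl⟩
      exact ((mem_cn.mp (hZf ha)).zpow_right i).eq.symm
  -- the core is elementary abelian
  obtain rfl : b = 5 := by omega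
  have hab : ∀ a ∈ E, ∀ c ∈ E, Commute a c := by
    have hEZ : E = Z := (Subgroup.eq_of_le_of_card_ge (inf_le_left : Z ≤ E)
      (by rw [he, h.card_core, show e = 13 by omega])).symm
    intro a ha c hc
    rw [hEZ] at ha
    exact (Subgroup.mem_centralizer_iff.mp ha.2 c hc).symm
  let X : Subgroup C :=
    { carrier := {a | a ∈ E ∧ a * a = 1}
      one_mem' := ⟨one_mem _, one_mul 1⟩
      mul_mem' := fun {a c} ha hc => ⟨mul_mem ha.1 hc.1, by
        rw [(hab c hc.1 a ha.1).mul_mul_mul_comm, ha.2, hc.2, one_mul]⟩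
      inv_mem' := fun {a} ha => ⟨inv_mem ha.1, by rw [← mul_inv_rev, ha.2, inv_one]⟩ }
  haveI : X.Normal := ⟨fun a ha c => ⟨Subgroup.Normal.conj_mem inferInstance a ha.1 c, by
    rw [show c * a * c⁻¹ * (c * a * c⁻¹) = c * (a * a) * c⁻¹ by group, ha.2, mul_one,
      mul_inv_cancel]⟩⟩
  have hXE : X ≤ E := fun a ha => ha.1
  have hXtop : X = E := by
    refine le_antisymm hXE fun a ha => ?_
    by_contra haX
    have hidx : X.relIndex E = 2 := by
      rw [Subgroup.relIndex, Subgroup.index_eq_two_iff]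
      refine ⟨⟨a, ha⟩, fun c => ?_⟩
      simp only [Subgroup.mem_subgroupOf, Subgroup.coe_mul]
      by_cases hc : (c : C) ∈ X
      · exact Or.inr ⟨hc, fun h1 => haX ((mul_mem_cancel_left hc).mp h1)⟩
      · refine Or.inl ⟨⟨mul_mem c.2 ha, ?_⟩, hc⟩
        rw [(hab a ha _ c.2).mul_mul_mul_comm,
          (h.sq_cases c.2).resolve_left (fun h1 => hc ⟨c.2, h1⟩),
          (h.sq_cases ha).resolve_left (fun h1 => haX ⟨ha, h1⟩), h.zz]
    have hX12 : Nat.card X = 2 ^ 12 := by
      have h1 := Subgroup.card_mul_index (X.subgroupOf E)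
      rw [Nat.card_congr (Subgroup.subgroupOfEquivOfLe hXE).toEquiv, h.card_core,
        show (X.subgroupOf E).index = 2 from hidx] at h1
      omega
    have h4 := h.card_cube X ⟨h.z_mem, h.zz⟩ hXE
    obtain ⟨k, hk⟩ := IsPGroup.iff_card.mp (h.eTwo.to_le (inf_le_left.trans hXE : X ⊓ Cn y ≤ E))
    rw [hk, hX12, ← pow_mul, show (4 : ℕ) = 2 ^ 2 from rfl, ← pow_add] at h4
    have := Nat.pow_right_injective le_rfl h4
    omega
  set U := E ⊓ Cn y with hU
  have hUt : Subgroup.zpowers t ≤ Subgroup.normalizer (U : Set C) :=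
    Subgroup.zpowers_le.mpr (mem_normalizer_inf_cn _ (mem_cn.mpr (h.ty y (Commute.refl y)).symm))
  have htt : t * t = 1 := by rw [← pow_two, ← h.ht, pow_orderOf_eq_one]
  have hle : Subgroup.zpowers t ⊔ U ≤ Cn y :=
    sup_le (Subgroup.zpowers_le.mpr (mem_cn.mpr (h.ty y (Commute.refl y)).symm)) inf_le_right
  have hexp : ∀ p ∈ Subgroup.zpowers t ⊔ U, p * p = 1 := by
    intro p hp
    obtain ⟨a, ⟨i, rfl⟩, c, hc, rfl⟩ := Coprime.exists_mul_of_mem_sup hUt hp
    have hcc : c * c = 1 := (hXtop ▸ hc.1 : c ∈ X).2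
    have hct : Commute (t ^ i) c := ((h.ty c (mem_cn.mp hc.2)).symm).zpow_left i
    change t ^ i * c * (t ^ i * c) = 1
    rw [hct.symm.mul_mul_mul_comm, ← (Commute.refl t).mul_zpow i, htt, one_zpow, hcc, mul_one]
  have h64 := PLocal.card_sup_mul_card_inf hUt
  have hinf : Subgroup.zpowers t ⊓ U = ⊥ := by
    rw [eq_bot_iff]
    rintro a ⟨⟨i, rfl⟩, hi⟩
    rw [Subgroup.mem_bot]
    change t ^ i = 1
    have hti := hi.1
    change t ^ i ∈ E at hti
    rw [← zpow_mod_orderOf, h.ht] at hti ⊢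
    rcases Int.emod_two_eq i with e2 | e2
    · rw [show i % ((2 : ℕ) : ℤ) = 0 from e2, zpow_zero]
    · rw [show i % ((2 : ℕ) : ℤ) = 1 from e2, zpow_one] at hti
      exact absurd hti h.t_not_mem
  rw [hinf, Subgroup.card_bot, Nat.card_zpowers, h.ht, h.U_card] at h64
  have := h.cy_exp2 _ hle hexp
  omega

/-- The core is extraspecial. -/
theorem extraspecial (h : Six x y t z u s π) : Cfsg.IsExtraspecial 2 ↥(pCore 2 C) := by
  haveI : Fact (Nat.Prime 2) := ⟨Nat.prime_two⟩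
  let zE : ↥(pCore 2 C) := ⟨z, h.z_mem⟩
  have hzE : orderOf zE = 2 := by rw [Subgroup.orderOf_mk]; exact h.hz
  have hmem : ∀ g : ↥(pCore 2 C), g ∈ Subgroup.zpowers zE ↔ (g : C) ∈ Subgroup.zpowers z := by
    intro g
    constructor
    · rintro ⟨i, rfl⟩; exact ⟨i, by simp [zE]⟩
    · rintro ⟨i, hi⟩; exact ⟨i, Subtype.ext (by simpa [zE] using hi)⟩
  have hcen : Subgroup.center ↥(pCore 2 C) = Subgroup.zpowers zE := by
    ext g
    rw [hmem, ← h.core_centre, Subgroup.mem_center_iff]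
    exact ⟨fun hg => ⟨g.2, Subgroup.mem_centralizer_iff.mpr fun e he =>
        congrArg Subtype.val (hg ⟨e, he⟩)⟩,
      fun hg e => Subtype.ext (Subgroup.mem_centralizer_iff.mp hg.2 e e.2)⟩
  have hle : commutator ↥(pCore 2 C) ≤ Subgroup.center ↥(pCore 2 C) := by
    rw [commutator_def, Subgroup.commutator_le]
    intro g _ r _
    rw [hcen, hmem]
    have := h.comm_phiZ g.2 r.2
    rw [h.U_card_phiZ.2] at this
    simpa [commutatorElement_def] using this
  have hne : commutator ↥(pCore 2 C) ≠ ⊥ := fun hb => by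
    have htop : Subgroup.center ↥(pCore 2 C) = ⊤ := (commutator_eq_bot_iff_center_eq_top _).mp hb
    have := congrArg (fun H : Subgroup ↥(pCore 2 C) => Nat.card H) htop
    simp only [hcen, Nat.card_zpowers, hzE, Subgroup.card_top, h.card_core] at this
    norm_num at this
  have hcomm : commutator ↥(pCore 2 C) = Subgroup.center ↥(pCore 2 C) := by
    refine Subgroup.eq_of_le_of_card_ge hle ?_
    rw [hcen, Nat.card_zpowers, hzE]
    exact Nat.succ_le_of_lt (Subgroup.one_lt_card_iff_ne_bot _ |>.mpr hne)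
  refine ⟨⟨h.eTwo, le_antisymm ?_ ?_, hcomm⟩, by rw [hcen, Nat.card_zpowers, hzE]⟩
  · refine PGroups.frattini_le_of_pow_commutator (p := 2) (Subgroup.center _) (fun g => ?_) hle
    rw [hcen, hmem, Subgroup.coe_pow, pow_two]
    rcases h.sq_cases g.2 with e | e <;> rw [e]
    exacts [one_mem _, Subgroup.mem_zpowers z]
  · rw [← hcomm]
    exact PGroups.commutator_le_frattini h.eTwo

end Six

end Cfsg.Agent.Lib.J4Six76
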