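import Cfsg.Agent.Lib.J4Six76.Basic
import Cfsg.Agent.Lib.J4Local.AutFacts
import Cfsg.Prelude.Def_Spor_Mathieu

/-!
# A centraliser of an element of order three which is a perfect sixfold cover of M22
-/

set_option autoImplicit false
set_option linter.style.haveILetI false

namespace Cfsg.Agent.Lib.J4Six76

open Cfsg Cfsg.Agent.Lib.J4Local
open scoped Pointwise commutatorElement

/-- `x` has order three and `K = C(x)` is a perfect sixfold cover of M22 with central involution `z`. -/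
structure Cover {G : Type*} [Group G] (x z : G) (π : ↥(Cn x) →* AutM22) : Prop where
  hx : orderOf x = 3
  hz : orderOf z = 2
  zx : Commute z x
  zc : ∀ k ∈ Cn x, Commute k z
  z_uniq : ∀ w ∈ Cn x, (∀ k ∈ Cn x, Commute k w) → orderOf w = 2 → w = z
  perfect : ⁅Cn x, Cn x⁆ = Cn x
  card : Nat.card ↥(Cn x) = 2661120
  range : π.range = inn
  ker : ∀ k : ↥(Cn x), π k = 1 ↔ ∃ a ∈ Subgroup.zpowers x, ∃ b ∈ Subgroup.zpowers z, (k : G) = a * b

theorem exists_cover {G : Type*} [Group G] [Finite G] (x : G) (hx : orderOf x = 3)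
    (hperf : ⁅(⊤ : Subgroup ↥(Cn x)), (⊤ : Subgroup ↥(Cn x))⁆ = ⊤)
    (hZ : IsCyclic ↥(Subgroup.center ↥(Cn x))) (hZc : Nat.card ↥(Subgroup.center ↥(Cn x)) = 6)
    (e : ↥(Cn x) ⧸ Subgroup.center ↥(Cn x) ≃* ↥Cfsg.Spor.M22) :
    ∃ (z : G) (π : ↥(Cn x) →* AutM22), Cover x z π := by
  haveI : Fact (Nat.Prime 2) := ⟨Nat.prime_two⟩
  set Z := Subgroup.center ↥(Cn x) with hZdef
  obtain ⟨⟨⟨z, hzK⟩, hzc⟩, hz⟩ := exists_prime_orderOf_dvd_card' (G := ↥Z) 2 (by rw [hZc]; norm_num)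
  rw [Subgroup.orderOf_mk, Subgroup.orderOf_mk] at hz
  set xK : ↥(Cn x) := ⟨x, mem_cn.mpr (Commute.refl x)⟩ with hxK
  set zK : ↥(Cn x) := ⟨z, hzK⟩ with hzKdef
  have hxc : xK ∈ Z := Subgroup.mem_center_iff.mpr fun k => Subtype.ext (mem_cn.mp k.2).eq
  have hzc' : ∀ k ∈ Cn x, Commute k z := fun k hk =>
    congrArg Subtype.val (Subgroup.mem_center_iff.mp hzc ⟨k, hk⟩)
  have hxo : orderOf xK = 3 := by rw [Subgroup.orderOf_mk]; exact hx
  have hzo : orderOf zK = 2 := by rw [Subgroup.orderOf_mk]; exact hz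
  have hnorm : Subgroup.zpowers xK ≤ Subgroup.normalizer ((Subgroup.zpowers zK : Subgroup ↥(Cn x)) : Set ↥(Cn x)) := by
    refine le_trans ?_ (Subgroup.centralizer_le_normalizer _)
    rw [Subgroup.zpowers_le, Subgroup.mem_centralizer_iff]
    rintro _ ⟨i, rfl⟩
    exact (Subgroup.mem_center_iff.mp hxc _)
  have hsup : Subgroup.zpowers xK ⊔ Subgroup.zpowers zK = Z := by
    refine Subgroup.eq_of_le_of_card_ge (sup_le (Subgroup.zpowers_le.mpr hxc) (Subgroup.zpowers_le.mpr hzc)) ?_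
    have h1 := PLocal.card_sup_mul_card_inf hnorm
    rw [(Subgroup.disjoint_of_coprime_natCard (by
      rw [Nat.card_zpowers, Nat.card_zpowers, hxo, hzo]; norm_num)).eq_bot, Subgroup.card_bot, mul_one,
      Nat.card_zpowers, Nat.card_zpowers, hxo, hzo] at h1
    rw [hZc, h1]
  have hdec : ∀ k : ↥(Cn x), k ∈ Z ↔
      ∃ a ∈ Subgroup.zpowers x, ∃ b ∈ Subgroup.zpowers z, (k : G) = a * b := by
    intro k
    constructor
    · intro hk
      rw [← hsup] at hk
      obtain ⟨a, ⟨i, rfl⟩, b, ⟨j, rfl⟩, rfl⟩ := Coprime.exists_mul_of_mem_sup hnorm hk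
      exact ⟨x ^ i, ⟨i, rfl⟩, z ^ j, ⟨j, rfl⟩, by simp [hxK, hzKdef]⟩
    · rintro ⟨a, ⟨i, rfl⟩, b, ⟨j, rfl⟩, hk⟩
      rw [show k = xK ^ i * zK ^ j from Subtype.ext (by simpa [hxK, hzKdef] using hk)]
      exact mul_mem (zpow_mem hxc i) (zpow_mem hzc j)
  let π : ↥(Cn x) →* AutM22 :=
    (MulAut.conj : ↥Spor.M22 →* AutM22).comp (e.toMonoidHom.comp (QuotientGroup.mk' Z))
  have hπ : ∀ k, π k = 1 ↔ k ∈ Z := by
    intro k
    change MulAut.conj (e (QuotientGroup.mk k)) = 1 ↔ _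
    rw [map_eq_one_iff _ AutAssembly.conj_inj, map_eq_one_iff _ e.injective, QuotientGroup.eq_one_iff]
  have hperf' : ⁅Cn x, Cn x⁆ = Cn x := by
    have h1 := congrArg (Subgroup.map (Cn x).subtype) hperf
    rwa [Subgroup.map_commutator, ← MonoidHom.range_eq_map, Subgroup.range_subtype] at h1
  refine ⟨z, π, hx, hz, mem_cn.mp hzK, hzc', ?_, hperf', ?_, ?_, fun k => (hπ k).trans (hdec k)⟩
  · intro w hw hcw how
    obtain ⟨a, ⟨i, rfl⟩, b, hb, hab⟩ :=
      (hdec ⟨w, hw⟩).mp (Subgroup.mem_center_iff.mpr fun k => Subtype.ext (hcw k k.2).eq)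
    have hw' : w = x ^ i * b := hab
    have hbz : b = 1 ∨ b = z := by
      obtain ⟨j, rfl⟩ := hb
      change z ^ j = 1 ∨ z ^ j = z
      rw [← zpow_mod_orderOf, hz]
      rcases Int.emod_two_eq j with e1 | e1
      · left; rw [show j % ((2 : ℕ) : ℤ) = 0 from e1, zpow_zero]
      · right; rw [show j % ((2 : ℕ) : ℤ) = 1 from e1, zpow_one]
    have hcomm : Commute (x ^ i) b := by
      rcases hbz with rfl | rfl
      exacts [Commute.one_right _, ((hzc' x (mem_cn.mpr (Commute.refl x))).zpow_left i)]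
    have hb2 : b ^ 2 = 1 := by
      rcases hbz with rfl | rfl
      · exact one_pow 2
      · rw [← hz, pow_orderOf_eq_one]
    have hw2 : w ^ 2 = 1 := by rw [← how, pow_orderOf_eq_one]
    rw [hw', hcomm.mul_pow, hb2, mul_one] at hw2
    have h3 : (x ^ i) ^ 3 = 1 := by
      rw [← zpow_natCast, ← zpow_mul, mul_comm, zpow_mul, zpow_natCast, ← hx, pow_orderOf_eq_one, one_zpow]
    have hxi : x ^ i = 1 := by rwa [pow_succ, hw2, one_mul] at h3
    rw [hw', hxi, one_mul]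
    rcases hbz with rfl | rfl
    · rw [hw', hxi, one_mul, orderOf_one] at how; omega
    · rfl
  · rw [Subgroup.card_eq_card_quotient_mul_card_subgroup Z, hZc, Nat.card_congr e.toEquiv,
      Nat.card_congr (MonoidHom.ofInjective AutAssembly.conj_inj).toEquiv]
    change Nat.card ↥inn * 6 = _
    rw [autFacts.card_inn]
  · refine le_antisymm ?_ ?_
    · rintro _ ⟨k, rfl⟩; exact ⟨_, rfl⟩
    · rintro _ ⟨m, rfl⟩
      obtain ⟨k, hk⟩ := QuotientGroup.mk_surjective (e.symm m)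
      refine ⟨k, ?_⟩
      change MulAut.conj (e (QuotientGroup.mk k)) = MulAut.conj m
      rw [hk, MulEquiv.apply_symm_apply]

namespace Cover

variable {G : Type*} [Group G] [Finite G] {x z : G} {π : ↥(Cn x) →* AutM22}

theorem x3 (K : Cover x z π) : x ^ 3 = 1 := by rw [← K.hx, pow_orderOf_eq_one]

theorem zz (K : Cover x z π) : z * z = 1 := by rw [← pow_two, ← K.hz, pow_orderOf_eq_one]

theorem zpx (K : Cover x z π) {a : G} (ha : a ∈ Subgroup.zpowers x) : a ^ 3 = 1 := by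
  obtain ⟨i, rfl⟩ := ha
  change (x ^ i) ^ 3 = 1
  rw [← zpow_natCast, ← zpow_mul, mul_comm, zpow_mul, zpow_natCast, K.x3, one_zpow]

theorem zpz (K : Cover x z π) {b : G} (hb : b ∈ Subgroup.zpowers z) : b = 1 ∨ b = z := by
  obtain ⟨i, rfl⟩ := hb
  change z ^ i = 1 ∨ z ^ i = z
  rw [← zpow_mod_orderOf, K.hz]
  rcases Int.emod_two_eq i with e | e
  · left; rw [show i % ((2 : ℕ) : ℤ) = 0 from e, zpow_zero]
  · right; rw [show i % ((2 : ℕ) : ℤ) = 1 from e, zpow_one]

theorem ker_comm (K : Cover x z π) {a b : G} (ha : a ∈ Subgroup.zpowers x)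
    (hb : b ∈ Subgroup.zpowers z) : Commute a b ∧ b * b = 1 := by
  obtain ⟨i, rfl⟩ := ha
  rcases K.zpz hb with rfl | rfl
  · exact ⟨Commute.one_right _, one_mul 1⟩
  · exact ⟨(K.zx.symm).zpow_left i, K.zz⟩

/-- Elements of odd order in the kernel are powers of `x`. -/
theorem odd_ker (K : Cover x z π) {k : G} (hk : k ∈ Cn x) (h1 : π ⟨k, hk⟩ = 1) {n : ℕ} (hn : Odd n)
    (hkn : k ^ n = 1) : k ∈ Subgroup.zpowers x := by
  obtain ⟨a, ha, b, hb, e⟩ := (K.ker _).mp h1
  have e' : k = a * b := e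
  obtain ⟨hc, hbb⟩ := K.ker_comm ha hb
  obtain ⟨m, rfl⟩ := hn
  have h6 : k ^ (6 * m + 3) = 1 := by
    rw [show 6 * m + 3 = (2 * m + 1) * 3 by ring, pow_mul, hkn, one_pow]
  rw [e', hc.mul_pow, show 6 * m + 3 = 3 * (2 * m + 1) by ring, pow_mul, K.zpx ha, one_pow, one_mul,
    show 3 * (2 * m + 1) = 2 * (3 * m + 1) + 1 by ring, pow_succ, pow_mul, pow_two, hbb, one_pow,
    one_mul] at h6
  rw [e', h6, mul_one]
  exact ha

theorem zpowers_ne (K : Cover x z π) : x ≠ 1 := fun e => by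
  have := K.hx; rw [e, orderOf_one] at this; omega

/-- A Sylow 3-subgroup of `G` inside `C(x)`, of order 27 with centre `⟨x⟩`. -/
theorem exists_sylow (K : Cover x z π) :
    ∃ P : Subgroup G, P ≤ Cn x ∧ Nat.card P = 3 ^ 3 ∧ x ∈ P ∧
      (∀ c ∈ P, (∀ p ∈ P, Commute p c) → c ∈ Subgroup.zpowers x) ∧ ¬ 81 ∣ Nat.card G := by
  haveI : Fact (Nat.Prime 3) := ⟨Nat.prime_three⟩
  set xK : ↥(Cn x) := ⟨x, mem_cn.mpr (Commute.refl x)⟩ with hxK
  obtain ⟨P', hP', hxP'⟩ := Sylow.exists_subgroup_card_pow_prime_le (G := ↥(Cn x)) 3 (m := 3)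
    (by rw [K.card]; norm_num) (Subgroup.zpowers xK) (n := 1)
    (by rw [Nat.card_zpowers, Subgroup.orderOf_mk, K.hx, pow_one]) (by norm_num)
  have hnab : ¬ IsMulCommutative ↥P' := by
    intro hab
    have hfi : P'.index ≠ 0 := Subgroup.index_ne_zero_of_finite
    open scoped IsMulCommutative in
    have key := MonoidHom.transfer_eq_pow (ϕ := MonoidHom.id ↥P') xK (fun k g _ => by
      have : Commute g (xK ^ k) := (Commute.pow_right (Subtype.ext (mem_cn.mp g.2).eq) k)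
      rw [mul_assoc, ← this.eq, ← mul_assoc, inv_mul_cancel, one_mul])
    open scoped IsMulCommutative in
    have hmem : xK ∈ (MonoidHom.transfer (MonoidHom.id ↥P')).ker := by
      refine Abelianization.commutator_subset_ker _ ?_
      change xK ∈ commutator ↥(Cn x)
      rw [commutator_def]
      have h1 : (⊤ : Subgroup ↥(Cn x)) = ⁅(⊤ : Subgroup ↥(Cn x)), ⊤⁆ := by
        refine Subgroup.map_injective (Cn x).subtype_injective ?_
        rw [Subgroup.map_commutator, ← MonoidHom.range_eq_map, Subgroup.range_subtype, K.perfect]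
      rw [← h1]; trivial
    rw [MonoidHom.mem_ker, key, MonoidHom.id_apply] at hmem
    have hpow : xK ^ P'.index = 1 := congrArg Subtype.val hmem
    have hd := orderOf_dvd_of_pow_eq_one hpow
    rw [Subgroup.orderOf_mk, K.hx] at hd
    have h1 := P'.card_mul_index
    rw [hP', K.card] at h1
    omega
  set P := P'.map (Cn x).subtype with hP
  have hPc : Nat.card P = 3 ^ 3 := by
    rw [← hP']
    exact (Nat.card_congr (P'.equivMapOfInjective _ (Subgroup.subtype_injective _)).toEquiv).symm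
  have hPK : P ≤ Cn x := Subgroup.map_subtype_le _
  have hxP : x ∈ P := ⟨xK, hxP' (Subgroup.mem_zpowers _), rfl⟩
  have hcen : ∀ c ∈ P, (∀ p ∈ P, Commute p c) → c ∈ Subgroup.zpowers x := by
    have hxin : (⟨x, hxP⟩ : ↥P) ∈ Subgroup.center ↥P :=
      Subgroup.mem_center_iff.mpr fun p => Subtype.ext (mem_cn.mp (hPK p.2)).eq
    have hle : Subgroup.zpowers (⟨x, hxP⟩ : ↥P) ≤ Subgroup.center ↥P := Subgroup.zpowers_le.mpr hxin
    have hzc : Nat.card ↥(Subgroup.zpowers (⟨x, hxP⟩ : ↥P)) = 3 := by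
      rw [Nat.card_zpowers, Subgroup.orderOf_mk, K.hx]
    have heq : Subgroup.center ↥P = Subgroup.zpowers (⟨x, hxP⟩ : ↥P) := by
      refine (Subgroup.eq_of_le_of_card_ge hle ?_).symm
      rw [hzc]
      by_contra hgt
      have hnab' : ¬ ∀ a b : ↥P, a * b = b * a := fun hall => hnab ⟨⟨fun a b => by
        have := hall ⟨_, Subgroup.mem_map_of_mem _ a.2⟩ ⟨_, Subgroup.mem_map_of_mem _ b.2⟩
        exact Subtype.ext (Subtype.ext (by simpa using congrArg Subtype.val this))⟩⟩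
      have hdvd : Nat.card ↥(Subgroup.center ↥P) ∣ 3 ^ 3 := hPc ▸ Subgroup.card_subgroup_dvd_card _
      obtain ⟨n, hn, hn'⟩ := (Nat.dvd_prime_pow Nat.prime_three).mp hdvd
      rw [hn'] at hgt
      have hn2 : n = 2 ∨ n = 3 := by
        rcases (show n = 0 ∨ n = 1 ∨ n = 2 ∨ n = 3 by omega) with rfl | rfl | rfl | rfl <;>
          first | omega | (norm_num at hgt)
      apply hnab'
      have h1 := Subgroup.card_eq_card_quotient_mul_card_subgroup (Subgroup.center ↥P)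
      rw [hPc, hn'] at h1
      haveI : IsCyclic (↥P ⧸ Subgroup.center ↥P) := by
        rcases hn2 with rfl | rfl
        · exact isCyclic_of_prime_card (p := 3) (by omega)
        · haveI : Subsingleton (↥P ⧸ Subgroup.center ↥P) :=
            (Nat.card_eq_one_iff_unique.mp (by omega)).1
          exact inferInstance
      exact fun a b => commutative_of_cyclic_center_quotient (QuotientGroup.mk' (Subgroup.center ↥P))
        (by rw [QuotientGroup.ker_mk']) a b
    intro c hc hall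
    have : (⟨c, hc⟩ : ↥P) ∈ Subgroup.center ↥P :=
      Subgroup.mem_center_iff.mpr fun p => Subtype.ext (hall p p.2).eq
    rw [heq] at this
    obtain ⟨i, hi⟩ := this
    exact ⟨i, by simpa using congrArg Subtype.val hi⟩
  refine ⟨P, hPK, hPc, hxP, hcen, fun h81 => ?_⟩
  obtain ⟨R, hR, hPR⟩ := Sylow.exists_subgroup_card_pow_succ (p := 3) (n := 3) (by simpa using h81) hPc
  have hnormal : (P.subgroupOf R).Normal := by
    refine Subgroup.normal_of_index_eq_minFac_card ?_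
    rw [hR, Nat.pow_minFac (by norm_num), Nat.prime_three.minFac_eq]
    have h1 := Subgroup.card_mul_index (P.subgroupOf R)
    rw [Nat.card_congr (Subgroup.subgroupOfEquivOfLe hPR).toEquiv, hPc, hR] at h1
    omega
  have hRK : R ≤ Cn x := by
    intro r hr
    have hconj : ∀ w ∈ R, w * x * w⁻¹ ∈ Subgroup.zpowers x := by
      intro w hw
      have hcm : ∀ p ∈ P, ∀ v ∈ R, v * p * v⁻¹ ∈ P := fun p hp v hv =>
        hnormal.conj_mem ⟨p, hPR hp⟩ hp ⟨v, hv⟩
      refine hcen _ (hcm x hxP w hw) fun p hp => ?_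
      have h1 : Commute (w⁻¹ * p * w) x := mem_cn.mp (hPK (by
        simpa using hcm p hp w⁻¹ (inv_mem hw)))
      have h2 := h1.map (MulAut.conj w)
      simpa [mul_assoc] using h2
    rw [mem_cn']
    obtain ⟨i, hi⟩ := Subgroup.mem_zpowers_iff.mp (hconj r hr)
    have h81' : r ^ 81 = 1 := by
      have := pow_card_eq_one' (x := (⟨r, hr⟩ : R))
      rw [hR] at this
      exact congrArg Subtype.val this
    rw [← hi, ← zpow_mod_orderOf, K.hx]
    rw [← zpow_mod_orderOf, K.hx] at hi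
    rcases (show i % ((3 : ℕ) : ℤ) = 0 ∨ i % ((3 : ℕ) : ℤ) = 1 ∨ i % ((3 : ℕ) : ℤ) = 2 by omega)
      with e | e | e <;> rw [e] at hi ⊢
    · exfalso
      rw [zpow_zero] at hi
      exact K.zpowers_ne (conj_eq_one_iff.mp hi.symm)
    · exact zpow_one x
    · exfalso
      have hinv : r * x * r⁻¹ = x⁻¹ := by
        rw [← hi, show (2 : ℤ) = ((2 : ℕ) : ℤ) from rfl, zpow_natCast]
        exact eq_inv_of_mul_eq_one_left (by rw [← pow_succ, K.x3])
      have h2 : Commute (r * r) x := by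
        rw [commute_iff_eq, ← mul_inv_eq_iff_eq_mul,
          show r * r * x * (r * r)⁻¹ = r * (r * x * r⁻¹) * r⁻¹ by group, hinv,
          show r * x⁻¹ * r⁻¹ = (r * x * r⁻¹)⁻¹ by group, hinv, inv_inv]
      have h3 : Commute r x := by
        have e2 : r = ((r * r) ^ 40)⁻¹ := by
          rw [eq_inv_iff_mul_eq_one, ← pow_two, ← pow_mul, ← pow_succ']
          exact h81'
        rw [e2]; exact (h2.pow_left 40).inv_left
      rw [h3.eq, mul_inv_cancel_right] at hinv
      have h4 : x ^ 2 = 1 := by rw [pow_two]; nth_rewrite 2 [hinv]; exact mul_inv_cancel x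
      have := orderOf_dvd_of_pow_eq_one h4
      rw [K.hx] at this
      omega
  have := Subgroup.card_dvd_of_le hRK
  rw [hR, K.card] at this
  norm_num at this

/-- Elements of order dividing 27 outside the kernel are fused to `y`, up to powers of `x`. -/
theorem fuse (K : Cover x z π) {y a : G} (hy : y ∈ Cn x) (ha : a ∈ Cn x) (hy27 : y ^ 27 = 1)
    (ha27 : a ^ 27 = 1) (hy3 : orderOf (π ⟨y, hy⟩) = 3) (ha3 : orderOf (π ⟨a, ha⟩) = 3) :
    ∃ k ∈ Cn x, ∃ w ∈ Subgroup.zpowers x, k * a * k⁻¹ = y * w := by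
  have hin : ∀ b, π b ∈ inn := fun b => K.range ▸ ⟨b, rfl⟩
  obtain ⟨c, hc, hcm⟩ := autFacts.conj_three _ (hin _) _ (hin _) ha3 hy3
  obtain ⟨k, rfl⟩ := (K.range.symm ▸ hc : c ∈ π.range)
  have hw1 : π (⟨y, hy⟩⁻¹ * (k * ⟨a, ha⟩ * k⁻¹)) = 1 := by
    rw [map_mul, map_inv, map_mul, map_mul, map_inv, hcm, inv_mul_cancel]
  obtain ⟨w, hw, b, hb, e⟩ := (K.ker _).mp hw1
  have e' : y⁻¹ * ((k : G) * a * (k : G)⁻¹) = w * b := e
  obtain ⟨hwb, hbb⟩ := K.ker_comm hw hb
  have hd : (k : G) * a * (k : G)⁻¹ = (y * w) * b := by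
    rw [mul_assoc y w b, ← e', mul_inv_cancel_left]
  have hyw : Commute y w := by
    obtain ⟨i, rfl⟩ := hw
    exact (mem_cn.mp hy).zpow_right i
  have hyb : Commute (y * w) b := by
    rcases K.zpz hb with rfl | rfl
    · exact Commute.one_right _
    · refine (K.zc y hy).mul_left ?_
      obtain ⟨i, rfl⟩ := hw
      exact K.zx.symm.zpow_left i
  refine ⟨k, k.2, w, hw, ?_⟩
  have h27 : ((k : G) * a * (k : G)⁻¹) ^ 27 = 1 := by
    rw [conj_pow, ha27, mul_one, mul_inv_cancel]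
  rw [hd, hyb.mul_pow, hyw.mul_pow, hy27, show (27 : ℕ) = 3 * 9 from rfl, pow_mul, K.zpx hw, one_pow,
    one_mul, one_mul, show (3 : ℕ) * 9 = 2 * 13 + 1 from rfl, pow_succ, pow_mul, pow_two, hbb, one_pow,
    one_mul] at h27
  rw [hd, h27, mul_one]

end Cover

end Cfsg.Agent.Lib.J4Six76
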