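import Cfsg.Agent.Lib.J4Six76.Index
import Cfsg.Agent.Lib.J4Recog76.Reduce

/-!
# The configuration is of Janko-four type
-/

set_option autoImplicit false
set_option linter.style.haveILetI false

namespace Cfsg.Agent.Lib.J4Six76

open Cfsg Cfsg.Agent.Lib.J4Local Cfsg.Agent.Lib.J4Recog76
open scoped commutatorElement

/-- The configuration inside `C(z₀)` gives Janko-four type. -/
theorem janko_of_six {G : Type*} [Group G] [Finite G] (z₀ : G) (hz₀ : orderOf z₀ = 2)
    {x y t z u s : ↥(Subgroup.centralizer ({z₀} : Set G))} {π : ↥(Cn x) →* AutM22}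
    (h : Six x y t z u s π) : Cfsg.IsOfJankoFourTypeAt z₀ := by
  haveI := h.eNormal
  set E := pCore 2 ↥(Subgroup.centralizer ({z₀} : Set G)) with hE
  have htop := h.index_one
  set N := Subgroup.zpowers x ⊔ E with hN
  set M := Cn x ⊔ E with hM
  have dec : ∀ c, ∃ m ∈ Mx x, ∃ e ∈ E, c = m * e := fun c =>
    exists_mem_sup (htop ▸ Subgroup.mem_top c : c ∈ Rx x)
  have hzp : ∀ m ∈ Mx x, ∀ a ∈ Subgroup.zpowers x, m * a * m⁻¹ ∈ Subgroup.zpowers x := fun m hm a ha =>
    (Subgroup.mem_normalizer_iff.mp hm a).mp ha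
  have hKconj : ∀ m ∈ Mx x, ∀ k ∈ Cn x, m * k * m⁻¹ ∈ Cn x := by
    intro m hm k hk
    have := conj_mem_cn (d := m) hk
    rcases h.mem_Mx.mp hm with e | e <;> rw [e] at this
    · exact this
    · rwa [cn_inv] at this
  have normal_sup : ∀ X : Subgroup ↥(Subgroup.centralizer ({z₀} : Set G)),
      (∀ m ∈ Mx x, ∀ a ∈ X, m * a * m⁻¹ ∈ X) → (X ⊔ E).Normal := by
    intro X hX
    refine ⟨fun a ha c => ?_⟩
    obtain ⟨m, hm, e, he, rfl⟩ := dec c
    obtain ⟨p, hp, q, hq, rfl⟩ := exists_mem_sup ha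
    rw [show m * e * (p * q) * (m * e)⁻¹ =
      (m * e * m⁻¹) * (m * p * m⁻¹) * (m * (q * e⁻¹) * m⁻¹) by group]
    exact mul_mem (mul_mem (Subgroup.mem_sup_right (Subgroup.Normal.conj_mem inferInstance e he m))
      (Subgroup.mem_sup_left (hX m hm p hp)))
      (Subgroup.mem_sup_right (Subgroup.Normal.conj_mem inferInstance _ (mul_mem hq (inv_mem he)) m))
  haveI hNn : N.Normal := normal_sup _ hzp
  haveI hMn : M.Normal := normal_sup _ hKconj
  have hNM : N ≤ M := sup_le_sup_right (Subgroup.zpowers_le.mpr (mem_cn.mpr (Commute.refl x))) _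
  have hxz : Subgroup.zpowers x ⊓ E = ⊥ := by
    refine (Subgroup.disjoint_of_coprime_natCard ?_).eq_bot
    rw [h.card_core, Nat.card_zpowers, h.hx]; norm_num
  have hcardN : Nat.card N = 3 * Nat.card E := by
    have := card_sup (Subgroup.zpowers x) E
    rw [hxz, Subgroup.card_bot, mul_one, Nat.card_zpowers, h.hx] at this
    exact this
  have hKE : Cn x ⊓ E = Subgroup.zpowers z := inf_comm (Cn x) E ▸ h.CE_x
  have hcardM : Nat.card M = 2661120 * 4096 := by
    have := card_sup (Cn x) E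
    rw [hKE, h.zpow_z_card, h.kcard, h.card_core] at this
    change Nat.card ↥(Cn x ⊔ E) = _
    omega
  have hM2 : M.index = 2 := by
    have h1 := M.card_mul_index
    have h2 := h.card_Rx
    rw [htop, Subgroup.card_top] at h2
    rw [hcardM, h2] at h1
    omega
  have hcent : ⁅M, N⁆ ≤ E := by
    rw [Subgroup.commutator_le]
    intro a ha b hb
    obtain ⟨k, hk, e, he, rfl⟩ := exists_mem_sup ha
    obtain ⟨w, hw, e', he', rfl⟩ := exists_mem_sup hb
    rw [← QuotientGroup.eq_one_iff]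
    change QuotientGroup.mk' E ⁅k * e, w * e'⁆ = 1
    rw [map_commutatorElement, map_mul, map_mul,
      show QuotientGroup.mk' E e = 1 from (QuotientGroup.eq_one_iff e).mpr he,
      show QuotientGroup.mk' E e' = 1 from (QuotientGroup.eq_one_iff e').mpr he', mul_one, mul_one,
      commutatorElement_eq_one_iff_commute]
    obtain ⟨i, rfl⟩ := hw
    exact ((mem_cn.mp hk).zpow_right i).map _
  have hperf : M ≤ ⁅M, M⁆ ⊔ E :=
    sup_le ((h.perfect.ge.trans (Subgroup.commutator_mono le_sup_left le_sup_left)).trans le_sup_left)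
      le_sup_right
  have hKN : ∀ a ∈ Cn x, a ∈ N → ∃ i ∈ Subgroup.zpowers x, ∃ j ∈ Subgroup.zpowers z, a = i * j := by
    intro a ha haN
    obtain ⟨i, hi, j, hj, rfl⟩ := exists_mem_sup haN
    refine ⟨i, hi, j, h.CE_x ▸ ⟨hj, ?_⟩, rfl⟩
    have := (Cn x).mul_mem ((Cn x).inv_mem (Subgroup.zpowers_le.mpr (mem_cn.mpr (Commute.refl x)) hi)) ha
    rwa [inv_mul_cancel_left] at this
  have hout : ∀ c, (∀ m ∈ M, c * m * c⁻¹ * m⁻¹ ∈ N) → c ∈ M := by
    intro c hc
    obtain ⟨m, hm, e, he, rfl⟩ := dec c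
    by_cases hmK : m ∈ Cn x
    · exact mul_mem (Subgroup.mem_sup_left hmK) (Subgroup.mem_sup_right he)
    exfalso
    apply hmK
    have hmod : ∀ k ∈ Cn x, m * k * m⁻¹ * k⁻¹ ∈ N := by
      intro k hk
      have h1 := hc k (Subgroup.mem_sup_left hk)
      have h2 : m * (e * k * e⁻¹ * k⁻¹) * m⁻¹ ∈ N :=
        hNn.conj_mem _ (Subgroup.mem_sup_right (by
          rw [show e * k * e⁻¹ * k⁻¹ = e * (k * e⁻¹ * k⁻¹) by group]
          exact mul_mem he (Subgroup.Normal.conj_mem inferInstance _ (inv_mem he) k))) m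
      have h3 := mul_mem (inv_mem h2) h1
      rwa [show (m * (e * k * e⁻¹ * k⁻¹) * m⁻¹)⁻¹ * (m * e * k * (m * e)⁻¹ * k⁻¹) =
        m * k * m⁻¹ * k⁻¹ by group] at h3
    have hcen : ∀ k ∈ Cn x, ∀ l ∈ Cn x, Commute (m * k * m⁻¹ * k⁻¹) l := by
      intro k hk l hl
      obtain ⟨i, hi, j, hj, eij⟩ := hKN _ ((Cn x).mul_mem (hKconj m hm k hk) ((Cn x).inv_mem hk))
        (hmod k hk)
      rw [eij]
      refine Commute.mul_left ?_ (h.z_comm hj l)
      obtain ⟨i', rfl⟩ := hi
      exact ((mem_cn.mp hl).zpow_right i').symm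
    have hle : Cn x ≤ Cn m := by
      rw [← h.perfect, Subgroup.commutator_le]
      intro k hk l hl
      rw [mem_cn]
      refine Commute.symm (mul_inv_eq_iff_eq_mul.mp ?_)
      set a := m * k * m⁻¹ * k⁻¹ with ha
      set b := m * l * m⁻¹ * l⁻¹ with hb
      have ek : m * k * m⁻¹ = a * k := by rw [ha, inv_mul_cancel_right]
      have el : m * l * m⁻¹ = b * l := by rw [hb, inv_mul_cancel_right]
      rw [show m * ⁅k, l⁆ * m⁻¹ = ⁅m * k * m⁻¹, m * l * m⁻¹⁆ by
        simp only [commutatorElement_def]; group, ek, el]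
      have hbk : Commute b k := hcen l hl k hk
      have hal : Commute a l := hcen k hk l hl
      have hbK : b ∈ Cn x := (Cn x).mul_mem (hKconj m hm l hl) ((Cn x).inv_mem hl)
      have hab : Commute a b := hcen k hk b hbK
      simp only [commutatorElement_def, mul_inv_rev]
      calc a * k * (b * l) * (k⁻¹ * a⁻¹) * (l⁻¹ * b⁻¹)
          = a * (k * b) * l * k⁻¹ * (a⁻¹ * l⁻¹) * b⁻¹ := by group
        _ = a * (b * k) * l * k⁻¹ * (l⁻¹ * a⁻¹) * b⁻¹ := by
            rw [← hbk.eq, (hal.inv_inv).eq]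
        _ = (a * b) * (k * l * k⁻¹ * l⁻¹) * (a⁻¹ * b⁻¹) := by group
        _ = (k * l * k⁻¹ * l⁻¹) * (a * b) * (a⁻¹ * b⁻¹) := by
            have hKc : k * l * k⁻¹ * l⁻¹ ∈ Cn x :=
              (Cn x).mul_mem ((Cn x).mul_mem ((Cn x).mul_mem hk hl) ((Cn x).inv_mem hk))
                ((Cn x).inv_mem hl)
            rw [((hcen k hk _ hKc).mul_left (hcen l hl _ hKc)).eq]
        _ = k * l * k⁻¹ * l⁻¹ := by
            rw [hab.eq]; group
    exact mem_cn.mpr (mem_cn.mp (hle (mem_cn.mpr (Commute.refl x)))).symm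
  -- the quotient
  let q : ↥(Cn x) →* ↥M ⧸ N.subgroupOf M :=
    (QuotientGroup.mk' _).comp (Subgroup.inclusion le_sup_left)
  have hq : Function.Surjective q := by
    intro a
    induction a using QuotientGroup.induction_on with | H a => ?_
    obtain ⟨k, hk, e, he, hke⟩ := exists_mem_sup a.2
    refine ⟨⟨k, hk⟩, ?_⟩
    change (QuotientGroup.mk (Subgroup.inclusion le_sup_left ⟨k, hk⟩) : ↥M ⧸ _) = QuotientGroup.mk a
    rw [QuotientGroup.eq, Subgroup.mem_subgroupOf]
    change k⁻¹ * (a : ↥(Subgroup.centralizer ({z₀} : Set G))) ∈ N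
    rw [hke, inv_mul_cancel_left]
    exact Subgroup.mem_sup_right he
  have hker : q.ker = π.ker := by
    ext k
    rw [MonoidHom.mem_ker, MonoidHom.mem_ker, h.ker]
    change (QuotientGroup.mk (Subgroup.inclusion le_sup_left k) : ↥M ⧸ _) = 1 ↔ _
    rw [QuotientGroup.eq_one_iff, Subgroup.mem_subgroupOf]
    constructor
    · exact fun hk => hKN k k.2 hk
    · rintro ⟨i, hi, j, hj, e⟩
      change (k : ↥(Subgroup.centralizer ({z₀} : Set G))) ∈ N
      rw [e]
      exact mul_mem (Subgroup.mem_sup_left hi)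
        (Subgroup.mem_sup_right (Subgroup.zpowers_le.mpr h.z_mem hj))
  let e : (↥M ⧸ N.subgroupOf M) ≃* ↥Spor.M22 :=
    (QuotientGroup.quotientKerEquivOfSurjective q hq).symm.trans
      ((QuotientGroup.quotientMulEquivOfEq hker).trans
        ((QuotientGroup.quotientKerEquivRange π).trans
          ((MulEquiv.subgroupCongr h.range).trans
            (MonoidHom.ofInjective AutAssembly.conj_inj).symm)))
  exact Cfsg.Agent.Lib.J4Recog76.isOfJankoFourTypeAt z₀ hz₀ E N M le_sup_right hNM hM2 h.extraspecial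
    h.card_core hcardN hcent hperf
    (fun c hc => h.self c fun q hq => Subgroup.mem_centralizer_iff.mp hc q hq) hout e

end Cfsg.Agent.Lib.J4Six76
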