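import Cfsg.Agent.Lib.J4Recog76.Local
import Cfsg.Agent.Lib.Symplectic.Order

/-!
# The commutator form on an extraspecial normal subgroup of order `2 ^ 13`
-/

set_option autoImplicit false
set_option linter.style.haveILetI false

namespace Cfsg.Agent.Lib.J4Six76

open Cfsg.Agent.Lib.J4Recog76 Cfsg.Agent.Lib.Symplectic

theorem zmod2_cases (a : ZMod 2) : a = 0 ∨ a = 1 := by
  revert a; decide

variable {C : Type*} [Group C] {z : C} {Q : Subgroup C}

/-- Zero for commuting elements, one otherwise. -/
noncomputable def cm (q p : C) : ZMod 2 :=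
  haveI := Classical.dec (q * p = p * q)
  if q * p = p * q then 0 else 1

theorem cm_zero {q p : C} : cm q p = 0 ↔ Commute q p := by
  unfold cm
  split_ifs with h
  · exact ⟨fun _ => h, fun _ => rfl⟩
  · exact ⟨fun h1 => absurd h1 (by decide), fun h1 => absurd h1 h⟩

theorem cm_symm (q p : C) : cm q p = cm p q := by
  rcases zmod2_cases (cm q p) with h | h <;> rcases zmod2_cases (cm p q) with h' | h' <;>
    rw [h, h']
  · exact absurd (cm_zero.mpr (cm_zero.mp h).symm) (by rw [h']; decide)
  · exact absurd (cm_zero.mpr (cm_zero.mp h').symm) (by rw [h]; decide)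

theorem cm_conj (c q p : C) : cm (c * q * c⁻¹) (c * p * c⁻¹) = cm q p := by
  have h : Commute (c * q * c⁻¹) (c * p * c⁻¹) ↔ Commute q p := by
    rw [← MulAut.conj_apply, ← MulAut.conj_apply]
    exact ⟨fun h => by simpa [mul_assoc] using h.map (MulAut.conj c⁻¹), fun h => h.map (MulAut.conj c)⟩
  rcases zmod2_cases (cm q p) with hq | hq
  · rw [hq]; exact cm_zero.mpr (h.mpr (cm_zero.mp hq))
  · rcases zmod2_cases (cm (c * q * c⁻¹) (c * p * c⁻¹)) with h' | h'
    · exact absurd (cm_zero.mpr (h.mp (cm_zero.mp h'))) (by rw [hq]; decide)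
    · rw [h', hq]

theorem cm_one {q p : C} : cm q p = 1 ↔ ¬ Commute q p := by
  rw [← cm_zero]
  rcases zmod2_cases (cm q p) with h | h <;> simp [h]

theorem cm_mul (B : Base z Q) {q p r : C} (hq : q ∈ Q) (hp : p ∈ Q) (hr : r ∈ Q) :
    cm q (p * r) = cm q p + cm q r := by
  have hmul : q * (p * r) * q⁻¹ = (q * p * q⁻¹) * (q * r * q⁻¹) := by group
  have conv : ∀ a : C, Commute q a ↔ q * a * q⁻¹ = a := fun a => mul_inv_eq_iff_eq_mul.symm
  rcases zmod2_cases (cm q p) with e1 | e1 <;> rcases zmod2_cases (cm q r) with e2 | e2 <;>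
    rw [e1, e2]
  · rw [add_zero, cm_zero]; exact (cm_zero.mp e1).mul_right (cm_zero.mp e2)
  · rw [zero_add, cm_one]
    intro h
    refine cm_one.mp e2 ?_
    have := (cm_zero.mp e1).inv_right.mul_right h
    rwa [inv_mul_cancel_left] at this
  · rw [add_zero, cm_one]
    intro h
    refine cm_one.mp e1 ?_
    have := h.mul_right (cm_zero.mp e2).inv_right
    rwa [mul_inv_cancel_right] at this
  · rw [show (1 : ZMod 2) + 1 = 0 by decide, cm_zero, conv]
    have hp' := (B.conj q hq p hp).resolve_left (fun h => cm_one.mp e1 ((conv p).mpr h))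
    have hr' := (B.conj q hq r hr).resolve_left (fun h => cm_one.mp e2 ((conv r).mpr h))
    rw [hmul, hp', hr', mul_assoc p, ← mul_assoc z, ← (B.central r).eq, mul_assoc r, B.sq,
      mul_one]

/-- The form on the quotient by the centre. -/
noncomputable def formFun (B : Base z Q) (v w : B.Bar) : ZMod 2 :=
  cm (((Additive.toMul v).out : ↥Q) : C) (((Additive.toMul w).out : ↥Q) : C)

theorem formFun_mk (B : Base z Q) (q p : ↥Q) :
    formFun B (Additive.ofMul (QuotientGroup.mk q)) (Additive.ofMul (QuotientGroup.mk p)) =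
      cm (q : C) (p : C) := by
  have key : ∀ a b : ↥Q, cm (((QuotientGroup.mk a : ↥Q ⧸ Subgroup.center ↥Q).out : ↥Q) : C) (b : C) =
      cm (a : C) (b : C) := by
    intro a b
    obtain ⟨c, hc⟩ := QuotientGroup.mk_out_eq_mul (Subgroup.center ↥Q) a
    rw [hc, Subgroup.coe_mul, cm_symm, cm_mul B b.2 a.2 c.1.2, cm_symm (b : C) a]
    have : cm (b : C) ((c : ↥Q) : C) = 0 :=
      cm_zero.mpr (congrArg Subtype.val (Subgroup.mem_center_iff.mp c.2 b))
    rw [this, add_zero]
  change cm (((QuotientGroup.mk q : ↥Q ⧸ Subgroup.center ↥Q).out : ↥Q) : C)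
    (((QuotientGroup.mk p : ↥Q ⧸ Subgroup.center ↥Q).out : ↥Q) : C) = _
  rw [key q _, cm_symm, key p q, cm_symm]

theorem formFun_add (B : Base z Q) (v w₁ w₂ : B.Bar) :
    letI := B.barGroup
    formFun B v (w₁ + w₂) = formFun B v w₁ + formFun B v w₂ := by
  obtain ⟨q, rfl⟩ := Additive.ofMul.surjective v
  obtain ⟨p, rfl⟩ := Additive.ofMul.surjective w₁
  obtain ⟨r, rfl⟩ := Additive.ofMul.surjective w₂
  induction q using QuotientGroup.induction_on with | H q => ?_
  induction p using QuotientGroup.induction_on with | H p => ?_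
  induction r using QuotientGroup.induction_on with | H r => ?_
  change formFun B _ (Additive.ofMul (QuotientGroup.mk (p * r))) = _
  rw [formFun_mk, formFun_mk, formFun_mk, Subgroup.coe_mul, cm_mul B q.2 p.2 r.2]

theorem formFun_symm (B : Base z Q) (v w : B.Bar) : formFun B v w = formFun B w v :=
  cm_symm _ _

/-- The commutator form. -/
noncomputable def form (B : Base z Q) :
    letI := B.barGroup
    letI := B.barModule
    B.Bar →ₗ[ZMod 2] B.Bar →ₗ[ZMod 2] ZMod 2 :=
  letI := B.barGroup
  letI := B.barModule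
  AddMonoidHom.toZModLinearMap 2
    { toFun := fun v => AddMonoidHom.toZModLinearMap 2 (AddMonoidHom.mk' (formFun B v) (formFun_add B v))
      map_zero' := LinearMap.ext fun w => by
        have h := formFun_add B w 0 0
        rw [add_zero] at h
        change formFun B 0 w = 0
        rw [formFun_symm]
        exact left_eq_add.mp h
      map_add' := fun a b => LinearMap.ext fun w => by
        change formFun B (a + b) w = formFun B a w + formFun B b w
        rw [formFun_symm, formFun_add, formFun_symm B w a, formFun_symm B w b] }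

theorem form_isSymp (B : Base z Q) :
    letI := B.barGroup
    letI := B.barModule
    IsSympForm (form B) := by
  letI := B.barGroup
  letI := B.barModule
  refine ⟨fun v => ?_, fun v hv => ?_⟩
  · exact cm_zero.mpr (Commute.refl _)
  · obtain ⟨q, rfl⟩ := Additive.ofMul.surjective v
    induction q using QuotientGroup.induction_on with | H q => ?_
    have hc : q ∈ Subgroup.center ↥Q := by
      rw [B.mem_center_iff]
      refine B.centre q q.2 fun p hp => ?_
      have := hv (Additive.ofMul (QuotientGroup.mk (⟨p, hp⟩ : ↥Q)))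
      change formFun B _ _ = 0 at this
      rw [formFun_mk] at this
      exact (cm_zero.mp this).symm
    exact congrArg Additive.ofMul ((QuotientGroup.eq_one_iff q).mpr hc)

theorem form_rho (B : Base z Q) (c : C) :
    letI := B.barGroup
    letI := B.barModule
    ∀ v w, form B (B.rho c v) (B.rho c w) = form B v w := by
  letI := B.barGroup
  letI := B.barModule
  intro v w
  obtain ⟨q, rfl⟩ := Additive.ofMul.surjective v
  obtain ⟨p, rfl⟩ := Additive.ofMul.surjective w
  induction q using QuotientGroup.induction_on with | H q => ?_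
  induction p using QuotientGroup.induction_on with | H p => ?_
  change formFun B (Additive.ofMul (B.conjBar c (QuotientGroup.mk q)))
    (Additive.ofMul (B.conjBar c (QuotientGroup.mk p))) = formFun B _ _
  rw [B.conjBar_mk c q (B.normal.conj_mem _ q.2 _), B.conjBar_mk c p (B.normal.conj_mem _ p.2 _),
    formFun_mk, formFun_mk]
  exact cm_conj c q p

theorem rho_mul_apply (B : Base z Q) (c d : C) :
    letI := B.barGroup
    letI := B.barModule
    ∀ v, B.rho c (B.rho d v) = B.rho (c * d) v := by
  letI := B.barGroup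
  letI := B.barModule
  intro v
  rw [map_mul, Module.End.mul_apply]

/-- The representation inside the isometry group. -/
noncomputable def toIsom (B : Base z Q) :
    letI := B.barGroup
    letI := B.barModule
    C →* Isom (form B) :=
  letI := B.barGroup
  letI := B.barModule
  { toFun := fun c => ⟨LinearEquiv.ofLinear (B.rho c) (B.rho c⁻¹)
        (by rw [← Module.End.mul_eq_comp, ← map_mul, mul_inv_cancel, map_one]; rfl)
        (by rw [← Module.End.mul_eq_comp, ← map_mul, inv_mul_cancel, map_one]; rfl),
      form_rho B c⟩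
    map_one' := Subtype.ext (LinearEquiv.ext fun v => by
      change B.rho 1 v = v
      rw [map_one]; rfl)
    map_mul' := fun c d => Subtype.ext (LinearEquiv.ext fun v => (rho_mul_apply B c d v).symm) }

theorem toIsom_eq_one (B : Base z Q) (c : C) : (toIsom B c = 1) ↔ B.rho c = 1 := by
  letI := B.barGroup
  letI := B.barModule
  constructor
  · intro h
    refine LinearMap.ext fun v => ?_
    exact congrArg (fun g : Isom (form B) => (g : B.Bar ≃ₗ[ZMod 2] B.Bar) v) h
  · intro h
    refine Subtype.ext (LinearEquiv.ext fun v => ?_)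
    change B.rho c v = v
    rw [h]; rfl

theorem finrank_bar [Finite C] (B : Base z Q) :
    letI := B.barGroup
    letI := B.barModule
    Module.finrank (ZMod 2) B.Bar = 12 := by
  letI := B.barGroup
  letI := B.barModule
  haveI : Fact (Nat.Prime 2) := ⟨Nat.prime_two⟩
  haveI : Module.Finite (ZMod 2) B.Bar := Module.Finite.of_finite
  have h := Module.natCard_eq_pow_finrank (K := ZMod 2) (V := B.Bar)
  rw [B.card_bar, Nat.card_zmod] at h
  exact (Nat.pow_right_injective le_rfl h).symm

/-- An element acting trivially lies in `Q` when `Q` is the largest normal 2-subgroup. -/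
theorem mem_of_rho_eq_one [Finite C] (B : Base z Q)
    (hmax : ∀ R : Subgroup C, R.Normal → IsPGroup 2 R → R ≤ Q) {c : C} (h : B.rho c = 1) : c ∈ Q := by
  letI := B.barGroup
  letI := B.barModule
  refine hmax (toIsom B).ker inferInstance (fun d => ?_) ((toIsom_eq_one B c).mpr h)
  obtain ⟨k, m, hm, ho⟩ := Nat.exists_eq_two_pow_mul_odd (n := orderOf (d : C)) (orderOf_pos _).ne'
  have hd : B.rho ((d : C) ^ 2 ^ k) = 1 := by
    rw [map_pow, (toIsom_eq_one B (d : C)).mp d.2, one_pow]
  have hmem := B.mem_of_rho hm (by rw [← pow_mul, ← ho, pow_orderOf_eq_one]) hd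
  refine ⟨k + 13, Subtype.ext ?_⟩
  rw [Subgroup.coe_pow, pow_add, pow_mul, Subgroup.coe_one, ← B.card]
  exact congrArg Subtype.val (pow_card_eq_one' (x := (⟨_, hmem⟩ : ↥Q)))

/-- The index of `Q` divides the order of the symplectic group of dimension twelve. -/
theorem index_dvd [Finite C] (B : Base z Q)
    (hmax : ∀ R : Subgroup C, R.Normal → IsPGroup 2 R → R ≤ Q) :
    Q.index ∣ 2 ^ 36 * ∏ i ∈ Finset.range 6, (2 ^ (2 * (i + 1)) - 1) := by
  letI := B.barGroup
  letI := B.barModule
  haveI := B.normal
  haveI : Fact (Nat.Prime 2) := ⟨Nat.prime_two⟩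
  haveI : Module.Finite (ZMod 2) B.Bar := Module.Finite.of_finite
  have hker : (toIsom B).ker = Q := by
    refine le_antisymm (fun c hc => mem_of_rho_eq_one B hmax ((toIsom_eq_one B c).mp hc)) fun c hc => ?_
    exact (toIsom_eq_one B c).mpr (B.rho_Q hc)
  have hcard := card_isom (form_isSymp B) (q := 2) (Nat.card_zmod 2)
    (m := 6) (finrank_bar B)
  rw [show (6 : ℕ) ^ 2 = 36 from rfl] at hcard
  have hidx := Subgroup.index_ker (toIsom B)
  rw [hker] at hidx
  rw [← hcard, hidx]
  exact Subgroup.card_subgroup_dvd_card _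

end Cfsg.Agent.Lib.J4Six76
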