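import Cfsg.Agent.Lib.J4Six76.Centralizer

/-!
# The normaliser of `⟨x⟩` times the core is everything
-/

set_option autoImplicit false
set_option linter.style.haveILetI false

namespace Cfsg.Agent.Lib.J4Six76

open Cfsg Cfsg.Agent.Lib.J4Local Cfsg.Agent.Lib.J4Recog76

namespace Six

variable {C : Type*} [Group C] [Finite C] {x y t z u s : C} {π : ↥(Cn x) →* AutM22}

theorem fixes_t (h : Six x y t z u s π) : Fixes x t := by
  haveI := h.eNormal
  letI := h.base.barGroup
  letI := h.base.barModule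
  haveI : Module.Finite (ZMod 2) h.base.Bar := Module.Finite.of_finite
  intro c hc
  obtain ⟨m, hm, e, he, hb⟩ := exists_mem_sup hc
  set ρ := h.base.rho with hρ
  have hrb : ρ (c⁻¹ * t * c) = ρ m := by
    rw [hb, map_mul, h.base.rho_Q he, mul_one]
  have P := h.planes
  by_cases hmK : m ∈ Cn x
  · have htt : t * t = 1 := by rw [← pow_two, ← h.ht, pow_orderOf_eq_one]
    have hmm : m * m ∈ Subgroup.zpowers z := by
      refine h.CE_x ▸ ⟨?_, (Cn x).mul_mem hmK hmK⟩
      refine mem_of_rho_eq_one h.base h.core_max ?_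
      rw [map_mul, ← hρ, ← hrb, ← map_mul,
        show c⁻¹ * t * c * (c⁻¹ * t * c) = c⁻¹ * (t * t) * c by group, htt, mul_one, inv_mul_cancel,
        map_one]
    have hne : π ⟨m, hmK⟩ ≠ 1 := by
      intro h1
      have hmz : m ∈ Subgroup.zpowers z := h.two_ker hmK h1 (n := 2) (by
        rw [show (2 : ℕ) ^ 2 = 2 * 2 from rfl, pow_mul, pow_two, pow_two]
        rcases h.z_cases hmm with e1 | e1 <;> rw [e1]
        exacts [one_mul 1, h.zz])
      apply h.t_not_mem
      have hbE : c⁻¹ * t * c ∈ pCore 2 C :=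
        hb ▸ mul_mem (Subgroup.zpowers_le.mpr h.z_mem hmz) he
      have := Subgroup.Normal.conj_mem inferInstance _ hbE c
      rwa [show c * (c⁻¹ * t * c) * c⁻¹ = t by group] at this
    obtain ⟨k, hk, w, hw, hm'⟩ := h.inv_class hmK hmm hne
    have hmem : c * k ∈ h.Dt := by
      rw [h.mem_Dt, ← hρ]
      have e1 : ρ m = ρ (k * t * k⁻¹) := by
        rw [hm', map_mul, h.base.rho_Q (Subgroup.zpowers_le.mpr h.z_mem hw), mul_one]
      have e2 : c * k * t = c * (k * t * k⁻¹) * k := by group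
      have e3 : t * (c * k) = c * (c⁻¹ * t * c) * k := by group
      rw [e2, e3, map_mul, map_mul, map_mul ρ (c * (c⁻¹ * t * c)), map_mul ρ c (c⁻¹ * t * c), hrb, e1]
    exact (mul_mem_cancel_right (Subgroup.mem_sup_left (h.K_le_Mx hk))).mp (h.Dt_le hmem)
  · exfalso
    have hinv : m * x * m⁻¹ = x⁻¹ :=
      (h.mem_Mx.mp hm).resolve_left (fun e1 => hmK (mem_cn'.mpr e1))
    have hx2 : x⁻¹ = x ^ 2 := (eq_inv_of_mul_eq_one_left (by rw [← pow_succ, h.x3])).symm
    have hbX : ρ m * ρ x = ρ x ^ 2 * ρ m := by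
      rw [← map_pow, ← map_mul, ← map_mul, ← hx2, ← hinv, inv_mul_cancel_right]
    have h6 := fixed_outer (ρ x) (ρ m) P.X3 P.Xfix hbX P.dim
    have hle : (fixedSp (ρ t)).map (ρ c⁻¹) ≤ fixedSp (ρ m) := by
      rintro _ ⟨v, hv, rfl⟩
      rw [SetLike.mem_coe, mem_fixedSp] at hv
      rw [mem_fixedSp, ← hrb, ← Module.End.mul_apply, ← map_mul, mul_inv_cancel_right, map_mul,
        Module.End.mul_apply, hv]
    have h8 := Submodule.finrank_mono hle
    rw [← (Submodule.equivMapOfInjective _ (h.base.inj_rho c⁻¹) _).finrank_eq, P.finrank_fixed] at h8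
    omega

theorem fixes_two (h : Six x y t z u s π) :
    ∀ (n : ℕ) (a : C), a ∈ Cn x → a ^ 2 ^ n = 1 → a ∉ Subgroup.zpowers z → Fixes x a := by
  intro n
  induction n with
  | zero =>
    intro a _ ha hz
    rw [pow_zero, pow_one] at ha
    exact absurd (ha ▸ one_mem _) hz
  | succ n ih =>
    intro a hax ha hz
    by_cases hsq : a * a ∈ Subgroup.zpowers z
    · obtain ⟨k, hk, w, hw, hm⟩ := h.inv_class hax hsq (fun h1 => hz (h.two_ker hax h1 ha))
      rw [hm]
      exact Six.Fixes.mul_z h hw (h.fixes_t.conj (Subgroup.mem_sup_left (h.K_le_Mx hk)))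
    · refine Fixes.of_pow 2 (ih (a ^ 2) (pow_mem hax 2) ?_ (by rwa [pow_two]))
      rw [← pow_mul, ← pow_succ']
      exact ha

theorem fixes_three_power (h : Six x y t z u s π) :
    ∀ (n : ℕ) (a : C), a ∈ Cn x → a ^ 3 ^ n = 1 → a ≠ 1 → Fixes x a := by
  intro n
  induction n with
  | zero =>
    intro a _ ha h1
    rw [pow_zero, pow_one] at ha
    exact absurd ha h1
  | succ n ih =>
    intro a hax ha h1
    by_cases h3 : a ^ 3 = 1
    · exact h.fixes_three hax h3 h1
    · refine Fixes.of_pow 3 (ih (a ^ 3) (pow_mem hax 3) ?_ h3)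
      rw [← pow_mul, ← pow_succ']
      exact ha

theorem dvd_sub (h : Six x y t z u s π) : 3456 ∣ (Rx x).index - 1 := by
  haveI : Fact (Nat.Prime 2) := ⟨Nat.prime_two⟩
  haveI : Fact (Nat.Prime 3) := ⟨Nat.prime_three⟩
  have hKR : Cn x ≤ Rx x := h.K_le_Mx.trans le_sup_left
  -- the two part
  obtain ⟨P', hP', hzP⟩ := Sylow.exists_subgroup_card_pow_prime_le (G := ↥(Cn x)) 2 (m := 8)
    (by rw [h.kcard]; norm_num) ((Subgroup.zpowers z).subgroupOf (Cn x)) (n := 1)
    (by rw [Nat.card_congr (Subgroup.subgroupOfEquivOfLe (h.zCn x)).toEquiv, h.zpow_z_card, pow_one])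
    (by norm_num)
  set P := P'.map (Cn x).subtype with hP
  have hPc : Nat.card P = 2 ^ 8 := by
    rw [← hP']
    exact (Nat.card_congr (P'.equivMapOfInjective _ (Subgroup.subtype_injective _)).toEquiv).symm
  have hzP' : Subgroup.zpowers z ≤ P := fun a ha =>
    ⟨⟨a, h.zCn x ha⟩, hzP (Subgroup.mem_subgroupOf.mpr ha), rfl⟩
  have h128 := dvd_index_sub_one (Rx x) P (Subgroup.zpowers z)
    ((Subgroup.map_subtype_le _).trans hKR) h.z_mem_Rx (fun a ha c => h.z_comm ha c)
    (fun a ha hz c hc => h.fixes_two 8 a (Subgroup.map_subtype_le _ ha) (by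
      have := pow_card_eq_one' (x := (⟨a, ha⟩ : P))
      rw [hPc] at this
      exact congrArg Subtype.val this) hz c hc)
  have hidx : ((Subgroup.zpowers z).subgroupOf P).index = 128 := by
    have h1 := Subgroup.card_mul_index ((Subgroup.zpowers z).subgroupOf P)
    rw [Nat.card_congr (Subgroup.subgroupOfEquivOfLe hzP').toEquiv, h.zpow_z_card, hPc] at h1
    norm_num at h1
    omega
  rw [hidx] at h128
  -- the three part
  obtain ⟨Q', hQ'⟩ := Sylow.exists_subgroup_card_pow_prime (G := ↥(Cn x)) 3 (n := 3)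
    (by rw [h.kcard]; norm_num)
  set Q := Q'.map (Cn x).subtype with hQ
  have hQc : Nat.card Q = 3 ^ 3 := by
    rw [← hQ']
    exact (Nat.card_congr (Q'.equivMapOfInjective _ (Subgroup.subtype_injective _)).toEquiv).symm
  have h27 := dvd_index_sub_one (Rx x) Q ⊥ ((Subgroup.map_subtype_le _).trans hKR) bot_le
    (fun a ha c => by rw [Subgroup.mem_bot] at ha; rw [ha]; exact Commute.one_left c)
    (fun a ha h1 c hc => h.fixes_three_power 3 a (Subgroup.map_subtype_le _ ha) (by
      have := pow_card_eq_one' (x := (⟨a, ha⟩ : Q))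
      rw [hQc] at this
      exact congrArg Subtype.val this) (fun e => h1 (Subgroup.mem_bot.mpr e)) c hc)
  rw [Subgroup.bot_subgroupOf, Subgroup.index_bot, hQc] at h27
  exact Nat.Coprime.mul_dvd_of_dvd_of_dvd (by norm_num : Nat.Coprime 128 27) h128 (by simpa using h27)

theorem index_one (h : Six x y t z u s π) : Rx x = ⊤ := by
  rw [← Subgroup.index_eq_one]
  set n := (Rx x).index with hn
  have hS := index_dvd h.base h.core_max
  have e1 := (Rx x).card_mul_index
  have e2 := (pCore 2 C).card_mul_index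
  rw [h.card_Rx, ← hn] at e1
  rw [h.card_core] at e2
  have e3 : n * 2661120 = (pCore 2 C).index := by
    norm_num at e1 e2
    omega
  rw [← e3, show 2 ^ 36 * ∏ i ∈ Finset.range 6, (2 ^ (2 * (i + 1)) - 1) =
    (2 ^ 28 * 3 ^ 5 * 1198925) * 2661120 by norm_num [Finset.prod_range_succ],
    Nat.mul_dvd_mul_iff_right (by norm_num)] at hS
  obtain ⟨k, hk⟩ := h.dvd_sub
  have hpos : 0 < n := Nat.pos_of_ne_zero Subgroup.index_ne_zero_of_finite
  have hn' : n = 3456 * k + 1 := by omega
  have hcop : Nat.Coprime n (2 ^ 28 * 3 ^ 5) := by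
    refine Nat.Coprime.mul_right (Nat.Coprime.pow_right _ ?_) (Nat.Coprime.pow_right _ ?_)
    · exact (Nat.prime_two.coprime_iff_not_dvd.mpr (by omega)).symm
    · exact (Nat.prime_three.coprime_iff_not_dvd.mpr (by omega)).symm
  have hd := hcop.dvd_of_dvd_mul_left hS
  have hle := Nat.le_of_dvd (by norm_num) hd
  have key : ∀ j < 347, (3456 * j + 1) ∣ 1198925 → j = 0 := by decide +kernel
  have := key k (by omega) (hn' ▸ hd)
  omega

end Six

end Cfsg.Agent.Lib.J4Six76
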