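import Cfsg.Agent.Lib.J4Recog76.Module

/-!
# Three planes over the four-element field permuted by an involution
-/

set_option autoImplicit false
set_option linter.style.haveILetI false
set_option linter.unusedSectionVars false

namespace Cfsg.Agent.Lib.J4Six76

open Cfsg.Agent.Lib.J4Recog76 Module

variable {V : Type*} [AddCommGroup V] [Module (ZMod 2) V] [Module.Finite (ZMod 2) V]

/-- The fixed subspace of an endomorphism in characteristic two. -/
abbrev fixedSp (g : Module.End (ZMod 2) V) : Submodule (ZMod 2) V := LinearMap.ker (g + 1)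

theorem mem_fixedSp {g : Module.End (ZMod 2) V} {v : V} : v ∈ fixedSp g ↔ g v = v := by
  rw [LinearMap.mem_ker, LinearMap.add_apply, Module.End.one_apply]
  exact ⟨eq_of_add_eq_zero, fun h => by rw [h, add_self]⟩

theorem smul_cases (c : ZMod 2) (a : V) : c • a = 0 ∨ c • a = a := by
  rcases (show c = 0 ∨ c = 1 by revert c; decide) with rfl | rfl
  exacts [Or.inl (zero_smul _ _), Or.inr (one_smul _ _)]

/-- An element inverting a fixed-point-free element of order three fixes at most half. -/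
theorem fixed_outer (X b : Module.End (ZMod 2) V) (hX3 : X ^ 3 = 1)
    (hXfix : ∀ v, X v = v → v = 0) (hbX : b * X = X ^ 2 * b) (hV : finrank (ZMod 2) V = 12) :
    finrank (ZMod 2) ↥(fixedSp b) ≤ 6 := by
  have hinj : Function.Injective X := fun v w e => by
    have h2 := congrArg (fun a => (X ^ 2) a) e
    simpa only [← Module.End.mul_apply, ← pow_succ, hX3, Module.End.one_apply] using h2
  have hd : fixedSp b ⊓ (fixedSp b).map X = ⊥ := by
    rw [eq_bot_iff]
    rintro w ⟨hw, v, hv, rfl⟩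
    rw [SetLike.mem_coe, mem_fixedSp] at hw
    rw [SetLike.mem_coe, mem_fixedSp] at hv
    have h1 : b (X v) = (X ^ 2) v := by rw [← Module.End.mul_apply, hbX, Module.End.mul_apply, hv]
    rw [hw] at h1
    have h2 : v = X v := hinj (by rwa [pow_two, Module.End.mul_apply] at h1)
    rw [Submodule.mem_bot, hXfix v h2.symm, map_zero]
  have hsum := Submodule.finrank_sup_add_finrank_inf_eq (fixedSp b) ((fixedSp b).map X)
  have hle := Submodule.finrank_le (fixedSp b ⊔ (fixedSp b).map X)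
  rw [hd, finrank_bot, ← (Submodule.equivMapOfInjective X hinj (fixedSp b)).finrank_eq] at hsum
  omega

/-- The configuration of the images of `x`, `y`, `t`, `u`. -/
structure Planes (X Y T U : Module.End (ZMod 2) V) : Prop where
  X3 : X ^ 3 = 1
  Xfix : ∀ v, X v = v → v = 0
  XY : Commute X Y
  TX : Commute T X
  TY : Commute T Y
  TT : T * T = 1
  UX : U * X = X ^ 2 * U
  UY : Commute U Y
  UT : Commute U T
  Uinj : Function.Injective U
  rank0 : finrank (ZMod 2) ↥(fixedSp Y) = 4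
  rank1 : finrank (ZMod 2) ↥(fixedSp (Y * X)) = 4
  rank2 : finrank (ZMod 2) ↥(fixedSp (Y * X ^ 2)) = 4
  span : fixedSp Y ⊔ (fixedSp (Y * X) ⊔ fixedSp (Y * X ^ 2)) = ⊤
  T0 : ∀ v ∈ fixedSp Y, T v = v
  Tne : T ≠ 1
  dim : finrank (ZMod 2) V = 12

namespace Planes

variable {X Y T U : Module.End (ZMod 2) V}

theorem comm_fixed {g S : Module.End (ZMod 2) V} (h : Commute S g) {v : V} (hv : v ∈ fixedSp g) :
    S v ∈ fixedSp g := by
  rw [mem_fixedSp] at hv ⊢
  rw [← Module.End.mul_apply, ← h.eq, Module.End.mul_apply, hv]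

theorem x2fix (P : Planes X Y T U) {v : V} (h : (X ^ 2) v = v) : v = 0 := by
  refine P.Xfix v ?_
  have := congrArg X h
  rw [← Module.End.mul_apply, ← pow_succ', P.X3, Module.End.one_apply] at this
  exact this.symm

theorem disj01 (P : Planes X Y T U) : fixedSp Y ⊓ fixedSp (Y * X) = ⊥ := by
  rw [eq_bot_iff]
  rintro v ⟨h0, h1⟩
  rw [SetLike.mem_coe, mem_fixedSp] at h0 h1
  rw [← P.XY.eq, Module.End.mul_apply, h0] at h1
  exact P.Xfix v h1

theorem disj02 (P : Planes X Y T U) : fixedSp Y ⊓ fixedSp (Y * X ^ 2) = ⊥ := by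
  rw [eq_bot_iff]
  rintro v ⟨h0, h1⟩
  rw [SetLike.mem_coe, mem_fixedSp] at h0 h1
  rw [← (P.XY.pow_left 2).eq, Module.End.mul_apply, h0] at h1
  exact P.x2fix h1

theorem disj12 (P : Planes X Y T U) : fixedSp (Y * X) ⊓ fixedSp (Y * X ^ 2) = ⊥ := by
  rw [eq_bot_iff]
  rintro v ⟨h0, h1⟩
  rw [SetLike.mem_coe, mem_fixedSp] at h0 h1
  refine P.Xfix v ?_
  have h2 : X * (Y * X) = Y * X ^ 2 := by rw [← mul_assoc, P.XY.eq, mul_assoc, pow_two]
  rw [← h2, Module.End.mul_apply, h0] at h1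
  exact h1

theorem NN (P : Planes X Y T U) (v : V) : (T + 1) ((T + 1) v) = 0 := by
  simp only [LinearMap.add_apply, Module.End.one_apply, map_add]
  rw [← Module.End.mul_apply, P.TT, Module.End.one_apply, add_comm (T v) v, add_self]

theorem plane (P : Planes X Y T U) (W : Submodule (ZMod 2) V) (hW : finrank (ZMod 2) W = 4)
    (hTW : ∀ v ∈ W, T v ∈ W) (hXW : ∀ v ∈ W, X v ∈ W) (hne : W.map (T + 1) ≠ ⊥) :
    finrank (ZMod 2) ↥(W.map (T + 1)) = 2 ∧ W.map (T + 1) = W ⊓ fixedSp T := by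
  have hle : W.map (T + 1) ≤ W ⊓ fixedSp T := by
    rintro _ ⟨v, hv, rfl⟩
    refine ⟨?_, P.NN v⟩
    rw [LinearMap.add_apply, Module.End.one_apply]
    exact add_mem (hTW v hv) hv
  have hrk := ((T + 1).domRestrict W).finrank_range_add_finrank_ker
  rw [LinearMap.range_domRestrict] at hrk
  have hker : finrank (ZMod 2) ↥(LinearMap.ker ((T + 1).domRestrict W)) =
      finrank (ZMod 2) ↥(W ⊓ fixedSp T) := by
    rw [LinearMap.ker_domRestrict, (Submodule.equivMapOfInjective W.subtype W.subtype_injective _).finrank_eq,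
      Submodule.map_comap_subtype]
  rw [hker, hW] at hrk
  have hmono := Submodule.finrank_mono hle
  have hpos : 1 ≤ finrank (ZMod 2) ↥(W.map (T + 1)) := by
    by_contra h
    exact hne (Submodule.finrank_eq_zero.mp (by omega))
  have h1 : finrank (ZMod 2) ↥(W.map (T + 1)) ≠ 1 := by
    intro h
    obtain ⟨⟨a, ha⟩, ha0, hall⟩ := finrank_eq_one_iff'.mp h
    have hXa : X a ∈ W.map (T + 1) := by
      obtain ⟨v, hv, rfl⟩ := ha
      exact ⟨X v, hXW v hv, by
        rw [← Module.End.mul_apply, ← Module.End.mul_apply,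
          (P.TX.add_left (Commute.one_left X)).eq]⟩
    obtain ⟨c, hc⟩ := hall ⟨X a, hXa⟩
    have hc' : c • a = X a := congrArg Subtype.val hc
    rcases smul_cases c a with e | e <;> rw [e] at hc'
    · apply ha0
      have h2 := congrArg (fun w => (X ^ 2) w) hc'
      rw [map_zero, ← Module.End.mul_apply, ← pow_succ, P.X3, Module.End.one_apply] at h2
      exact Subtype.ext h2.symm
    · exact ha0 (Subtype.ext (P.Xfix a hc'.symm))
  refine ⟨by omega, Submodule.eq_of_le_of_finrank_eq hle (by omega)⟩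

theorem mem_swap (P : Planes X Y T U) {v : V} (hv : v ∈ fixedSp (Y * X)) :
    U v ∈ fixedSp (Y * X ^ 2) := by
  rw [mem_fixedSp] at hv ⊢
  have h : Y * X ^ 2 * U = U * (Y * X) := by
    rw [mul_assoc, ← P.UX, ← mul_assoc, ← P.UY.eq, mul_assoc]
  rw [← Module.End.mul_apply, h, Module.End.mul_apply, hv]

theorem map0 (P : Planes X Y T U) : (fixedSp Y).map (T + 1) = ⊥ := by
  rw [eq_bot_iff]
  rintro _ ⟨v, hv, rfl⟩
  rw [Submodule.mem_bot, LinearMap.add_apply, Module.End.one_apply, P.T0 v hv, add_self]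

theorem ne12 (P : Planes X Y T U) :
    (fixedSp (Y * X)).map (T + 1) ≠ ⊥ ∧ (fixedSp (Y * X ^ 2)).map (T + 1) ≠ ⊥ := by
  have hswap : (fixedSp (Y * X)).map U = fixedSp (Y * X ^ 2) := by
    refine Submodule.eq_of_le_of_finrank_eq (Submodule.map_le_iff_le_comap.mpr fun v hv => P.mem_swap hv) ?_
    rw [← (Submodule.equivMapOfInjective U P.Uinj _).finrank_eq, P.rank1, P.rank2]
  have hUN : Commute U (T + 1) := P.UT.add_right (Commute.one_right U)
  have key : (fixedSp (Y * X)).map (T + 1) = ⊥ ↔ (fixedSp (Y * X ^ 2)).map (T + 1) = ⊥ := by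
    have e : (fixedSp (Y * X ^ 2)).map (T + 1) = ((fixedSp (Y * X)).map (T + 1)).map U := by
      rw [← hswap, ← Submodule.map_comp, ← Submodule.map_comp, ← Module.End.mul_eq_comp,
        ← Module.End.mul_eq_comp, hUN.eq]
    rw [e]
    exact ⟨fun h => by rw [h, Submodule.map_bot],
      fun h => Submodule.map_injective_of_injective P.Uinj (h.trans (Submodule.map_bot U).symm)⟩
  have both : ¬ ((fixedSp (Y * X)).map (T + 1) = ⊥ ∧ (fixedSp (Y * X ^ 2)).map (T + 1) = ⊥) := by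
    rintro ⟨h1, h2⟩
    apply P.Tne
    have htop : (⊤ : Submodule (ZMod 2) V).map (T + 1) = ⊥ := by
      rw [← P.span, Submodule.map_sup, Submodule.map_sup, P.map0, h1, h2, bot_sup_eq, bot_sup_eq]
    refine LinearMap.ext fun v => ?_
    have : (T + 1) v ∈ (⊤ : Submodule (ZMod 2) V).map (T + 1) := ⟨v, trivial, rfl⟩
    rw [htop, Submodule.mem_bot, LinearMap.add_apply, Module.End.one_apply] at this
    rw [eq_of_add_eq_zero this, Module.End.one_apply]
  exact ⟨fun h => both ⟨h, key.mp h⟩, fun h => both ⟨key.mpr h, h⟩⟩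

theorem plane1 (P : Planes X Y T U) : finrank (ZMod 2) ↥((fixedSp (Y * X)).map (T + 1)) = 2 ∧
    (fixedSp (Y * X)).map (T + 1) = fixedSp (Y * X) ⊓ fixedSp T :=
  P.plane _ P.rank1 (fun _ hv => comm_fixed (P.TY.mul_right P.TX) hv)
    (fun _ hv => comm_fixed (P.XY.mul_right (Commute.refl X)) hv) P.ne12.1

theorem plane2 (P : Planes X Y T U) : finrank (ZMod 2) ↥((fixedSp (Y * X ^ 2)).map (T + 1)) = 2 ∧
    (fixedSp (Y * X ^ 2)).map (T + 1) = fixedSp (Y * X ^ 2) ⊓ fixedSp T :=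
  P.plane _ P.rank2 (fun _ hv => comm_fixed (P.TY.mul_right (P.TX.pow_right 2)) hv)
    (fun _ hv => comm_fixed (P.XY.mul_right ((Commute.refl X).pow_right 2)) hv) P.ne12.2

theorem range_eq (P : Planes X Y T U) : LinearMap.range (T + 1) =
    (fixedSp (Y * X)).map (T + 1) ⊔ (fixedSp (Y * X ^ 2)).map (T + 1) := by
  rw [← Submodule.map_top, ← P.span, Submodule.map_sup, Submodule.map_sup, P.map0, bot_sup_eq]

theorem finrank_range (P : Planes X Y T U) : finrank (ZMod 2) ↥(LinearMap.range (T + 1)) = 4 := by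
  have h := Submodule.finrank_sup_add_finrank_inf_eq ((fixedSp (Y * X)).map (T + 1))
    ((fixedSp (Y * X ^ 2)).map (T + 1))
  have hinf : (fixedSp (Y * X)).map (T + 1) ⊓ (fixedSp (Y * X ^ 2)).map (T + 1) = ⊥ := by
    rw [eq_bot_iff, P.plane1.2, P.plane2.2, ← P.disj12]
    exact inf_le_inf inf_le_left inf_le_left
  rw [hinf, finrank_bot, P.plane1.1, P.plane2.1, ← P.range_eq] at h
  omega

theorem finrank_fixed (P : Planes X Y T U) : finrank (ZMod 2) ↥(fixedSp T) = 8 := by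
  have h := (T + 1).finrank_range_add_finrank_ker
  rw [P.finrank_range, P.dim] at h
  change finrank (ZMod 2) ↥(LinearMap.ker (T + 1)) = 8
  omega

theorem range_fix (P : Planes X Y T U) {v : V} (hv : v ∈ LinearMap.range (T + 1)) (hy : Y v = v) :
    v = 0 := by
  rw [P.range_eq, P.plane1.2, P.plane2.2, Submodule.mem_sup] at hv
  obtain ⟨a, ha, b, hb, rfl⟩ := hv
  have h1 : Y a + a ∈ fixedSp (Y * X) :=
    add_mem (comm_fixed ((Commute.refl Y).mul_right P.XY.symm) ha.1) ha.1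
  have h2 : Y b + b ∈ fixedSp (Y * X ^ 2) :=
    add_mem (comm_fixed ((Commute.refl Y).mul_right (P.XY.symm.pow_right 2)) hb.1) hb.1
  have h3 : Y a + a = Y b + b := by
    refine eq_of_add_eq_zero ?_
    rw [show Y a + a + (Y b + b) = (Y a + Y b) + (a + b) by abel, ← map_add, hy, add_self]
  have h4 : Y a + a = 0 := (Submodule.mem_bot (ZMod 2)).mp (P.disj12 ▸ ⟨h1, h3 ▸ h2⟩)
  have ha0 : a = 0 := (Submodule.mem_bot (ZMod 2)).mp
    (P.disj01 ▸ ⟨mem_fixedSp.mpr (eq_of_add_eq_zero h4), ha.1⟩)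
  rw [h4] at h3
  have hb0 : b = 0 := (Submodule.mem_bot (ZMod 2)).mp
    (P.disj02 ▸ ⟨mem_fixedSp.mpr (eq_of_add_eq_zero h3.symm), hb.1⟩)
  rw [ha0, hb0, add_zero]

theorem range_moved1 (P : Planes X Y T U) :
    ∃ v ∈ LinearMap.range (T + 1), (Y * X) v ≠ v := by
  obtain ⟨a, ha, ha0⟩ := Submodule.exists_mem_ne_zero_of_ne_bot P.ne12.2
  refine ⟨a, P.range_eq ▸ Submodule.mem_sup_right ha, fun h => ha0 ?_⟩
  rw [P.plane2.2] at ha
  exact (Submodule.mem_bot (ZMod 2)).mp (P.disj12 ▸ ⟨mem_fixedSp.mpr h, ha.1⟩)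

theorem range_moved2 (P : Planes X Y T U) :
    ∃ v ∈ LinearMap.range (T + 1), (Y * X ^ 2) v ≠ v := by
  obtain ⟨a, ha, ha0⟩ := Submodule.exists_mem_ne_zero_of_ne_bot P.ne12.1
  refine ⟨a, P.range_eq ▸ Submodule.mem_sup_left ha, fun h => ha0 ?_⟩
  rw [P.plane1.2] at ha
  exact (Submodule.mem_bot (ZMod 2)).mp (P.disj12 ▸ ⟨ha.1, mem_fixedSp.mpr h⟩)

theorem y_quot (P : Planes X Y T U) {v : V} (hv : v ∈ fixedSp T) :
    Y v + v ∈ LinearMap.range (T + 1) := by
  have htop : v ∈ fixedSp Y ⊔ (fixedSp (Y * X) ⊔ fixedSp (Y * X ^ 2)) := P.span ▸ Submodule.mem_top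
  rw [Submodule.mem_sup] at htop
  obtain ⟨a, ha, r, hr, rfl⟩ := htop
  rw [Submodule.mem_sup] at hr
  obtain ⟨b, hb, c, hc, rfl⟩ := hr
  have hN : (T + 1) b + (T + 1) c = 0 := by
    have h0 : (T + 1) a = 0 := by
      rw [LinearMap.add_apply, Module.End.one_apply, P.T0 a ha, add_self]
    have := LinearMap.mem_ker.mp hv
    rw [map_add, map_add, h0, zero_add] at this
    exact this
  have hb' : (T + 1) b ∈ fixedSp (Y * X) :=
    ((P.plane1.2 ▸ ⟨b, hb, rfl⟩ : (T + 1) b ∈ fixedSp (Y * X) ⊓ fixedSp T)).1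
  have hc' : (T + 1) c ∈ fixedSp (Y * X ^ 2) :=
    ((P.plane2.2 ▸ ⟨c, hc, rfl⟩ : (T + 1) c ∈ fixedSp (Y * X ^ 2) ⊓ fixedSp T)).1
  have he := eq_of_add_eq_zero hN
  have hb0 : (T + 1) b = 0 := (Submodule.mem_bot (ZMod 2)).mp (P.disj12 ▸ ⟨hb', he ▸ hc'⟩)
  have hbR : b ∈ LinearMap.range (T + 1) :=
    P.range_eq ▸ Submodule.mem_sup_left (P.plane1.2 ▸ ⟨hb, LinearMap.mem_ker.mpr hb0⟩)
  have hcR : c ∈ LinearMap.range (T + 1) :=
    P.range_eq ▸ Submodule.mem_sup_right (P.plane2.2 ▸ ⟨hc, LinearMap.mem_ker.mpr (he ▸ hb0)⟩)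
  have hY : ∀ w ∈ LinearMap.range (T + 1), Y w ∈ LinearMap.range (T + 1) := by
    rintro _ ⟨w, rfl⟩
    exact ⟨Y w, by rw [← Module.End.mul_apply, ← Module.End.mul_apply,
      (P.TY.add_left (Commute.one_left Y)).eq]⟩
  rw [show Y (a + (b + c)) + (a + (b + c)) = (Y a + a) + ((Y b + b) + (Y c + c)) by
    rw [map_add, map_add]; abel, mem_fixedSp.mp ha, add_self, zero_add]
  exact add_mem (add_mem (hY b hbR) hbR) (add_mem (hY c hcR) hcR)

theorem quot_moved (P : Planes X Y T U) (g : Module.End (ZMod 2) V)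
    (hg : g = X ∨ g = Y * X ∨ g = Y * X ^ 2) :
    ∃ v ∈ fixedSp T, g v + v ∉ LinearMap.range (T + 1) := by
  obtain ⟨a, ha, ha0⟩ := Submodule.exists_mem_ne_zero_of_ne_bot (p := fixedSp Y) (fun h => by
    have := P.rank0; rw [h, finrank_bot] at this; omega)
  refine ⟨a, mem_fixedSp.mpr (P.T0 a ha), fun h => ?_⟩
  have key : ∀ S : Module.End (ZMod 2) V, Commute S Y → S a + a ∈ LinearMap.range (T + 1) → S a = a :=
    fun S hS hm => eq_of_add_eq_zero
      (P.range_fix hm (mem_fixedSp.mp (add_mem (comm_fixed hS ha) ha)))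
  rcases hg with rfl | rfl | rfl
  · exact ha0 (P.Xfix a (key _ P.XY h))
  · rw [← P.XY.eq, Module.End.mul_apply, mem_fixedSp.mp ha] at h
    exact ha0 (P.Xfix a (key _ P.XY h))
  · rw [← (P.XY.pow_left 2).eq, Module.End.mul_apply, mem_fixedSp.mp ha] at h
    exact ha0 (P.x2fix (key _ (P.XY.pow_left 2) h))

end Planes

end Cfsg.Agent.Lib.J4Six76
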