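import Cfsg.Agent.Lib.J4Six76.Core
import Cfsg.Agent.Lib.J4Six76.Form
import Cfsg.Agent.Lib.J4Six76.Planes

/-!
# The normaliser of `⟨x⟩` times the core, and the action on the core modulo its centre
-/

set_option autoImplicit false
set_option linter.style.haveILetI false

namespace Cfsg.Agent.Lib.J4Six76

open Cfsg Cfsg.Agent.Lib.J4Local Cfsg.Agent.Lib.J4Recog76
open scoped Pointwise

/-- The normaliser of `⟨x⟩`. -/
abbrev Mx {C : Type*} [Group C] (x : C) : Subgroup C :=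
  Subgroup.normalizer ((Subgroup.zpowers x : Subgroup C) : Set C)

/-- The normaliser of `⟨x⟩` times the core. -/
abbrev Rx {C : Type*} [Group C] (x : C) : Subgroup C := Mx x ⊔ pCore 2 C

/-- Conjugates of `a` inside `Rx x` come only from inside. -/
def Fixes {C : Type*} [Group C] (x a : C) : Prop := ∀ c : C, c⁻¹ * a * c ∈ Rx x → c ∈ Rx x

theorem Fixes.conj {C : Type*} [Group C] {x a m : C} (hm : m ∈ Rx x) (ha : Fixes x a) :
    Fixes x (m * a * m⁻¹) := by
  intro c hc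
  have h := ha (m⁻¹ * c) (by
    rwa [show (m⁻¹ * c)⁻¹ * a * (m⁻¹ * c) = c⁻¹ * (m * a * m⁻¹) * c by group])
  have := mul_mem hm h
  rwa [mul_inv_cancel_left] at this

theorem Fixes.of_pow {C : Type*} [Group C] {x a : C} (k : ℕ) (ha : Fixes x (a ^ k)) : Fixes x a := by
  intro c hc
  refine ha c ?_
  have e : c⁻¹ * a ^ k * c = (c⁻¹ * a * c) ^ k := by
    have := (conj_pow (a := c⁻¹) (b := a) (i := k)).symm
    simpa only [inv_inv] using this
  rw [e]
  exact pow_mem hc k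

namespace Six

variable {C : Type*} [Group C] [Finite C] {x y t z u s : C} {π : ↥(Cn x) →* AutM22}

theorem x_ne_inv (h : Six x y t z u s π) : x ≠ x⁻¹ := by
  intro e
  have h2 : x ^ 2 = 1 := by rw [pow_two]; nth_rewrite 2 [e]; exact mul_inv_cancel x
  have := orderOf_dvd_of_pow_eq_one h2
  rw [h.hx] at this
  omega

theorem zpx (h : Six x y t z u s π) {a : C} (ha : a ∈ Subgroup.zpowers x) :
    a = 1 ∨ a = x ∨ a = x⁻¹ := by
  obtain ⟨i, rfl⟩ := Subgroup.mem_zpowers_iff.mp ha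
  rw [← zpow_mod_orderOf, h.hx]
  have h1 : i % ((3 : ℕ) : ℤ) = 0 ∨ i % ((3 : ℕ) : ℤ) = 1 ∨ i % ((3 : ℕ) : ℤ) = 2 := by omega
  rcases h1 with e | e | e <;> rw [e]
  · exact Or.inl (zpow_zero x)
  · exact Or.inr (Or.inl (zpow_one x))
  · right; right
    rw [show (2 : ℤ) = ((2 : ℕ) : ℤ) from rfl, zpow_natCast]
    exact eq_inv_of_mul_eq_one_left (by rw [← pow_succ, h.x3])

theorem mem_Mx (h : Six x y t z u s π) {m : C} : m ∈ Mx x ↔ m * x * m⁻¹ = x ∨ m * x * m⁻¹ = x⁻¹ := by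
  constructor
  · intro hm
    rcases h.zpx ((Subgroup.mem_normalizer_iff.mp hm x).mp (Subgroup.mem_zpowers x)) with e | e | e
    · exfalso
      have : x = 1 := by simpa [mul_inv_eq_one] using e
      have h3 := h.hx; rw [this, orderOf_one] at h3; omega
    · exact Or.inl e
    · exact Or.inr e
  · intro hm
    refine Subgroup.mem_normalizer_iff.mpr fun a => ?_
    have key : (Subgroup.zpowers x).map (MulAut.conj m).toMonoidHom = Subgroup.zpowers x := by
      rw [MonoidHom.map_zpowers]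
      change Subgroup.zpowers (m * x * m⁻¹) = _
      rcases hm with e | e <;> rw [e]
      rw [Subgroup.zpowers_inv]
    conv_rhs => rw [← key]
    constructor
    · intro ha; exact ⟨a, ha, rfl⟩
    · rintro ⟨b, hb, hb'⟩
      have : b = a := by simpa using hb'
      rwa [← this]

theorem K_le_Mx (h : Six x y t z u s π) : Cn x ≤ Mx x := fun m hm =>
  h.mem_Mx.mpr (Or.inl (mem_cn'.mp hm))

theorem u_mem (h : Six x y t z u s π) : u ∈ Mx x := h.mem_Mx.mpr (Or.inr h.ux)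

theorem u_not_mem (h : Six x y t z u s π) : u ∉ Cn x := fun hu =>
  h.x_ne_inv ((mem_cn'.mp hu).symm.trans h.ux)

theorem split_Mx (h : Six x y t z u s π) {m : C} (hm : m ∈ Mx x) (hK : m ∉ Cn x) : m * u ∈ Cn x := by
  rw [mem_cn', show m * u * x * (m * u)⁻¹ = m * (u * x * u⁻¹) * m⁻¹ by group, h.ux,
    show m * x⁻¹ * m⁻¹ = (m * x * m⁻¹)⁻¹ by group,
    ((h.mem_Mx.mp hm).resolve_left (fun e => hK (mem_cn'.mpr e))), inv_inv]

theorem card_Mx (h : Six x y t z u s π) : Nat.card ↥(Mx x) = 5322240 := by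
  have hidx : ((Cn x).subgroupOf (Mx x)).index = 2 := by
    rw [Subgroup.index_eq_two_iff]
    refine ⟨⟨u, h.u_mem⟩, fun m => ?_⟩
    simp only [Subgroup.mem_subgroupOf, Subgroup.coe_mul]
    by_cases hm : (m : C) ∈ Cn x
    · exact Or.inr ⟨hm, fun h1 => h.u_not_mem ((mul_mem_cancel_left hm).mp h1)⟩
    · exact Or.inl ⟨h.split_Mx m.2 hm, hm⟩
  have h1 := Subgroup.card_mul_index ((Cn x).subgroupOf (Mx x))
  rw [Nat.card_congr (Subgroup.subgroupOfEquivOfLe h.K_le_Mx).toEquiv, h.kcard, hidx] at h1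
  omega

theorem Mx_inf_core (h : Six x y t z u s π) : Mx x ⊓ pCore 2 C = Subgroup.zpowers z := by
  haveI := h.eNormal
  refine le_antisymm ?_ (le_inf ((h.zCn x).trans h.K_le_Mx) (Subgroup.zpowers_le.mpr h.z_mem))
  rintro e ⟨hm, he⟩
  refine h.CE_x ▸ ⟨he, ?_⟩
  have hc : e * x * e⁻¹ * x⁻¹ ∈ pCore 2 C ⊓ Subgroup.zpowers x := by
    refine Subgroup.mem_inf.mpr ⟨?_, (Subgroup.zpowers x).mul_mem
      ((Subgroup.mem_normalizer_iff.mp hm x).mp (Subgroup.mem_zpowers x))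
      ((Subgroup.zpowers x).inv_mem (Subgroup.mem_zpowers x))⟩
    rw [show e * x * e⁻¹ * x⁻¹ = e * (x * e⁻¹ * x⁻¹) by group]
    exact mul_mem he (Subgroup.Normal.conj_mem inferInstance _ (inv_mem he) x)
  have hbot : pCore 2 C ⊓ Subgroup.zpowers x = ⊥ := by
    refine Subgroup.disjoint_of_coprime_natCard ?_ |>.eq_bot
    rw [h.card_core, Nat.card_zpowers, h.hx]; norm_num
  rw [hbot, Subgroup.mem_bot, mul_inv_eq_one] at hc
  exact mem_cn'.mpr hc

theorem card_Rx (h : Six x y t z u s π) : Nat.card ↥(Rx x) = 5322240 * 4096 := by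
  haveI := h.eNormal
  have := card_sup (Mx x) (pCore 2 C)
  rw [h.Mx_inf_core, h.zpow_z_card, h.card_Mx, h.card_core] at this
  norm_num at this ⊢
  change Nat.card ↥(Mx x ⊔ pCore 2 C) = _
  omega

theorem z_mem_Rx (h : Six x y t z u s π) : Subgroup.zpowers z ≤ Rx x :=
  (Subgroup.zpowers_le.mpr h.z_mem).trans le_sup_right

theorem Cy_eq (h : Six x y t z u s π) : Cn y ≤ Rx x ∧ Nat.card ↥(Cn y) = 2304 := by
  haveI := h.eNormal
  set A := Mx x ⊓ Cn y with hA
  set U := pCore 2 C ⊓ Cn y with hU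
  have hAK : Cn x ⊓ Cn y ≤ A := inf_le_inf_right _ h.K_le_Mx
  have h144 : 144 ≤ Nat.card A := by
    obtain ⟨k, hk⟩ := Subgroup.card_dvd_of_le hAK
    rw [h.cxy_card] at hk
    rcases (show k = 0 ∨ k = 1 ∨ 2 ≤ k by omega) with rfl | rfl | hk2
    · exact absurd hk (by simpa using (Nat.card_pos : 0 < Nat.card A).ne')
    · exfalso
      have := Subgroup.eq_of_le_of_card_ge hAK (by rw [h.cxy_card, hk])
      have hu : u ∈ A := ⟨h.u_mem, mem_cn.mpr h.uy⟩
      rw [← this] at hu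
      exact h.u_not_mem hu.1
    · omega
  have hn : A ≤ Subgroup.normalizer (U : Set C) := fun a ha => mem_normalizer_inf_cn _ ha.2
  have hinf : A ⊓ U ≤ Subgroup.zpowers z :=
    h.Mx_inf_core ▸ inf_le_inf inf_le_left inf_le_left
  have hmul := PLocal.card_sup_mul_card_inf hn
  have hi2 := Subgroup.card_le_of_le hinf
  rw [h.zpow_z_card] at hi2
  rw [h.U_card] at hmul
  have hsup : A ⊔ U ≤ Cn y := sup_le inf_le_right inf_le_right
  have hge : 2304 ≤ Nat.card ↥(A ⊔ U) := by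
    have := Nat.mul_le_mul_left (Nat.card ↥(A ⊔ U)) hi2
    omega
  have he := Subgroup.eq_of_le_of_card_ge hsup (h.cy_card.trans hge)
  refine ⟨?_, le_antisymm h.cy_card (he ▸ hge)⟩
  rw [← he]
  exact sup_le (inf_le_left.trans le_sup_left) (inf_le_left.trans le_sup_right)

theorem s_mem (h : Six x y t z u s π) : s ∈ Rx x :=
  Subgroup.mem_sup_left (h.K_le_Mx (mem_cn.mpr h.sx))

theorem line_conj {a d : C} {T : Subgroup C} (hd : d ∈ T) (hle : Cn a ≤ T) :
    Cn (d * a * d⁻¹) ≤ T := by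
  intro c hc
  have h1 := hle (show d⁻¹ * c * d ∈ Cn a by simpa [mul_assoc] using conj_mem_cn (d := d⁻¹) hc)
  have := mul_mem (mul_mem hd h1) (inv_mem hd)
  rwa [show d * (d⁻¹ * c * d) * d⁻¹ = c by group] at this

theorem card_cn_conj (a d : C) : Nat.card ↥(Cn (d * a * d⁻¹)) = Nat.card ↥(Cn a) := by
  have := card_conj_line (⊤ : Subgroup C) d a
  rwa [top_inf_eq, top_inf_eq] at this

/-- The three lines other than `⟨x⟩`. -/
theorem line_facts (h : Six x y t z u s π) {a : C} (ha : a = y ∨ a = y * x ∨ a = y * x ^ 2) :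
    Cn a ≤ Rx x ∧ Nat.card ↥(Cn a) = 2304 := by
  have h1 : Cn (y * x) ≤ Rx x ∧ Nat.card ↥(Cn (y * x)) = 2304 := by
    rw [← h.sy]
    exact ⟨line_conj h.s_mem h.Cy_eq.1, (card_cn_conj y s).trans h.Cy_eq.2⟩
  rcases ha with rfl | rfl | rfl
  · exact h.Cy_eq
  · exact h1
  · rw [← h.ypow 1, pow_one]
    exact ⟨line_conj h.s_mem h1.1, (card_cn_conj _ s).trans h1.2⟩

theorem Fixes.mul_z (h : Six x y t z u s π) {a w : C} (hw : w ∈ Subgroup.zpowers z)
    (ha : Fixes x a) : Fixes x (a * w) := by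
  intro c hc
  refine ha c ?_
  have e : c⁻¹ * (a * w) * c = c⁻¹ * a * c * w := by
    rw [show c⁻¹ * (a * w) * c = c⁻¹ * a * (w * c) by group, (h.z_comm hw c).eq]; group
  rw [e] at hc
  exact (mul_mem_cancel_right (h.z_mem_Rx hw)).mp hc

/-- Elements of order dividing three in `Rx x` are conjugate there into `C(x)`. -/
theorem three_into_K (h : Six x y t z u s π) {b : C} (hb : b ∈ Rx x) (hb3 : b ^ 3 = 1) :
    ∃ m ∈ Rx x, m⁻¹ * b * m ∈ Cn x := by
  haveI : Fact (Nat.Prime 3) := ⟨Nat.prime_three⟩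
  obtain ⟨P0, hP0⟩ := Sylow.exists_subgroup_card_pow_prime (G := ↥(Cn x)) 3 (n := 3)
    (by rw [h.kcard]; norm_num)
  set P := (P0.map (Cn x).subtype).subgroupOf (Rx x) with hP
  have hle : P0.map (Cn x).subtype ≤ Rx x :=
    (Subgroup.map_subtype_le _).trans (h.K_le_Mx.trans le_sup_left)
  have hPcard : Nat.card P = 3 ^ 3 := by
    rw [Nat.card_congr (Subgroup.subgroupOfEquivOfLe hle).toEquiv, ← hP0]
    exact (Nat.card_congr (P0.equivMapOfInjective _ (Subgroup.subtype_injective _)).toEquiv).symm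
  have hidx : ¬ 3 ∣ P.index := by
    have h1 := P.card_mul_index
    rw [hPcard, h.card_Rx] at h1
    intro ⟨k, hk⟩
    rw [hk] at h1
    omega
  let S := (IsPGroup.of_card hPcard).toSylow hidx
  have hbp : IsPGroup 3 ↥(Subgroup.zpowers (⟨b, hb⟩ : ↥(Rx x))) := by
    rintro ⟨_, i, rfl⟩
    refine ⟨1, Subtype.ext (Subtype.ext ?_)⟩
    simp only [pow_one, Subgroup.coe_pow, Subgroup.coe_zpow, Subgroup.coe_one]
    rw [← zpow_natCast, ← zpow_mul, mul_comm, zpow_mul, zpow_natCast, hb3, one_zpow]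
  obtain ⟨T, hT⟩ := hbp.exists_le_sylow
  obtain ⟨m, hm⟩ := MulAction.exists_smul_eq ↥(Rx x) T S
  refine ⟨((m : C))⁻¹, inv_mem m.2, ?_⟩
  have hmem : m * ⟨b, hb⟩ * m⁻¹ ∈ P := by
    have h1 : (MulAut.conj m) • (T : Subgroup ↥(Rx x)) = (S : Subgroup ↥(Rx x)) := by rw [← hm]; rfl
    rw [show P = (S : Subgroup ↥(Rx x)) from (IsPGroup.toSylow_coe _ _).symm, ← h1]
    exact ⟨_, hT (Subgroup.mem_zpowers _), rfl⟩
  rw [hP, Subgroup.mem_subgroupOf] at hmem
  obtain ⟨k, -, hk⟩ := hmem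
  rw [inv_inv]
  have : ((Cn x).subtype k : C) = (m : C) * b * (m : C)⁻¹ := hk
  exact this ▸ k.2

theorem line_ne (h : Six x y t z u s π) (d : C) {a : C} (ha : a ∈ Subgroup.zpowers x) :
    d * y * d⁻¹ ≠ a := by
  intro e
  haveI := h.eNormal
  have h1 := card_conj_line (pCore 2 C) d y
  rw [e, h.U_card] at h1
  rcases h.zpx ha with rfl | rfl | rfl
  · have : y = 1 := by simpa [mul_inv_eq_one] using e
    have h3 := h.hy; rw [this, orderOf_one] at h3; omega
  · rw [h.CE_x, h.zpow_z_card] at h1; omega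
  · rw [cn_inv, h.CE_x, h.zpow_z_card] at h1; omega

theorem fixes_y (h : Six x y t z u s π) : Fixes x y := by
  intro c hc
  have hc3 : (c⁻¹ * y * c) ^ 3 = 1 := by
    rw [show c⁻¹ * y * c = MulAut.conj c⁻¹ y by simp, ← map_pow, h.y3, map_one]
  obtain ⟨m, hm, hk⟩ := h.three_into_K hc hc3
  have hk3 : (m⁻¹ * (c⁻¹ * y * c) * m) ^ 3 = 1 := by
    rw [show m⁻¹ * (c⁻¹ * y * c) * m = MulAut.conj m⁻¹ (c⁻¹ * y * c) by simp, ← map_pow, hc3, map_one]
  rcases h.cls _ (mem_cn.mp hk) hk3 with hx' | ⟨k, hk', e⟩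
  · exfalso
    refine h.line_ne (c * m)⁻¹ hx' ?_
    group
  · have hmem : k * (c * m)⁻¹ ∈ Cn y := by
      rw [mem_cn']
      conv_rhs => rw [← e]
      group
    have h1 := h.Cy_eq.1 hmem
    have hkR : k ∈ Rx x := Subgroup.mem_sup_left (h.K_le_Mx (mem_cn.mpr hk'))
    have := mul_mem (inv_mem h1) hkR
    rw [show (k * (c * m)⁻¹)⁻¹ * k = c * m by group] at this
    exact (mul_mem_cancel_right hm).mp this

theorem fixes_x (h : Six x y t z u s π) {a : C} (ha : a ∈ Subgroup.zpowers x) (ha1 : a ≠ 1) :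
    Fixes x a := by
  intro c hc
  have ha3 : a ^ 3 = 1 := by
    obtain ⟨i, rfl⟩ := ha
    change (x ^ i) ^ 3 = 1
    rw [← zpow_natCast, ← zpow_mul, mul_comm, zpow_mul, zpow_natCast, h.x3, one_zpow]
  have hc3 : (c⁻¹ * a * c) ^ 3 = 1 := by
    rw [show c⁻¹ * a * c = MulAut.conj c⁻¹ a by simp, ← map_pow, ha3, map_one]
  obtain ⟨m, hm, hk⟩ := h.three_into_K hc hc3
  have hk3 : (m⁻¹ * (c⁻¹ * a * c) * m) ^ 3 = 1 := by
    rw [show m⁻¹ * (c⁻¹ * a * c) * m = MulAut.conj m⁻¹ (c⁻¹ * a * c) by simp, ← map_pow, hc3,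
      map_one]
  rcases h.cls _ (mem_cn.mp hk) hk3 with hx' | ⟨k, -, e⟩
  · have ea : (c * m) * (m⁻¹ * (c⁻¹ * a * c) * m) * (c * m)⁻¹ = a := by group
    have key : (c * m) * x * (c * m)⁻¹ = x ∨ (c * m) * x * (c * m)⁻¹ = x⁻¹ := by
      have hax : a = x ∨ a = x⁻¹ := (h.zpx ha).resolve_left ha1
      rcases h.zpx hx' with e | e | e <;> rw [e] at ea
      · exact absurd (by rw [← ea]; group) ha1
      · rw [ea]; exact hax
      · have e2 : (c * m) * x * (c * m)⁻¹ = a⁻¹ := by rw [← ea]; group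
        rw [e2]
        rcases hax with e3 | e3 <;> rw [e3]
        · exact Or.inr rfl
        · exact Or.inl (inv_inv x)
    have := Subgroup.mem_sup_left (T := pCore 2 C) (h.mem_Mx.mpr key)
    exact (mul_mem_cancel_right hm).mp this
  · exfalso
    refine h.line_ne ((c * m) * k⁻¹) ha ?_
    rw [← e]; group

/-- Every nontrivial element of order three of `C(x)` moves all other cosets. -/
theorem fixes_three (h : Six x y t z u s π) {a : C} (hax : a ∈ Cn x) (ha3 : a ^ 3 = 1) (ha : a ≠ 1) :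
    Fixes x a := by
  rcases h.cls a (mem_cn.mp hax) ha3 with h1 | ⟨k, hk, e⟩
  · exact h.fixes_x h1 ha
  · rw [show a = k⁻¹ * y * k⁻¹⁻¹ by rw [← e]; group]
    exact h.fixes_y.conj (inv_mem (Subgroup.mem_sup_left (h.K_le_Mx (mem_cn.mpr hk))))

/-- Elements of `C(x)` whose square is in `⟨z⟩` and whose image is nontrivial. -/
theorem inv_class (h : Six x y t z u s π) {m : C} (hm : m ∈ Cn x) (hsq : m * m ∈ Subgroup.zpowers z)
    (hne : π ⟨m, hm⟩ ≠ 1) :
    ∃ k ∈ Cn x, ∃ w ∈ Subgroup.zpowers z, m = k * t * k⁻¹ * w := by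
  set T : ↥(Cn x) := ⟨t, mem_cn.mpr h.tx⟩ with hT
  set m' : ↥(Cn x) := ⟨m, hm⟩ with hm'
  have htt : t * t = 1 := by rw [← pow_two, ← h.ht, pow_orderOf_eq_one]
  have ho : ∀ a : ↥(Cn x), π a ≠ 1 → π (a * a) = 1 → orderOf (π a) = 2 := fun a h1 h2 =>
    orderOf_eq_prime (by rw [pow_two, ← map_mul, h2]) h1
  have hoT : orderOf (π T) = 2 := ho T (h.t_out _)
    (by rw [show T * T = 1 from Subtype.ext htt, map_one])
  have hom : orderOf (π m') = 2 := ho m' hne
    ((h.ker _).mpr ⟨1, one_mem _, m * m, hsq, (one_mul _).symm⟩)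
  have hin : ∀ a, π a ∈ inn := fun a => h.range ▸ ⟨a, rfl⟩
  obtain ⟨c, hc, hcm⟩ := autFacts.conj_involution _ (hin T) _ (hin m') hoT hom
  obtain ⟨k, rfl⟩ := (h.range.symm ▸ hc : c ∈ π.range)
  have hw1 : π ((k * T * k⁻¹)⁻¹ * m') = 1 := by
    rw [map_mul, map_inv, map_mul, map_mul, map_inv, hcm, inv_mul_cancel]
  obtain ⟨a, ha, b, hb, e⟩ := (h.ker _).mp hw1
  set w : C := ((k : C) * t * (k : C)⁻¹)⁻¹ * m with hw
  have e' : w = a * b := e
  refine ⟨k, k.2, w, ?_, by rw [hw, mul_inv_cancel_left]⟩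
  have hwc : Commute ((k : C) * t * (k : C)⁻¹) w := by
    rw [e']
    refine Commute.mul_right ?_ ((h.z_comm hb _).symm)
    obtain ⟨i, rfl⟩ := ha
    exact (mem_cn.mp (((Cn x).mul_mem ((Cn x).mul_mem k.2 (mem_cn.mpr h.tx)) ((Cn x).inv_mem k.2)))).zpow_right i
  refine h.two_ker (c := w) ((Cn x).mul_mem ((Cn x).inv_mem ((Cn x).mul_mem ((Cn x).mul_mem k.2
    (mem_cn.mpr h.tx)) ((Cn x).inv_mem k.2))) hm) hw1 (n := 2) ?_
  have hT2 : ((k : C) * t * (k : C)⁻¹) * ((k : C) * t * (k : C)⁻¹) = 1 := by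
    rw [show (k : C) * t * (k : C)⁻¹ * ((k : C) * t * (k : C)⁻¹) = (k : C) * (t * t) * (k : C)⁻¹ by
      group, htt, mul_one, mul_inv_cancel]
  have hmm : m * m = w * w := by
    rw [show m = ((k : C) * t * (k : C)⁻¹) * w by rw [hw, mul_inv_cancel_left],
      hwc.symm.mul_mul_mul_comm, hT2, one_mul]
  rw [show (2 : ℕ) ^ 2 = 2 * 2 from rfl, pow_mul, pow_two, pow_two, ← hmm]
  rcases h.z_cases hsq with e1 | e1 <;> rw [e1]
  · exact one_mul 1
  · exact h.zz

/-- The elements with trivial action are those of the core. -/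
theorem base (h : Six x y t z u s π) : Base z (pCore 2 C) where
  normal := h.eNormal
  central := h.z_central
  mem := h.z_mem
  sq := h.zz
  card := h.card_core
  centre q hq hc := h.z_cases (h.core_centre ▸
    ⟨hq, Subgroup.mem_centralizer_iff.mpr fun e he => (hc e he).eq⟩)
  conj _ hq _ hv := h.comm_cases hq hv
  square _ hq := h.sq_cases hq
  self_centralizing := h.self
  card_centre := h.extraspecial.2

theorem core_max (_h : Six x y t z u s π) :
    ∀ R : Subgroup C, R.Normal → IsPGroup 2 R → R ≤ pCore 2 C := fun R hR hp => by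
  haveI := hR
  exact Cores.le_pCore hp

end Six

end Cfsg.Agent.Lib.J4Six76
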