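import Cfsg.Agent.Lib.J4Six76.Final
import Cfsg.Agent.Lib.J4Six76.Cover

/-!
# From a sixfold cover centraliser and failure of 3-normality to the configuration
-/

set_option autoImplicit false
set_option linter.style.haveILetI false

namespace Cfsg.Agent.Lib.J4Six76

open Cfsg Cfsg.Agent.Lib.J4Local
open scoped Pointwise commutatorElement

variable {G : Type*} [Group G] [Finite G]

/-- The failure of 3-normality gives a conjugate `y` of `x` in `P` outside `⟨x⟩`. -/
theorem exists_fused {x z : G} {π : ↥(Cn x) →* AutM22} (K : Cover x z π) {P : Subgroup G}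
    (hPc : Nat.card P = 3 ^ 3) (hxP : x ∈ P) (hPK : P ≤ Cn x)
    (hcen : ∀ c ∈ P, (∀ p ∈ P, Commute p c) → c ∈ Subgroup.zpowers x) (h81 : ¬ 81 ∣ Nat.card G)
    (S : Sylow 3 G) (g : G)
    (hng : ((Subgroup.center ↥(S : Subgroup G)).map (S : Subgroup G).subtype).map
      (MulAut.conj g).toMonoidHom ≤ (S : Subgroup G))
    (hne : ((Subgroup.center ↥(S : Subgroup G)).map (S : Subgroup G).subtype).map
      (MulAut.conj g).toMonoidHom ≠ ((Subgroup.center ↥(S : Subgroup G)).map (S : Subgroup G).subtype)) :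
    ∃ d : G, d * x * d⁻¹ ∈ P ∧ d * x * d⁻¹ ∉ Subgroup.zpowers x := by
  haveI : Fact (Nat.Prime 3) := ⟨Nat.prime_three⟩
  have hidx : ¬ 3 ∣ P.index := by
    intro ⟨k, hk⟩
    apply h81
    rw [← P.card_mul_index, hPc, hk]
    exact ⟨k, by ring⟩
  let SP := (IsPGroup.of_card hPc).toSylow hidx
  obtain ⟨h, hh⟩ := MulAction.exists_smul_eq G SP S
  have hS : (S : Subgroup G) = MulAut.conj h • P := by
    have : (S : Subgroup G) = MulAut.conj h • (SP : Subgroup G) := by rw [← hh]; rfl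
    exact this
  have hmem : ∀ a, a ∈ (S : Subgroup G) ↔ h⁻¹ * a * h ∈ P := fun a => by
    rw [hS, Coprime.mem_conj_smul]
  set Z := (Subgroup.center ↥(S : Subgroup G)).map (S : Subgroup G).subtype with hZ
  have hZeq : Z = Subgroup.zpowers (h * x * h⁻¹) := by
    refine le_antisymm ?_ ?_
    · rintro _ ⟨c, hc, rfl⟩
      have h1 : h⁻¹ * (c : G) * h ∈ Subgroup.zpowers x := by
        refine hcen _ ((hmem c).mp c.2) fun p hp => ?_
        have hpS : h * p * h⁻¹ ∈ (S : Subgroup G) := (hmem _).mpr (by simpa [mul_assoc] using hp)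
        have h2 : Commute (h * p * h⁻¹) (c : G) :=
          congrArg Subtype.val (Subgroup.mem_center_iff.mp hc ⟨_, hpS⟩)
        simpa [mul_assoc] using h2.map (MulAut.conj h⁻¹)
      obtain ⟨i, hi⟩ := h1
      refine ⟨i, ?_⟩
      change (h * x * h⁻¹) ^ i = (c : G)
      rw [conj_zpow, show x ^ i = h⁻¹ * (c : G) * h from hi]
      group
    · rw [Subgroup.zpowers_le]
      have hxS : h * x * h⁻¹ ∈ (S : Subgroup G) := (hmem _).mpr (by simpa [mul_assoc] using hxP)
      refine ⟨⟨_, hxS⟩, Subgroup.mem_center_iff.mpr fun p => Subtype.ext ?_, rfl⟩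
      have h2 := (mem_cn.mp (hPK ((hmem p).mp p.2))).map (MulAut.conj h)
      exact (by simpa [mul_assoc] using h2 : Commute (p : G) (h * x * h⁻¹)).eq
  rw [hZeq, MonoidHom.map_zpowers] at hng hne
  refine ⟨h⁻¹ * g * h, ?_, fun hy => ?_⟩
  · have h1 := (hmem _).mp (hng (Subgroup.mem_zpowers _))
    simpa [mul_assoc] using h1
  · apply hne
    refine Subgroup.eq_of_le_of_card_ge ?_ ?_
    · rw [Subgroup.zpowers_le]
      obtain ⟨i, hi⟩ := hy
      refine ⟨i, ?_⟩
      change (h * x * h⁻¹) ^ i = g * (h * x * h⁻¹) * g⁻¹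
      rw [conj_zpow, show x ^ i = h⁻¹ * g * h * x * (h⁻¹ * g * h)⁻¹ from hi]
      group
    · rw [Nat.card_zpowers, Nat.card_zpowers]
      exact le_of_eq (MulEquiv.orderOf_eq (MulAut.conj g) (h * x * h⁻¹)).symm

/-- The part of the configuration living in `G`. -/
theorem exists_elements {x z : G} {π : ↥(Cn x) →* AutM22} (K : Cover x z π) {P : Subgroup G}
    (hPc : Nat.card P = 3 ^ 3) (hPK : P ≤ Cn x) (hxP : x ∈ P)
    (hcen : ∀ c ∈ P, (∀ p ∈ P, Commute p c) → c ∈ Subgroup.zpowers x) {d : G}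
    (hdP : d * x * d⁻¹ ∈ P) (hdx : d * x * d⁻¹ ∉ Subgroup.zpowers x) :
    ∃ u s : G, u * x * u⁻¹ = x⁻¹ ∧ Commute u (d * x * d⁻¹) ∧ Commute u z ∧ Commute s x ∧
      s * (d * x * d⁻¹) * s⁻¹ = d * x * d⁻¹ * x ∧
      (∀ a : G, Commute a x → a ^ 3 = 1 →
        a ∈ Subgroup.zpowers x ∨ ∃ k : G, Commute k x ∧ k * a * k⁻¹ = d * x * d⁻¹) := by
  haveI : Fact (Nat.Prime 3) := ⟨Nat.prime_three⟩
  set y := d * x * d⁻¹ with hy
  clear_value y
  have hy3 : y ^ 3 = 1 := by rw [hy, conj_pow, K.x3, mul_one, mul_inv_cancel]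
  have hord : ∀ a (ha : a ∈ Cn x), a ^ 3 = 1 → a ∉ Subgroup.zpowers x → orderOf (π ⟨a, ha⟩) = 3 := by
    intro a ha ha3 hax
    refine orderOf_eq_prime ?_ fun h1 => hax (K.odd_ker ha h1 ⟨1, by norm_num⟩ ha3)
    rw [← map_pow, show (⟨a, ha⟩ : ↥(Cn x)) ^ 3 = 1 from Subtype.ext (by simpa using ha3), map_one]
  have hyK : y ∈ Cn x := hPK hdP
  -- the element moving `y` to `y * x`
  obtain ⟨p, hp, hpy⟩ : ∃ p ∈ P, ¬ Commute p y := by
    by_contra hall
    push_neg at hall
    exact hdx (hcen y hdP hall)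
  set w := p * y * p⁻¹ * y⁻¹ with hw
  let f : ↥P →* AutM22 := π.comp (Subgroup.inclusion hPK)
  have hodd : ∀ q ∈ P, q ^ 27 = 1 := fun q hq => by
    have := pow_card_eq_one' (x := (⟨q, hq⟩ : P))
    rw [hPc] at this
    exact congrArg Subtype.val this
  have hker : f.ker = (Subgroup.zpowers x).subgroupOf P := by
    ext q
    rw [MonoidHom.mem_ker, Subgroup.mem_subgroupOf]
    constructor
    · intro h1
      exact K.odd_ker (hPK q.2) h1 ⟨13, by norm_num⟩ (hodd q q.2)
    · intro hq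
      exact (K.ker _).mpr ⟨(q : G), hq, 1, one_mem _, (mul_one _).symm⟩
  have hrange : Nat.card f.range = 3 ^ 2 := by
    have h1 := Subgroup.card_mul_index f.ker
    rw [Subgroup.index_ker, hker, hPc, Nat.card_congr (Subgroup.subgroupOfEquivOfLe
      (Subgroup.zpowers_le.mpr hxP)).toEquiv, Nat.card_zpowers, K.hx] at h1
    omega
  have hwx : w ∈ Subgroup.zpowers x := by
    have h1 : f (⟨p, hp⟩ * ⟨y, hdP⟩ * (⟨p, hp⟩ : ↥P)⁻¹ * (⟨y, hdP⟩ : ↥P)⁻¹) = 1 := by
      have h2 := IsPGroup.commutative_of_card_eq_prime_sq hrange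
        ⟨f ⟨p, hp⟩, _, rfl⟩ ⟨f ⟨y, hdP⟩, _, rfl⟩
      have h3 : f ⟨p, hp⟩ * f ⟨y, hdP⟩ = f ⟨y, hdP⟩ * f ⟨p, hp⟩ := congrArg Subtype.val h2
      rw [map_mul, map_mul, map_mul, map_inv, map_inv, h3, mul_inv_cancel_right, mul_inv_cancel]
    have h4 : (⟨p, hp⟩ * ⟨y, hdP⟩ * (⟨p, hp⟩ : ↥P)⁻¹ * (⟨y, hdP⟩ : ↥P)⁻¹ : ↥P) ∈ f.ker := h1
    rw [hker, Subgroup.mem_subgroupOf] at h4
    exact h4
  have hw1 : w ≠ 1 := fun e => hpy (mul_inv_eq_iff_eq_mul.mp (mul_inv_eq_one.mp e))
  have hyx : Commute y x := mem_cn.mp hyK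
  obtain ⟨s, hs, hsy⟩ : ∃ s : G, Commute s x ∧ s * y * s⁻¹ = y * x := by
    have hpx : Commute p x := mem_cn.mp (hPK hp)
    obtain ⟨i, hi⟩ := Subgroup.mem_zpowers_iff.mp hwx
    rw [← zpow_mod_orderOf, K.hx] at hi
    rcases (show i % ((3 : ℕ) : ℤ) = 0 ∨ i % ((3 : ℕ) : ℤ) = 1 ∨ i % ((3 : ℕ) : ℤ) = 2 by omega)
      with e | e | e <;> rw [e] at hi
    · rw [zpow_zero] at hi; exact absurd hi.symm hw1
    · rw [zpow_one] at hi
      refine ⟨p, hpx, ?_⟩
      rw [hyx.eq, hi, hw, inv_mul_cancel_right]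
    · refine ⟨p⁻¹, hpx.inv_left, ?_⟩
      rw [inv_inv]
      have hx2 : w = x⁻¹ := by
        rw [← hi, show (2 : ℤ) = ((2 : ℕ) : ℤ) from rfl, zpow_natCast]
        exact eq_inv_of_mul_eq_one_left (by rw [← pow_succ, K.x3])
      have e1 : p * y * p⁻¹ = x⁻¹ * y := by rw [← hx2, hw, inv_mul_cancel_right]
      have e2 : y = x⁻¹ * (p⁻¹ * y * p) := by
        calc y = p⁻¹ * (p * y * p⁻¹) * p := by group
          _ = p⁻¹ * x⁻¹ * y * p := by rw [e1]; group
          _ = x⁻¹ * p⁻¹ * y * p := by rw [hpx.inv_inv.eq]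
          _ = x⁻¹ * (p⁻¹ * y * p) := by group
      rw [hyx.eq]
      exact (inv_mul_eq_iff_eq_mul.mp e2.symm)
  -- all elements of order three are fused
  have hcls : ∀ a : G, Commute a x → a ^ 3 = 1 →
      a ∈ Subgroup.zpowers x ∨ ∃ k : G, Commute k x ∧ k * a * k⁻¹ = y := by
    intro a hax ha3
    by_cases haz : a ∈ Subgroup.zpowers x
    · exact Or.inl haz
    right
    have haK : a ∈ Cn x := mem_cn.mpr hax
    obtain ⟨k, hk, v, hv, e⟩ := K.fuse hyK haK (hodd y hdP)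
      (by rw [show (27 : ℕ) = 3 * 9 from rfl, pow_mul, ha3, one_pow]) (hord y hyK hy3 hdx)
      (hord a haK ha3 haz)
    obtain ⟨i, hi⟩ := Subgroup.mem_zpowers_iff.mp hv
    rw [← zpow_mod_orderOf, K.hx] at hi
    have hk' : Commute k x := mem_cn.mp hk
    rcases (show i % ((3 : ℕ) : ℤ) = 0 ∨ i % ((3 : ℕ) : ℤ) = 1 ∨ i % ((3 : ℕ) : ℤ) = 2 by omega)
      with e1 | e1 | e1 <;> rw [e1] at hi
    · rw [zpow_zero] at hi
      exact ⟨k, hk', by rw [e, ← hi, mul_one]⟩
    · rw [zpow_one] at hi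
      refine ⟨s⁻¹ * k, hs.inv_left.mul_left hk', ?_⟩
      rw [show s⁻¹ * k * a * (s⁻¹ * k)⁻¹ = s⁻¹ * (k * a * k⁻¹) * s by group, e, ← hi, ← hsy]
      group
    · have hv2 : v = x⁻¹ := by
        rw [← hi, show (2 : ℤ) = ((2 : ℕ) : ℤ) from rfl, zpow_natCast]
        exact eq_inv_of_mul_eq_one_left (by rw [← pow_succ, K.x3])
      refine ⟨s * k, hs.mul_left hk', ?_⟩
      rw [show s * k * a * (s * k)⁻¹ = s * (k * a * k⁻¹) * s⁻¹ by group, e, hv2,
        show s * (y * x⁻¹) * s⁻¹ = (s * y * s⁻¹) * (s * x * s⁻¹)⁻¹ by group, hsy, hs.eq,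
        mul_inv_cancel_right, mul_inv_cancel_right]
  -- the inverter
  obtain ⟨k, hkx, hk⟩ := (hcls y⁻¹ hyx.inv_left (by rw [inv_pow, hy3, inv_one])).resolve_left
    (fun h1 => hdx (inv_mem_iff.mp h1))
  set v := d⁻¹ * k * d with hv
  have hvx : v * x * v⁻¹ = x⁻¹ := by
    rw [hv, show d⁻¹ * k * d * x * (d⁻¹ * k * d)⁻¹ = d⁻¹ * (k * y * k⁻¹) * d by rw [hy]; group,
      show k * y * k⁻¹ = (k * y⁻¹ * k⁻¹)⁻¹ by group, hk, hy]
    group
  have hvy : Commute (v * y * v⁻¹) x := by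
    have h1 := hyx.inv_right.map (MulAut.conj v)
    rw [MulAut.conj_apply, MulAut.conj_apply, show v * x⁻¹ * v⁻¹ = (v * x * v⁻¹)⁻¹ by group, hvx,
      inv_inv] at h1
    exact h1
  obtain ⟨k2, hk2x, hk2⟩ := (hcls _ hvy (by rw [conj_pow, hy3, mul_one, mul_inv_cancel])).resolve_left
    (fun h1 => hdx (by
      obtain ⟨i, hi⟩ := h1
      refine ⟨-i, ?_⟩
      change x ^ (-i) = y
      have hinv : v⁻¹ * x * v = x⁻¹ := by
        have h2 : v⁻¹ * (v * x * v⁻¹)⁻¹ * v = x⁻¹ := by group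
        rwa [hvx, inv_inv] at h2
      have e2 := conj_zpow (a := v⁻¹) (b := x) (i := i)
      rw [inv_inv, hinv] at e2
      rw [zpow_neg, ← inv_zpow, e2, show x ^ i = v * y * v⁻¹ from hi]
      group))
  refine ⟨k2 * v, s, ?_, ?_, ?_, hs, hsy, hcls⟩
  · rw [show k2 * v * x * (k2 * v)⁻¹ = k2 * (v * x * v⁻¹) * k2⁻¹ by group, hvx,
      hk2x.inv_right.eq, mul_inv_cancel_right]
  · rw [commute_iff_eq, ← mul_inv_eq_iff_eq_mul]
    conv_rhs => rw [← hk2]
    group
  · set u := k2 * v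
    have hux : u * x * u⁻¹ = x⁻¹ := by
      rw [show k2 * v * x * (k2 * v)⁻¹ = k2 * (v * x * v⁻¹) * k2⁻¹ by group, hvx,
        hk2x.inv_right.eq, mul_inv_cancel_right]
    have huK : ∀ q : G, q ∈ Cn x → u * q * u⁻¹ ∈ Cn x := fun q hq => by
      have := conj_mem_cn (d := u) hq
      rwa [hux, cn_inv] at this
    have h1 : u * z * u⁻¹ = z := by
      refine K.z_uniq _ (huK z (mem_cn.mpr K.zx)) (fun q hq => ?_) ?_
      · have hq' : u⁻¹ * q * u ∈ Cn x := by
          have := conj_mem_cn (d := u⁻¹) hq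
          rw [inv_inv] at this
          have hinv : u⁻¹ * x * u = x⁻¹ := by
            have h2 : u⁻¹ * (u * x * u⁻¹)⁻¹ * u = x⁻¹ := by group
            rwa [hux, inv_inv] at h2
          rwa [hinv, cn_inv] at this
        have := (K.zc _ hq').map (MulAut.conj u)
        simpa [mul_assoc] using this
      · rw [← K.hz]; exact MulEquiv.orderOf_eq (MulAut.conj u) z
    exact mul_inv_eq_iff_eq_mul.mp h1

/-- Failure of 3-normality with a perfect sixfold cover of M22 as centraliser gives Janko-four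
type at the central involution, as soon as its centraliser is 2-constrained with trivial odd core. -/
theorem janko_of_sixfold (x : G) (hx : orderOf x = 3)
    (hperf : ⁅(⊤ : Subgroup ↥(Cn x)), (⊤ : Subgroup ↥(Cn x))⁆ = ⊤)
    (hZ : IsCyclic ↥(Subgroup.center ↥(Cn x))) (hZc : Nat.card ↥(Subgroup.center ↥(Cn x)) = 6)
    (e : ↥(Cn x) ⧸ Subgroup.center ↥(Cn x) ≃* ↥Cfsg.Spor.M22) (S : Sylow 3 G) (g : G)
    (hng : ((Subgroup.center ↥(S : Subgroup G)).map (S : Subgroup G).subtype).map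
      (MulAut.conj g).toMonoidHom ≤ (S : Subgroup G))
    (hne : ((Subgroup.center ↥(S : Subgroup G)).map (S : Subgroup G).subtype).map
      (MulAut.conj g).toMonoidHom ≠ ((Subgroup.center ↥(S : Subgroup G)).map (S : Subgroup G).subtype)) :
    ∃ z : G, orderOf z = 2 ∧
      ((∀ c : ↥(Subgroup.centralizer ({z} : Set G)),
        (∀ q ∈ pCore 2 ↥(Subgroup.centralizer ({z} : Set G)), Commute q c) →
          c ∈ pCore 2 ↥(Subgroup.centralizer ({z} : Set G))) → Cfsg.IsOfJankoFourTypeAt z) := by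
  obtain ⟨z, π, K⟩ := exists_cover x hx hperf hZ hZc e
  refine ⟨z, K.hz, fun hself => ?_⟩
  haveI : Fact (Nat.Prime 2) := ⟨Nat.prime_two⟩
  haveI : Fact (Nat.Prime 3) := ⟨Nat.prime_three⟩
  obtain ⟨P, hPK, hPc, hxP, hcen, h81⟩ := K.exists_sylow
  obtain ⟨d, hdP, hdx⟩ := exists_fused K hPc hxP hPK hcen h81 S g hng hne
  obtain ⟨u, s, hux, huy, huz, hsx, hsy, hcls⟩ := exists_elements K hPc hPK hxP hcen hdP hdx
  set y := d * x * d⁻¹ with hy
  set t := d * z * d⁻¹ with ht
  have hKC : Cn x ≤ Cn z := fun k hk => mem_cn.mpr (K.zc k hk)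
  have hyK : y ∈ Cn x := hPK hdP
  have hty : ∀ c : G, Commute c y → Commute c t := by
    intro c hc
    have h1 : d⁻¹ * c * d ∈ Cn x := mem_cn.mpr (by simpa [hy, mul_assoc] using hc.map (MulAut.conj d⁻¹))
    have h2 := (K.zc _ h1).map (MulAut.conj d)
    simpa [ht, mul_assoc] using h2
  have htz : Commute t z := (hty z (K.zc y hyK).symm).symm
  have htx : Commute t x := (hty x (mem_cn.mp hyK).symm).symm
  set C := Subgroup.centralizer ({z} : Set G) with hC
  let xC : ↥C := ⟨x, mem_cn.mpr K.zx.symm⟩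
  let yC : ↥C := ⟨y, hKC hyK⟩
  let tC : ↥C := ⟨t, mem_cn.mpr htz⟩
  let zC : ↥C := ⟨z, mem_cn.mpr (Commute.refl z)⟩
  let uC : ↥C := ⟨u, mem_cn.mpr huz⟩
  let sC : ↥C := ⟨s, hKC (mem_cn.mpr hsx)⟩
  let ι : ↥(Cn xC) →* ↥(Cn x) := MonoidHom.mk'
    (fun k => ⟨((k : ↥C) : G), mem_cn.mpr (congrArg Subtype.val (mem_cn.mp k.2).eq)⟩)
    (fun _ _ => rfl)
  have hιi : Function.Injective ι := fun a b e' =>
    Subtype.ext (Subtype.ext (congrArg (fun k : ↥(Cn x) => (k : G)) e'))
  have hιs : Function.Surjective ι := fun k =>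
    ⟨⟨⟨k, hKC k.2⟩, mem_cn.mpr (Subtype.ext (mem_cn.mp k.2).eq)⟩, rfl⟩
  have hzC : ∀ c : ↥C, Commute c zC := fun c => Subtype.ext (mem_cn.mp c.2).eq
  have hkerC : ∀ k : ↥(Cn xC), π (ι k) = 1 ↔
      ∃ a ∈ Subgroup.zpowers xC, ∃ b ∈ Subgroup.zpowers zC, (k : ↥C) = a * b := by
    intro k
    rw [K.ker]
    constructor
    · rintro ⟨a, ⟨i, rfl⟩, b, ⟨j, rfl⟩, e'⟩
      exact ⟨xC ^ i, ⟨i, rfl⟩, zC ^ j, ⟨j, rfl⟩, Subtype.ext (by simpa [xC, zC, ι] using e')⟩
    · rintro ⟨a, ⟨i, rfl⟩, b, ⟨j, rfl⟩, e'⟩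
      exact ⟨x ^ i, ⟨i, rfl⟩, z ^ j, ⟨j, rfl⟩, by simpa [xC, zC, ι] using congrArg Subtype.val e'⟩
  -- `t` is not `z`
  have htne : t ≠ z := by
    intro etz
    have hdz : Commute d z := mul_inv_eq_iff_eq_mul.mp etz
    let dC : ↥C := ⟨d, mem_cn.mpr hdz⟩
    haveI : (pCore 2 ↥C).Normal := inferInstance
    set E := pCore 2 ↥C with hE
    have hE2 : IsPGroup 2 ↥E := Cores.pCore_isPGroup 2
    have hEx : E ⊓ Cn xC ≤ Subgroup.zpowers zC := by
      set N : Subgroup AutM22 := (E.subgroupOf (Cn xC)).map (π.comp ι) with hN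
      have hrange : (π.comp ι).range = inn := by
        rw [MonoidHom.range_comp, MonoidHom.range_eq_top.mpr hιs, ← MonoidHom.range_eq_map, K.range]
      have hNi : N ≤ inn := hrange ▸ Subgroup.map_le_range _ _
      have hnorm : (N.subgroupOf inn).Normal := by
        refine ⟨fun n hn g' => ?_⟩
        rw [Subgroup.mem_subgroupOf] at hn ⊢
        obtain ⟨k, hk, hk'⟩ := hn
        obtain ⟨c, hc⟩ := (hrange.symm ▸ g'.2 : (g' : AutM22) ∈ (π.comp ι).range)
        refine ⟨c * k * c⁻¹, Subgroup.Normal.conj_mem inferInstance k hk c, ?_⟩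
        simp only [map_mul, map_inv, hk', hc, Subgroup.coe_mul, Subgroup.coe_inv]
      haveI := autFacts.simple
      rcases hnorm.eq_bot_or_eq_top with hb | ht'
      · rw [Subgroup.subgroupOf_eq_bot, disjoint_iff, inf_eq_left.mpr hNi] at hb
        intro c hc
        have h1 : (π.comp ι) ⟨c, hc.2⟩ ∈ N := ⟨⟨c, hc.2⟩, hc.1, rfl⟩
        rw [hb, Subgroup.mem_bot] at h1
        obtain ⟨a, ha, b, hb', e'⟩ := (hkerC ⟨c, hc.2⟩).mp h1
        have e'' : c = a * b := e'
        have ha2 : a ∈ E := by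
          have hzE : Subgroup.zpowers zC ≤ E := by
            haveI : (Subgroup.zpowers zC).Normal := ⟨fun b' hb'' c' => by
              obtain ⟨i, rfl⟩ := hb''
              change c' * zC ^ i * c'⁻¹ ∈ _
              rw [((hzC c').zpow_right i).eq, mul_inv_cancel_right]
              exact ⟨i, rfl⟩⟩
            refine Cores.le_pCore (IsPGroup.of_card (n := 1) ?_)
            rw [Nat.card_zpowers, Subgroup.orderOf_mk, K.hz, pow_one]
          have h2 := E.mul_mem (Subgroup.mem_inf.mp hc).1 (E.inv_mem (hzE hb'))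
          rwa [e'', mul_inv_cancel_right] at h2
        have ha1 : a = 1 := by
          obtain ⟨n, hn⟩ := hE2 ⟨a, ha2⟩
          have hn' : a ^ 2 ^ n = 1 := congrArg Subtype.val hn
          have h3 : a ^ 3 = 1 := by
            obtain ⟨i, rfl⟩ := ha
            refine Subtype.ext ?_
            simpa [xC] using K.zpx (⟨i, rfl⟩ : x ^ i ∈ Subgroup.zpowers x)
          have hg := pow_gcd_eq_one.mpr ⟨h3, hn'⟩
          rwa [Nat.coprime_iff_gcd_eq_one.mp (Nat.Coprime.pow_right n (by norm_num : Nat.Coprime 3 2)),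
            pow_one] at hg
        rw [e'', ha1, one_mul]
        exact hb'
      · rw [Subgroup.subgroupOf_eq_top] at ht'
        exfalso
        obtain ⟨n, hn⟩ := IsPGroup.iff_card.mp
          ((hE2.comap_of_injective (Cn xC).subtype (Cn xC).subtype_injective).map (π.comp ι))
        rw [show Subgroup.map (π.comp ι) (E.comap (Cn xC).subtype) = N from rfl,
          le_antisymm hNi ht', autFacts.card_inn] at hn
        have h11 : 11 ∣ 2 ^ n := hn ▸ (by norm_num : (11 : ℕ) ∣ 443520)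
        have := (Nat.prime_dvd_prime_iff_eq (by norm_num) Nat.prime_two).mp
          ((by norm_num : Nat.Prime 11).dvd_of_dvd_pow h11)
        omega
    have hconj : ∀ (a c : ↥C), E ⊓ Cn a ≤ Subgroup.zpowers zC →
        E ⊓ Cn (c * a * c⁻¹) ≤ Subgroup.zpowers zC := by
      intro a c ha q hq
      have h1 : c⁻¹ * q * c ∈ E ⊓ Cn a := Subgroup.mem_inf.mpr
        ⟨by simpa using Subgroup.Normal.conj_mem inferInstance q hq.1 c⁻¹,
          by simpa [mul_assoc] using conj_mem_cn (d := c⁻¹) hq.2⟩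
      obtain ⟨i, hi⟩ := ha h1
      refine ⟨i, ?_⟩
      change zC ^ i = q
      have hi' : zC ^ i = c⁻¹ * q * c := hi
      have h2 : zC ^ i = c * zC ^ i * c⁻¹ := by rw [((hzC c).zpow_right i).eq, mul_inv_cancel_right]
      rw [h2, hi']; group
    have eyd : yC = dC * xC * dC⁻¹ := Subtype.ext rfl
    have hEy : E ⊓ Cn yC ≤ Subgroup.zpowers zC := eyd ▸ hconj xC dC hEx
    have esy : sC * yC * sC⁻¹ = yC * xC := Subtype.ext hsy
    have hEyx : E ⊓ Cn (yC * xC) ≤ Subgroup.zpowers zC := esy ▸ hconj yC sC hEy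
    have esy2 : sC * (yC * xC) * sC⁻¹ = yC * xC ^ 2 := by
      rw [show sC * (yC * xC) * sC⁻¹ = (sC * yC * sC⁻¹) * (sC * xC * sC⁻¹) by group, esy,
        show sC * xC * sC⁻¹ = xC from Subtype.ext (by
          change s * x * s⁻¹ = x
          rw [hsx.eq, mul_inv_cancel_right]), pow_two, mul_assoc]
    have hEyx2 : E ⊓ Cn (yC * xC ^ 2) ≤ Subgroup.zpowers zC := esy2 ▸ hconj (yC * xC) sC hEyx
    have h3E : ¬ 3 ∣ Nat.card E := by
      intro h3
      obtain ⟨n, hn⟩ := IsPGroup.iff_card.mp hE2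
      rw [hn] at h3
      have := (Nat.prime_dvd_prime_iff_eq Nat.prime_three Nat.prime_two).mp
        (Nat.prime_three.dvd_of_dvd_pow h3)
      omega
    have hEz : E ≤ Subgroup.zpowers zC := le_lines (e := yC) (f := xC)
      (Subtype.ext (mem_cn.mp hyK).eq) (Subtype.ext (by
        change y ^ 3 = 1
        rw [hy, conj_pow, K.x3, mul_one, mul_inv_cancel])) (Subtype.ext K.x3)
      (mem_normalizer_of_normal E _) (mem_normalizer_of_normal E _) h3E hEx hEy hEyx hEyx2
    have hxE : xC ∈ E := hself xC fun q hq => by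
      obtain ⟨i, rfl⟩ := hEz hq
      exact ((hzC xC).zpow_right i).symm
    obtain ⟨i, hi⟩ := hEz hxE
    have hi' : z ^ i = x := by simpa [xC, zC] using congrArg Subtype.val hi
    have h2 : x ^ 2 = 1 := by
      rw [← hi', ← zpow_natCast, ← zpow_mul, mul_comm, zpow_mul, zpow_natCast, pow_two, K.zz, one_zpow]
    have := orderOf_dvd_of_pow_eq_one h2
    rw [K.hx] at this
    omega
  -- images in `Aut M22`
  have hyord : orderOf (π ⟨y, hyK⟩) = 3 := by
    have hy3 : y ^ 3 = 1 := by rw [hy, conj_pow, K.x3, mul_one, mul_inv_cancel]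
    refine orderOf_eq_prime ?_ fun h1 => hdx (K.odd_ker hyK h1 ⟨1, by norm_num⟩ hy3)
    rw [← map_pow, show (⟨y, hyK⟩ : ↥(Cn x)) ^ 3 = 1 from Subtype.ext (by simpa using hy3), map_one]
  have hto : orderOf t = 2 := by rw [ht, ← K.hz]; exact MulEquiv.orderOf_eq (MulAut.conj d) z
  have invker : ∀ w (hw : w ∈ Cn x), π ⟨w, hw⟩ = 1 → w * w = 1 → w = 1 ∨ w = z := by
    intro w hw h1 hww
    obtain ⟨a, ha, b, hb, e'⟩ := (K.ker _).mp h1
    have e'' : w = a * b := e'
    obtain ⟨hab, hbb⟩ := K.ker_comm ha hb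
    rw [e'', hab.symm.mul_mul_mul_comm, hbb, mul_one] at hww
    have ha1 : a = 1 := by
      have h3 := K.zpx ha
      rwa [pow_succ, pow_two, hww, one_mul] at h3
    rw [e'', ha1, one_mul]
    exact K.zpz hb
  -- the centraliser of `y` inside `C(z)`
  let φ : ↥(Cn yC) →* ↥(Cn x) := MonoidHom.mk'
    (fun c => ⟨d⁻¹ * ((c : ↥C) : G) * d, mem_cn.mpr (by
      have h1 : Commute ((c : ↥C) : G) y := congrArg Subtype.val (mem_cn.mp c.2).eq
      simpa [hy, mul_assoc] using h1.map (MulAut.conj d⁻¹))⟩)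
    (fun a b => Subtype.ext (by simp [mul_assoc]))
  have hφ : Function.Injective φ := fun a b e' => by
    have h1 : d⁻¹ * ((a : ↥C) : G) * d = d⁻¹ * ((b : ↥C) : G) * d := congrArg Subtype.val e'
    exact Subtype.ext (Subtype.ext (mul_left_cancel (mul_right_cancel h1)))
  set z' := d⁻¹ * z * d with hz'
  have hz'K : z' ∈ Cn x := mem_cn.mpr (by
    simpa [hy, hz', mul_assoc] using (K.zc y hyK).symm.map (MulAut.conj d⁻¹))
  have hz'2 : z' * z' = 1 := by
    rw [hz', show d⁻¹ * z * d * (d⁻¹ * z * d) = d⁻¹ * (z * z) * d by group, K.zz, mul_one, inv_mul_cancel]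
  have hz'ne : z' ≠ z := by
    intro e'
    apply htne
    rw [ht]
    nth_rewrite 1 [← e']
    rw [hz']; group
  have hz'out : π ⟨z', hz'K⟩ ≠ 1 := by
    intro h1
    rcases invker z' hz'K h1 hz'2 with e' | e'
    · have : z = 1 := by
        rw [show z = d * z' * d⁻¹ by rw [hz']; group, e']; group
      have h2 := K.hz
      rw [this, orderOf_one] at h2
      omega
    · exact hz'ne e'
  let f : ↥(Cn yC) →* AutM22 := π.comp φ
  have hkerle : ∀ (H : Subgroup ↥(Cn x)), H ≤ π.ker → Nat.card H ≤ 6 := by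
    intro H hH
    refine (Subgroup.card_le_of_le hH).trans (le_of_eq ?_)
    have h1 := Subgroup.card_mul_index π.ker
    rw [Subgroup.index_ker, K.range, autFacts.card_inn, K.card] at h1
    omega
  have hfrange : f.range ≤ inn := by
    rintro _ ⟨c, rfl⟩
    rw [← K.range]; exact ⟨φ c, rfl⟩
  have hcy : Nat.card ↥(Cn yC) ≤ 2304 := by
    have h1 := Subgroup.card_mul_index f.ker
    rw [Subgroup.index_ker] at h1
    have hk : Nat.card f.ker ≤ 6 := by
      rw [Nat.card_congr (f.ker.equivMapOfInjective φ hφ).toEquiv]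
      refine hkerle _ ?_
      rintro _ ⟨c, hc, rfl⟩
      exact hc
    have hr : Nat.card f.range ≤ 384 := by
      have ho : orderOf (π ⟨z', hz'K⟩) = 2 := orderOf_eq_prime (by
        rw [← map_pow, show (⟨z', hz'K⟩ : ↥(Cn x)) ^ 2 = 1 from Subtype.ext (by
          simpa [pow_two] using hz'2), map_one]) hz'out
      rw [← autFacts.cent_involution _ (K.range ▸ ⟨_, rfl⟩) ho]
      refine Subgroup.card_le_of_le ?_
      rintro _ ⟨c, rfl⟩
      refine Subgroup.mem_inf.mpr ⟨hfrange ⟨c, rfl⟩, Subgroup.mem_centralizer_singleton_iff.mpr ?_⟩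
      have h2 : Commute (φ c) ⟨z', hz'K⟩ := by
        refine Subtype.ext ?_
        change d⁻¹ * ((c : ↥C) : G) * d * (d⁻¹ * z * d) = d⁻¹ * z * d * (d⁻¹ * ((c : ↥C) : G) * d)
        rw [show d⁻¹ * ((c : ↥C) : G) * d * (d⁻¹ * z * d) = d⁻¹ * (((c : ↥C) : G) * z) * d by group,
          (mem_cn.mp (c : ↥C).2).eq]
        group
      exact (h2.map π).eq
    rw [← h1]
    exact le_trans (Nat.mul_le_mul hk hr) (by norm_num)
  have hcy2 : ∀ Q : Subgroup ↥C, Q ≤ Cn yC → IsPGroup 2 Q → Nat.card Q ≤ 256 := by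
    intro Q hQ hQ2
    obtain ⟨n, hn⟩ := IsPGroup.iff_card.mp hQ2
    have hd : Nat.card Q ∣ 2661120 := by
      rw [← K.card]
      exact Subgroup.card_dvd_of_injective (φ.comp (Subgroup.inclusion hQ))
        (hφ.comp (Subgroup.inclusion_injective hQ))
    rw [hn] at hd ⊢
    have : n ≤ 8 := by
      by_contra hn9
      have h9 : 2 ^ 9 ∣ 2661120 := (pow_dvd_pow 2 (by omega : 9 ≤ n)).trans hd
      norm_num at h9
    exact le_trans (Nat.pow_le_pow_right (by norm_num) this) (by norm_num)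
  have hexp : ∀ Q : Subgroup ↥C, Q ≤ Cn yC → (∀ q ∈ Q, q * q = 1) → Nat.card Q ≤ 32 := by
    intro Q hQ hQe
    let fQ : ↥Q →* AutM22 := f.comp (Subgroup.inclusion hQ)
    have h1 := Subgroup.card_mul_index fQ.ker
    rw [Subgroup.index_ker] at h1
    have hk : Nat.card fQ.ker ≤ 2 := by
      have hinj : Function.Injective (φ.comp (Subgroup.inclusion hQ)) :=
        hφ.comp (Subgroup.inclusion_injective hQ)
      rw [Nat.card_congr (fQ.ker.equivMapOfInjective _ hinj).toEquiv,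
        Nat.card_congr ((Subgroup.map (φ.comp (Subgroup.inclusion hQ)) fQ.ker).equivMapOfInjective
          (Cn x).subtype (Cn x).subtype_injective).toEquiv]
      refine (Subgroup.card_le_of_le (K := Subgroup.zpowers z) ?_).trans
        (le_of_eq (by rw [Nat.card_zpowers, K.hz]))
      rintro _ ⟨_, ⟨q, hq, rfl⟩, rfl⟩
      have h2 : d⁻¹ * (((q : ↥C)) : G) * d * (d⁻¹ * (((q : ↥C)) : G) * d) = 1 := by
        rw [show d⁻¹ * (((q : ↥C)) : G) * d * (d⁻¹ * (((q : ↥C)) : G) * d) =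
          d⁻¹ * ((((q : ↥C)) : G) * (((q : ↥C)) : G)) * d by group,
          show (((q : ↥C)) : G) * (((q : ↥C)) : G) = 1 from congrArg Subtype.val (hQe q q.2),
          mul_one, inv_mul_cancel]
      rcases invker _ (φ (Subgroup.inclusion hQ q)).2 hq h2 with e' | e'
      · change d⁻¹ * (((q : ↥C)) : G) * d ∈ _
        rw [show d⁻¹ * (((q : ↥C)) : G) * d = 1 from e']; exact one_mem _
      · change d⁻¹ * (((q : ↥C)) : G) * d ∈ _
        rw [show d⁻¹ * (((q : ↥C)) : G) * d = z from e']; exact Subgroup.mem_zpowers z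
    have hr : Nat.card fQ.range ≤ 16 := by
      have hsq : IsExp2 fQ.range := by
        rintro _ ⟨q, rfl⟩
        rw [← map_mul, show q * q = 1 from Subtype.ext (hQe q q.2), map_one]
      have hQp : IsPGroup 2 ↥Q := fun q => ⟨1, Subtype.ext (by
        rw [pow_one, pow_two]; exact hQe q q.2)⟩
      obtain ⟨n, hn⟩ := IsPGroup.iff_card.mp (hQp.to_quotient fQ.ker |>.of_equiv
        (QuotientGroup.quotientKerEquivRange fQ))
      have h32 := autFacts.exp2_card fQ.range hsq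
      rw [hn] at h32 ⊢
      have h5 : n ≤ 5 := (Nat.pow_le_pow_iff_right (by norm_num)).mp (h32 : 2 ^ n ≤ 2 ^ 5)
      rcases (show n ≤ 4 ∨ n = 5 by omega) with h4 | rfl
      · exact le_trans (Nat.pow_le_pow_right (by norm_num) h4) (by norm_num)
      · exfalso
        have h16 := autFacts.exp2_inn fQ.range hsq hn
        rw [inf_eq_left.mpr (show fQ.range ≤ inn by
          rintro _ ⟨q, rfl⟩; exact hfrange ⟨_, rfl⟩), hn] at h16
        norm_num at h16
    rw [← h1]
    exact le_trans (Nat.mul_le_mul hk hr) (by norm_num)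
  -- the centraliser of `⟨x, y⟩`
  have hxy : Nat.card ↥(Cn xC ⊓ Cn yC) = 72 := by
    set R := (inn ⊓ Subgroup.centralizer ({π ⟨y, hyK⟩} : Set AutM22)).comap π with hR
    have hRc : Nat.card R = 216 := by
      let r : ↥R →* ↥(inn ⊓ Subgroup.centralizer ({π ⟨y, hyK⟩} : Set AutM22)) := π.subgroupComap _
      have hrs : Function.Surjective r := by
        intro a
        obtain ⟨k, hk⟩ := (K.range.symm ▸ (Subgroup.mem_inf.mp a.2).1 : (a : AutM22) ∈ π.range)
        have hkR : k ∈ R := by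
          change π k ∈ inn ⊓ Subgroup.centralizer ({π ⟨y, hyK⟩} : Set AutM22)
          rw [hk]; exact a.2
        exact ⟨⟨k, hkR⟩, Subtype.ext hk⟩
      have h1 := Subgroup.card_mul_index r.ker
      rw [Subgroup.index_ker, MonoidHom.range_eq_top.mpr hrs, Subgroup.card_top,
        (autFacts.cent_three _ hyord).2] at h1
      have hk : Nat.card r.ker = 6 := by
        have hle : π.ker ≤ R := fun k hk => by
          change π k ∈ inn ⊓ Subgroup.centralizer ({π ⟨y, hyK⟩} : Set AutM22)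
          rw [MonoidHom.mem_ker.mp hk]; exact one_mem _
        have hre : r.ker = π.ker.subgroupOf R := by
          ext k
          rw [MonoidHom.mem_ker, Subgroup.mem_subgroupOf, MonoidHom.mem_ker]
          exact ⟨fun h => congrArg Subtype.val h, fun h => Subtype.ext h⟩
        rw [hre, Nat.card_congr (Subgroup.subgroupOfEquivOfLe hle).toEquiv]
        have h2 := Subgroup.card_mul_index π.ker
        rw [Subgroup.index_ker, K.range, autFacts.card_inn, K.card] at h2
        omega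
      rw [hk] at h1
      exact h1.symm
    have hval : ∀ c : ↥R, ((c : ↥(Cn x)) : G) * y * ((c : ↥(Cn x)) : G)⁻¹ * y⁻¹ ∈ Subgroup.zpowers x := by
      intro c
      have hc : π (c : ↥(Cn x)) ∈ Subgroup.centralizer ({π ⟨y, hyK⟩} : Set AutM22) :=
        (Subgroup.mem_inf.mp c.2).2
      rw [Subgroup.mem_centralizer_singleton_iff] at hc
      have h1 : π ((c : ↥(Cn x)) * ⟨y, hyK⟩ * (c : ↥(Cn x))⁻¹ * (⟨y, hyK⟩ : ↥(Cn x))⁻¹) = 1 := by
        rw [map_mul, map_mul, map_mul, map_inv, map_inv, hc, mul_inv_cancel_right, mul_inv_cancel]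
      set c' := ((c : ↥(Cn x)) : G)
      set w := c' * y * c'⁻¹ * y⁻¹ with hw
      obtain ⟨a, ha, b, hb, e'⟩ := (K.ker _).mp h1
      have e'' : w = a * b := e'
      obtain ⟨hab, hbb⟩ := K.ker_comm ha hb
      have hy3 : y ^ 3 = 1 := by rw [hy, conj_pow, K.x3, mul_one, mul_inv_cancel]
      have hyab : Commute y (a * b) := by
        refine Commute.mul_right ?_ ?_
        · obtain ⟨i, rfl⟩ := ha; exact (mem_cn.mp hyK).zpow_right i
        · rcases K.zpz hb with rfl | rfl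
          exacts [Commute.one_right y, K.zc y hyK]
      have hconj : c' * y * c'⁻¹ = (a * b) * y := by rw [← e'', hw, inv_mul_cancel_right]
      have h3 : (c' * y * c'⁻¹) ^ 3 = 1 := by rw [conj_pow, hy3, mul_one, mul_inv_cancel]
      rw [hconj, hyab.symm.mul_pow, hy3, mul_one, hab.mul_pow, K.zpx ha, one_mul, pow_succ, pow_two,
        hbb, one_mul] at h3
      rw [e'', h3, mul_one]
      exact ha
    let ψ : ↥R →* ↥(Subgroup.zpowers x) := MonoidHom.mk' (fun c => ⟨_, hval c⟩) (fun a b => by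
      refine Subtype.ext ?_
      set a' := ((a : ↥(Cn x)) : G) with ha'
      set b' := ((b : ↥(Cn x)) : G) with hb'
      change a' * b' * y * (a' * b')⁻¹ * y⁻¹ = a' * y * a'⁻¹ * y⁻¹ * (b' * y * b'⁻¹ * y⁻¹)
      obtain ⟨i, hi⟩ := hval b
      have hi' : x ^ i = b' * y * b'⁻¹ * y⁻¹ := hi
      have hax : Commute a' (x ^ i) := (mem_cn.mp (a : ↥(Cn x)).2).zpow_right i
      obtain ⟨j, hj⟩ := hval a
      have hj' : x ^ j = a' * y * a'⁻¹ * y⁻¹ := hj
      rw [← hi', ← hj']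
      have e1 : a' * b' * y * (a' * b')⁻¹ * y⁻¹ = a' * (b' * y * b'⁻¹ * y⁻¹) * a'⁻¹ * (a' * y * a'⁻¹ * y⁻¹) := by
        group
      rw [e1, ← hi', ← hj', hax.eq, mul_inv_cancel_right, ← zpow_add, ← zpow_add, add_comm])
    have hψs : Function.Surjective ψ := by
      have hsK : s ∈ Cn x := mem_cn.mpr hsx
      have hsR : (⟨s, hsK⟩ : ↥(Cn x)) ∈ R := by
        refine Subgroup.mem_inf.mpr ⟨K.range ▸ ⟨_, rfl⟩, Subgroup.mem_centralizer_singleton_iff.mpr ?_⟩
        set xK : ↥(Cn x) := ⟨x, mem_cn.mpr (Commute.refl x)⟩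
        have hx1 : π xK = 1 :=
          (K.ker _).mpr ⟨x, Subgroup.mem_zpowers x, 1, one_mem _, (mul_one x).symm⟩
        have h1 : (⟨s, hsK⟩ : ↥(Cn x)) * ⟨y, hyK⟩ = ⟨y, hyK⟩ * xK * ⟨s, hsK⟩ :=
          Subtype.ext (mul_inv_eq_iff_eq_mul.mp hsy)
        have h2 := congrArg π h1
        rw [map_mul, map_mul, map_mul, hx1, mul_one] at h2
        exact h2
      intro a
      obtain ⟨i, hi⟩ := a.2
      refine ⟨(⟨_, hsR⟩ : ↥R) ^ i, ?_⟩
      rw [map_zpow]
      refine Subtype.ext ?_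
      rw [Subgroup.coe_zpow]
      change (s * y * s⁻¹ * y⁻¹) ^ i = _
      rw [hsy, (mem_cn.mp hyK).eq, mul_inv_cancel_right]
      exact hi
    have h1 := Subgroup.card_mul_index ψ.ker
    rw [Subgroup.index_ker, MonoidHom.range_eq_top.mpr hψs, Subgroup.card_top, Nat.card_zpowers, K.hx,
      hRc] at h1
    have hin : ∀ c : ↥(Cn xC ⊓ Cn yC), ι ⟨c, c.2.1⟩ ∈ R := fun c => by
      refine Subgroup.mem_inf.mpr ⟨K.range ▸ ⟨_, rfl⟩, Subgroup.mem_centralizer_singleton_iff.mpr ?_⟩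
      have h2 : Commute (ι ⟨c, c.2.1⟩) ⟨y, hyK⟩ := by
        refine Subtype.ext ?_
        change ((c : ↥C) : G) * y = y * ((c : ↥C) : G)
        exact congrArg Subtype.val (mem_cn.mp c.2.2).eq
      exact (h2.map π).eq
    have : Nat.card ↥(Cn xC ⊓ Cn yC) = Nat.card ψ.ker := Nat.card_congr
      { toFun := fun c => ⟨⟨ι ⟨c, c.2.1⟩, hin c⟩, by
          refine Subtype.ext ?_
          change ((c : ↥C) : G) * y * ((c : ↥C) : G)⁻¹ * y⁻¹ = 1
          rw [show ((c : ↥C) : G) * y = y * ((c : ↥C) : G) from congrArg Subtype.val (mem_cn.mp c.2.2).eq,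
            mul_inv_cancel_right, mul_inv_cancel]⟩
        invFun := fun k => ⟨⟨(((k : ↥R) : ↥(Cn x)) : G), hKC ((k : ↥R) : ↥(Cn x)).2⟩,
          Subgroup.mem_inf.mpr ⟨mem_cn.mpr (Subtype.ext (mem_cn.mp ((k : ↥R) : ↥(Cn x)).2).eq),
            mem_cn.mpr (Subtype.ext (mul_inv_eq_iff_eq_mul.mp (mul_inv_eq_one.mp
              (congrArg Subtype.val k.2))))⟩⟩
        left_inv := fun c => rfl
        right_inv := fun k => rfl }
    omega
  have hperfC : ⁅Cn xC, Cn xC⁆ = Cn xC := by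
    refine Subgroup.map_injective C.subtype_injective ?_
    rw [Subgroup.map_commutator]
    have hmap : (Cn xC).map C.subtype = Cn x := by
      ext c
      constructor
      · rintro ⟨c', hc', rfl⟩
        exact mem_cn.mpr (congrArg Subtype.val (mem_cn.mp hc').eq)
      · intro hc
        exact ⟨⟨c, hKC hc⟩, mem_cn.mpr (Subtype.ext (mem_cn.mp hc).eq), rfl⟩
    rw [hmap, K.perfect]
  have hrangeC : (π.comp ι).range = inn := by
    rw [MonoidHom.range_comp, MonoidHom.range_eq_top.mpr hιs, ← MonoidHom.range_eq_map, K.range]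
  have six : Six xC yC tC zC uC sC (π.comp ι) :=
    { z_central := hzC
      hz := by rw [Subgroup.orderOf_mk]; exact K.hz
      hx := by rw [Subgroup.orderOf_mk]; exact K.hx
      hy := by
        rw [Subgroup.orderOf_mk, hy, ← K.hx]
        exact MulEquiv.orderOf_eq (MulAut.conj d) x
      ht := by rw [Subgroup.orderOf_mk]; exact hto
      yx := Subtype.ext (mem_cn.mp hyK).eq
      tx := Subtype.ext htx.eq
      ty := fun c hc => Subtype.ext (hty c (congrArg Subtype.val hc.eq)).eq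
      t_out := fun h1 h2 => by
        have hto' : t * t = 1 := by rw [← pow_two, ← hto, pow_orderOf_eq_one]
        rcases invker t (mem_cn.mpr htx) h2 hto' with e' | e'
        · rw [e', orderOf_one] at hto; omega
        · exact htne e'
      y_out := fun h1 h2 => by
        have h3 : π ⟨y, hyK⟩ = 1 := h2
        rw [h3, orderOf_one] at hyord
        omega
      ux := Subtype.ext hux
      uy := Subtype.ext huy.eq
      sx := Subtype.ext hsx.eq
      sy := Subtype.ext hsy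
      range := hrangeC
      ker := hkerC
      kcard := by rw [Nat.card_congr (Equiv.ofBijective ι ⟨hιi, hιs⟩), K.card]
      perfect := hperfC
      cls := fun a hax ha3 => by
        rcases hcls a (congrArg Subtype.val hax.eq) (congrArg Subtype.val ha3) with h1 | ⟨k, hk, e'⟩
        · left
          obtain ⟨i, hi⟩ := h1
          exact ⟨i, Subtype.ext (by simpa [xC] using hi)⟩
        · right
          exact ⟨⟨k, hKC (mem_cn.mpr hk)⟩, Subtype.ext hk.eq, Subtype.ext e'⟩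
      cy_card := hcy
      cy_two := hcy2
      cy_exp2 := hexp
      cxy_card := hxy
      no81 := fun h1 => h81 (h1.trans (Subgroup.card_subgroup_dvd_card C))
      self := hself }
  exact janko_of_six z K.hz six

end Cfsg.Agent.Lib.J4Six76
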